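import Cfsg.Agent.RootSub.Quad.Basic
import Cfsg.Agent.RootSub.Dickson.Rigidity

/-!
# Congruence subgroups of the word group, and the case of a nilpotent product
-/

namespace Cfsg.Agent.RootSub.Quad

open Polynomial Dickson
open scoped MatrixGroups

section Perfect

variable {K : Type*} [Field K]

theorem commutator_sl2_eq_top (hc : ∃ c : K, c ≠ 0 ∧ c ^ 2 ≠ 1) :
    commutator SL(2, K) = ⊤ := by
  obtain ⟨c, hc0, hc⟩ := hc
  have hc1 : c ^ 2 - 1 ≠ 0 := sub_ne_zero.mpr hc
  let H : SL(2, K) := ⟨!![c, 0; 0, c⁻¹], by simp [Matrix.det_fin_two, hc0]⟩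
  have hH : (H : Matrix (Fin 2) (Fin 2) K) = !![c, 0; 0, c⁻¹] := rfl
  have hu : ∀ r : K, upR r ∈ commutator SL(2, K) := by
    intro r
    have h : H * upR (r / (c ^ 2 - 1)) * H⁻¹ * (upR (r / (c ^ 2 - 1)))⁻¹ = upR r := by
      rw [upR_inv, mul_inv_eq_iff_eq_mul.mpr (show H * upR (r / (c ^ 2 - 1)) =
        upR (c ^ 2 * (r / (c ^ 2 - 1))) * H by
          apply ext_entries <;>
            simp [hH, coe_upR, Matrix.mul_apply, Fin.sum_univ_two]
          field_simp), ← upR_add]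
      congr 1
      field_simp
      ring
    rw [← h, commutator_def]
    exact Subgroup.commutator_mem_commutator (Subgroup.mem_top _) (Subgroup.mem_top _)
  let W : SL(2, K) := ⟨!![0, 1; -1, 0], by simp [Matrix.det_fin_two]⟩
  have hWm : (W : Matrix (Fin 2) (Fin 2) K) = !![0, 1; -1, 0] := rfl
  haveI : (commutator SL(2, K)).Normal := inferInstance
  refine eq_top_of_trans hu fun r => ?_
  have := Subgroup.Normal.conj_mem (inferInstance : (commutator SL(2, K)).Normal) _ (hu (-r)) W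
  rwa [conj_upR (show W 0 0 = 0 by simp [hWm]), show -(W 1 0) ^ 2 * -r = r by simp [hWm]] at this

theorem derivedSeries_sl2 (hc : ∃ c : K, c ≠ 0 ∧ c ^ 2 ≠ 1) (n : ℕ) :
    derivedSeries SL(2, K) n = ⊤ := by
  induction n with
  | zero => rfl
  | succ n ih => rw [derivedSeries_succ, ih, ← commutator_def, commutator_sl2_eq_top hc]

end Perfect

variable (k : Type*) [Field k]

/-- Word matrices congruent to 1 modulo X^N. -/
noncomputable def congW (N : ℕ) : Subgroup SL(2, k[X]) :=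
  (Matrix.SpecialLinearGroup.map (Ideal.Quotient.mk (Ideal.span {(X : k[X]) ^ N}))).ker

variable {k}

theorem mem_congW {N : ℕ} {W : SL(2, k[X])} :
    W ∈ congW k N ↔ X ^ N ∣ W 0 0 - 1 ∧ X ^ N ∣ W 0 1 ∧ X ^ N ∣ W 1 0 ∧ X ^ N ∣ W 1 1 - 1 := by
  simp only [congW, MonoidHom.mem_ker, ← Ideal.mem_span_singleton,
    ← Ideal.Quotient.eq_zero_iff_mem, map_sub, map_one, sub_eq_zero]
  constructor
  · intro h
    have e : ∀ i j, Matrix.SpecialLinearGroup.map
        (Ideal.Quotient.mk (Ideal.span {(X : k[X]) ^ N})) W i j =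
        (1 : SL(2, k[X] ⧸ Ideal.span {(X : k[X]) ^ N})) i j := fun i j => by rw [h]
    simp only [Matrix.SpecialLinearGroup.map_apply_coe, RingHom.mapMatrix_apply, Matrix.map_apply,
      Matrix.SpecialLinearGroup.coe_one] at e
    exact ⟨by simpa using e 0 0, by simpa using e 0 1, by simpa using e 1 0, by simpa using e 1 1⟩
  · rintro ⟨h1, h2, h3, h4⟩
    apply ext_entries <;>
      simp [Matrix.SpecialLinearGroup.map_apply_coe, RingHom.mapMatrix_apply, h1, h2, h3, h4]

/-- Word matrices are upper unitriangular modulo X. -/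
theorem word_mod_X {W : SL(2, k[X])} (hW : W ∈ wordGroup k) :
    (W 0 0).coeff 0 = 1 ∧ (W 1 0).coeff 0 = 0 ∧ (W 1 1).coeff 0 = 1 := by
  obtain ⟨⟨hl, hd⟩, h0⟩ := admissible_of_mem hW
  exact ⟨h0, hl, hd ▸ h0⟩

theorem commutator_mem_congW_one {g h : SL(2, k[X])} (hg : g ∈ wordGroup k)
    (hh : h ∈ wordGroup k) : g * h * g⁻¹ * h⁻¹ ∈ congW k 1 := by
  rw [congW, MonoidHom.mem_ker]
  set π := Ideal.Quotient.mk (Ideal.span {(X : k[X]) ^ 1})
  have key : ∀ W : SL(2, k[X]), W ∈ wordGroup k →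
      Matrix.SpecialLinearGroup.map π W = upR (π (W 0 1)) := by
    intro W hW
    obtain ⟨h00, h10, h11⟩ := word_mod_X hW
    have e : ∀ p : k[X], p.coeff 0 = 1 → π p = 1 := fun p hp => by
      rw [← map_one π, Ideal.Quotient.eq, Ideal.mem_span_singleton, pow_one, X_dvd_iff]
      simp [hp]
    have e0 : π (W 1 0) = 0 := by
      rw [Ideal.Quotient.eq_zero_iff_mem, Ideal.mem_span_singleton, pow_one, X_dvd_iff]; exact h10
    apply ext_entries <;>
      simp [Matrix.SpecialLinearGroup.map_apply_coe, RingHom.mapMatrix_apply, coe_upR, e _ h00,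
        e _ h11, e0]
  rw [map_mul, map_mul, map_mul, map_inv, map_inv, key g hg, key h hh, upR_inv, upR_inv,
    ← upR_add, ← upR_add, ← upR_add, ← upR_zero]
  congr 1
  ring

theorem commutator_mem_congW_succ {n : ℕ} (hn : 1 ≤ n) {g h : SL(2, k[X])} (hg : g ∈ congW k n)
    (hh : h ∈ congW k n) : g * h * g⁻¹ * h⁻¹ ∈ congW k (n + 1) := by
  rw [congW, MonoidHom.mem_ker]
  set π := Ideal.Quotient.mk (Ideal.span {(X : k[X]) ^ (n + 1)})
  set φ := Matrix.SpecialLinearGroup.map (n := Fin 2) π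
  suffices φ g * φ h = φ h * φ g by
    rw [map_mul, map_mul, map_mul, map_inv, map_inv, this, mul_inv_cancel_right, mul_inv_cancel]
  have hz : ∀ p q : k[X], X ^ n ∣ p → X ^ n ∣ q → π p * π q = 0 := fun p q hp hq => by
    rw [← map_mul, Ideal.Quotient.eq_zero_iff_mem, Ideal.mem_span_singleton]
    refine (pow_dvd_pow X (show n + 1 ≤ n + n by omega)).trans ?_
    rw [pow_add]; exact mul_dvd_mul hp hq
  obtain ⟨g0, g1, g2, g3⟩ := mem_congW.mp hg
  obtain ⟨h0, h1, h2, h3⟩ := mem_congW.mp hh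
  have e1 : ∀ p : k[X], π p = π (p - 1) + 1 := fun p => by rw [map_sub, map_one, sub_add_cancel]
  apply ext_entries <;>
    simp only [φ, Matrix.SpecialLinearGroup.coe_mul, Matrix.SpecialLinearGroup.map_apply_coe,
      RingHom.mapMatrix_apply, Matrix.map_apply, Matrix.mul_apply, Fin.sum_univ_two] <;>
    (try rw [e1 (g 0 0)]) <;> (try rw [e1 (g 1 1)]) <;> (try rw [e1 (h 0 0)]) <;>
    (try rw [e1 (h 1 1)]) <;>
    simp only [add_mul, mul_add, one_mul, mul_one, hz _ _ g0 h0, hz _ _ h0 g0, hz _ _ g1 h2,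
      hz _ _ h1 g2, hz _ _ g0 h1, hz _ _ h0 g1, hz _ _ g1 h3, hz _ _ h1 g3, hz _ _ g2 h0,
      hz _ _ h2 g0, hz _ _ g3 h2, hz _ _ h3 g2, hz _ _ g2 h1, hz _ _ h2 g1, hz _ _ g3 h3,
      hz _ _ h3 g3] <;>
    ring

theorem derived_le_congW (n : ℕ) :
    derivedSeries (wordGroup k) (n + 1) ≤ (congW k (n + 1)).subgroupOf (wordGroup k) := by
  induction n with
  | zero =>
    rw [derivedSeries_succ, derivedSeries_zero, Subgroup.commutator_le]
    intro g _ h _
    exact commutator_mem_congW_one g.2 h.2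
  | succ n ih =>
    rw [derivedSeries_succ, Subgroup.commutator_le]
    intro g hg h hh
    exact commutator_mem_congW_succ (Nat.succ_pos n) (ih hg) (ih hh)

/-- Word matrices ≡ 1 mod X^N surject onto SL₂ of every residue field at a non-zero value. -/
theorem congW_surjective {K : Type*} [Field K] [Algebra k K] [FiniteDimensional k K]
    (h2 : (2 : k) ≠ 0) (h3 : Nat.card k ≠ 3) (f : k[X] →ₐ[k] K) (hf : Function.Surjective f)
    (hX : f X ≠ 0) (N : ℕ) (g : SL(2, K)) :
    ∃ W ∈ wordGroup k ⊓ congW k N,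
      Matrix.SpecialLinearGroup.map (f : k[X] →+* K) W = g := by
  let φ : wordGroup k →* SL(2, K) :=
    (Matrix.SpecialLinearGroup.map (f : k[X] →+* K)).comp (wordGroup k).subtype
  have hgen : Algebra.adjoin k ({f X} : Set K) = ⊤ := by
    rw [← Set.image_singleton, ← AlgHom.map_adjoin, adjoin_X, Algebra.map_top,
      AlgHom.range_eq_top]
    exact hf
  have hφ : Function.Surjective φ := by
    intro g
    have : g ∈ (wordGroup k).map (Matrix.SpecialLinearGroup.map (f : k[X] →+* K)) := by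
      rw [wordGroup, map_dicksonGroup, dicksonGroup_eq_top h2 h3 hX hgen]; exact Subgroup.mem_top g
    obtain ⟨W, hW, rfl⟩ := this
    exact ⟨⟨W, hW⟩, rfl⟩
  have hc : ∃ c : K, c ≠ 0 ∧ c ^ 2 ≠ 1 := by
    obtain ⟨c, hc0, hc⟩ := exists_sq_ne_one h3 h2
    refine ⟨algebraMap k K c, by simpa using hc0, fun h => hc ((algebraMap k K).injective ?_)⟩
    rwa [map_pow, map_one]
  have hg : g ∈ (derivedSeries (wordGroup k) (N + 1)).map φ := by
    rw [map_derivedSeries_eq hφ, derivedSeries_sl2 hc]; exact Subgroup.mem_top g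
  obtain ⟨W, hW, rfl⟩ := hg
  refine ⟨W, ⟨W.2, ?_⟩, rfl⟩
  obtain ⟨a, b, c, d⟩ := mem_congW.mp (derived_le_congW N hW)
  have hN : (X : k[X]) ^ N ∣ X ^ (N + 1) := pow_dvd_pow X (Nat.le_succ N)
  exact mem_congW.mpr ⟨hN.trans a, hN.trans b, hN.trans c, hN.trans d⟩

theorem conj_mem_congW {g W : SL(2, k[X])} {N : ℕ} (hg : g ∈ wordGroup k)
    (hW : W ∈ wordGroup k ⊓ congW k N) : g * W * g⁻¹ ∈ wordGroup k ⊓ congW k N :=
  Subgroup.mem_inf.mpr ⟨mul_mem (mul_mem hg (Subgroup.mem_inf.mp hW).1) (inv_mem hg),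
    (MonoidHom.normal_ker _).conj_mem _ (Subgroup.mem_inf.mp hW).2 g⟩

/-- The word matrices of level j with parameter u.coeff 0. -/
def IsLevel (j : ℕ) (W : SL(2, k[X])) (u : k[X]) : Prop :=
  ∃ a v d : k[X], (W : Matrix (Fin 2) (Fin 2) k[X]) =
    !![1 + X ^ (j + 1) * a, X ^ j * u; X ^ (j + 2) * v, 1 + X ^ (j + 1) * d]

theorem level_step {j : ℕ} {W : SL(2, k[X])} {u : k[X]} (hW : W ∈ wordGroup k)
    (h : IsLevel j W u) :
    ∃ W' ∈ wordGroup k, ∃ u', IsLevel (j + 1) W' u' ∧ u'.coeff 0 = 2 * u.coeff 0 := by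
  obtain ⟨a, v, d, hWe⟩ := h
  have hone : upR (algebraMap k k[X] 1) ∈ wordGroup k := upR_mem k (X : k[X]) 1
  have htwo : lowR (algebraMap k k[X] 1 * X) ∈ wordGroup k := lowR_mem k (X : k[X]) 1
  set h := upR (algebraMap k k[X] 1) * lowR (algebraMap k k[X] 1 * X) *
    (upR (algebraMap k k[X] 1))⁻¹ * (lowR (algebraMap k k[X] 1 * X))⁻¹ with hh
  have hhW : h ∈ wordGroup k :=
    mul_mem (mul_mem (mul_mem hone htwo) (inv_mem hone)) (inv_mem htwo)
  have hhe : (h : Matrix (Fin 2) (Fin 2) k[X]) = !![1 + X * (1 + X), -X; X ^ 2, 1 - X] := by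
    rw [hh]
    simp only [upR_inv, lowR_inv, Matrix.SpecialLinearGroup.coe_mul, coe_upR, coe_lowR]
    refine Matrix.ext fun i j => ?_
    fin_cases i <;> fin_cases j <;> simp [Matrix.mul_apply, Fin.sum_univ_two] <;> ring
  refine ⟨h * W * h⁻¹ * W⁻¹, mul_mem (mul_mem (mul_mem hhW hW) (inv_mem hhW)) (inv_mem hW), ?_⟩
  -- the commutator C = hW - Wh, divided by X^(j+1)
  set c00 : k[X] := -(X * v) - u with hc00
  set c01 : k[X] := (2 + X) * u - X * (d - a) with hc01
  set c10 : k[X] := (a - d) - (2 + X) * v with hc10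
  -- W^{-1}-part: h⁻¹ W⁻¹
  set w00 : k[X] := (1 - X) * (1 + X ^ (j + 1) * d) + X * (-(X ^ (j + 2) * v)) with hw00
  set w01 : k[X] := (1 - X) * (-(X ^ j * u)) + X * (1 + X ^ (j + 1) * a) with hw01
  set w10 : k[X] := -(1 + X ^ (j + 1) * d) + (1 + X * (1 + X)) * (-(X ^ j * v)) with hw10
  set w11 : k[X] := X ^ 2 * (X ^ j * u) + (1 + X * (1 + X)) * (1 + X ^ (j + 1) * a) with hw11
  refine ⟨X * c00 * w01 + c01 * w11,
    ⟨c00 * w00 + X * c01 * w10, c10 * w00 - X * c00 * w10,
      X * c10 * w01 - c00 * w11, ?_⟩, ?_⟩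
  · simp only [Matrix.SpecialLinearGroup.coe_mul, Matrix.SpecialLinearGroup.coe_inv,
      Matrix.adjugate_fin_two, hWe, hhe]
    have hdW : (1 + X ^ (j + 1) * a) * (1 + X ^ (j + 1) * d) -
        X ^ j * u * (X ^ (j + 2) * v) = 1 := by
      have := det2 W
      rw [hWe] at this
      simpa using this
    simp only [hc00, hc01, hc10, hw00, hw01, hw10, hw11]
    refine Matrix.ext fun i l => ?_
    fin_cases i <;> fin_cases l <;> simp [Matrix.mul_apply, Fin.sum_univ_two]
    · linear_combination hdW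
    · ring
    · ring
    · linear_combination hdW
  · simp [hc00, hc01, hw01, hw11]

theorem level_exists (h2 : (2 : k) ≠ 0) (j : ℕ) (t : k) :
    ∃ W ∈ wordGroup k, ∃ u, IsLevel j W u ∧ u.coeff 0 = t := by
  induction j generalizing t with
  | zero =>
    refine ⟨_, upR_mem k (X : k[X]) t, C t, ⟨0, 0, 0, ?_⟩, coeff_C_zero⟩
    refine Matrix.ext fun i l => ?_
    fin_cases i <;> fin_cases l <;> simp [coe_upR]
  | succ j ih =>
    obtain ⟨W, hW, u, hu, hut⟩ := ih (t / 2)
    obtain ⟨W', hW', u', hu', hu't⟩ := level_step hW hu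
    exact ⟨W', hW', u', hu', by rw [hu't, hut]; field_simp⟩

theorem compNeg_mem {W : SL(2, k[X])} (hW : W ∈ wordGroup k) :
    Matrix.SpecialLinearGroup.map ((aeval (-X : k[X]) : k[X] →ₐ[k] k[X]) : k[X] →+* k[X]) W ∈
      wordGroup k := by
  set φ := (aeval (-X : k[X]) : k[X] →ₐ[k] k[X])
  have : (wordGroup k).map (Matrix.SpecialLinearGroup.map (φ : k[X] →+* k[X])) ≤ wordGroup k := by
    rw [wordGroup, map_dicksonGroup, dicksonGroup, Subgroup.closure_le]
    rintro _ (⟨t, rfl⟩ | ⟨t, rfl⟩)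
    · exact upR_mem k (X : k[X]) t
    · have := lowR_mem k (X : k[X]) (-t)
      simpa [φ] using this
  exact this ⟨W, hW, rfl⟩

/-- A level matrix whose diagonal is 1 to one order more. -/
theorem level_top (h2 : (2 : k) ≠ 0) (j : ℕ) (t : k) :
    ∃ W ∈ wordGroup k, ∃ a v d u : k[X], u.coeff 0 = t ∧ (W : Matrix (Fin 2) (Fin 2) k[X]) =
      !![1 + X ^ (j + 2) * a, X ^ j * u; X ^ (j + 2) * v, 1 + X ^ (j + 2) * d] := by
  obtain ⟨W, hW, u, ⟨a, v, d, hWe⟩, hu⟩ := level_exists h2 j (t / 2)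
  have hdW : (1 + X ^ (j + 1) * a) * (1 + X ^ (j + 1) * d) -
      X ^ j * u * (X ^ (j + 2) * v) = 1 := by
    have := det2 W
    rw [hWe] at this
    simpa using this
  have hd0 : a.coeff 0 + d.coeff 0 = 0 := by
    have h : X ^ (j + 1) * (a + d + X ^ (j + 1) * (a * d - u * v)) = X ^ (j + 1) * 0 := by
      linear_combination hdW
    have h' := congrArg (fun p : k[X] => p.coeff 0) (mul_left_cancel₀ (pow_ne_zero _ X_ne_zero) h)
    simpa using h'
  -- the second factor
  obtain ⟨W2, hW2, a', v', d', u', hW2e, ha', hu'⟩ : ∃ W2 ∈ wordGroup k, ∃ a' v' d' u' : k[X],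
      (W2 : Matrix (Fin 2) (Fin 2) k[X]) =
        !![1 + X ^ (j + 1) * a', X ^ j * u'; X ^ (j + 2) * v', 1 + X ^ (j + 1) * d'] ∧
      a'.coeff 0 = -a.coeff 0 ∧ u'.coeff 0 = t / 2 := by
    set φ := (aeval (-X : k[X]) : k[X] →ₐ[k] k[X]) with hφ
    set V := Matrix.SpecialLinearGroup.map (φ : k[X] →+* k[X]) W with hV
    have hVW : V ∈ wordGroup k := compNeg_mem hW
    have hc : ∀ p : k[X], (φ p).coeff 0 = p.coeff 0 := fun p => by
      rw [hφ, coeff_zero_eq_eval_zero, coeff_zero_eq_eval_zero, ← comp_eq_aeval, eval_comp]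
      simp
    have hVe : (V : Matrix (Fin 2) (Fin 2) k[X]) =
        !![1 + X ^ (j + 1) * ((-1) ^ (j + 1) * φ a), X ^ j * ((-1) ^ j * φ u);
          X ^ (j + 2) * ((-1) ^ j * φ v), 1 + X ^ (j + 1) * ((-1) ^ (j + 1) * φ d)] := by
      rw [hV, Matrix.SpecialLinearGroup.map_apply_coe, RingHom.mapMatrix_apply, hWe]
      refine Matrix.ext fun i l => ?_
      fin_cases i <;> fin_cases l <;>
        simp [hφ, neg_pow (X : k[X])] <;> ring
    rcases Nat.even_or_odd j with hj | hj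
    · refine ⟨V, hVW, _, _, _, _, hVe, ?_, ?_⟩
      · rw [pow_succ, hj.neg_one_pow]; simp [hc]
      · rw [hj.neg_one_pow]; simp [hc, hu]
    · refine ⟨V⁻¹, inv_mem hVW, φ d, φ v, φ a, φ u, ?_, ?_, by rw [hc, hu]⟩
      · rw [Matrix.SpecialLinearGroup.coe_inv, hVe, Matrix.adjugate_fin_two, hj.neg_one_pow,
          hj.add_one.neg_one_pow]
        refine Matrix.ext fun i l => ?_
        fin_cases i <;> fin_cases l <;> simp
      · rw [hc]; linear_combination hd0
  obtain ⟨q, hq⟩ := X_dvd_iff.mpr (show (a + a').coeff 0 = 0 by simp [ha'])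
  have hd'0 : a'.coeff 0 + d'.coeff 0 = 0 := by
    have hdW2 := det2 W2
    rw [hW2e] at hdW2
    simp at hdW2
    have h : X ^ (j + 1) * (a' + d' + X ^ (j + 1) * (a' * d' - u' * v')) = X ^ (j + 1) * 0 := by
      linear_combination hdW2
    have h' := congrArg (fun p : k[X] => p.coeff 0) (mul_left_cancel₀ (pow_ne_zero _ X_ne_zero) h)
    simpa using h'
  obtain ⟨r, hr⟩ := X_dvd_iff.mpr (show (d + d').coeff 0 = 0 by
    simp only [coeff_add]
    linear_combination hd0 + hd'0 - ha')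
  refine ⟨W * W2, mul_mem hW hW2,
    q + X ^ j * (a * a' + u * v'), v * (1 + X ^ (j + 1) * a') + (1 + X ^ (j + 1) * d) * v',
    r + X ^ j * (d * d' + v * u'), u' * (1 + X ^ (j + 1) * a) + u * (1 + X ^ (j + 1) * d'),
    by simp [hu, hu']; field_simp; ring, ?_⟩
  rw [Matrix.SpecialLinearGroup.coe_mul, hWe, hW2e]
  refine Matrix.ext fun i l => ?_
  fin_cases i <;> fin_cases l <;> simp [Matrix.mul_apply, Fin.sum_univ_two]
  · linear_combination X ^ (j + 1) * hq
  · ring
  · ring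
  · linear_combination X ^ (j + 1) * hr

section Nilpotent

variable {M : Type*} [AddCommGroup M] [Module k M]
variable {G : Subgroup (LinearMap.GeneralLinearGroup k M)}

theorem termA_X_pow_mul {a b : Module.End k M} {i : ℕ} (h : (a * b) ^ i * a = 0) (f : k[X]) :
    aeval (a * b) (f * X ^ i) * a = 0 := by
  rw [map_mul, map_pow, aeval_X, mul_assoc, h, mul_zero]

theorem divX_one_add (n : ℕ) (f : k[X]) :
    (1 + X ^ (n + 1) * f).coeff 0 = 1 ∧ (1 + X ^ (n + 1) * f).divX = X ^ n * f := by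
  have h0 : (1 + X ^ (n + 1) * f).coeff 0 = 1 := by simp
  refine ⟨h0, mul_left_cancel₀ X_ne_zero ?_⟩
  have := X_mul_divX_add (1 + X ^ (n + 1) * f)
  rw [h0, map_one] at this
  linear_combination this

theorem divX_X_pow_mul (n : ℕ) (f : k[X]) : (X ^ (n + 1) * f).divX = X ^ n * f := by
  refine mul_left_cancel₀ X_ne_zero ?_
  have := X_mul_divX_add (X ^ (n + 1) * f)
  have h0 : (X ^ (n + 1) * f).coeff 0 = (0 : k) := by simp
  rw [h0, map_zero] at this
  linear_combination this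

variable [FiniteDimensional k M]

theorem nilpotent_case_aux (h2 : (2 : k) ≠ 0) {a b : Module.End k M} (ha : IsMin G a)
    (hb : IsMin G b) {j n : ℕ} (hn : (a * b) ^ n = 0)
    (hA : (a * b) ^ (j + 2) * a = 0) (hB : (b * a) ^ (j + 2) * b = 0) :
    (a * b) ^ (j + 1) * a = 0 := by
  by_contra hne
  set a' := (a * b) ^ (j + 1) * a with ha'
  have hsq : a' * a' = 0 := by
    have := A_mul_A (b := b) ha.sq (X ^ (j + 1) : k[X]) (X ^ (j + 1))
    simpa [termA, ha'] using this
  have hq : IsQuad G a' := by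
    refine ⟨hne, hsq, fun t => ?_⟩
    obtain ⟨W, hW, q, v, d, u, hu, hWe⟩ := level_top h2 (j + 1) t
    have h := inG_evalMat ha.toIsQuad hb.toIsQuad hW
    have he : evalMat a b (W : Matrix (Fin 2) (Fin 2) k[X]) = 1 + t • a' := by
      have zA : ∀ f : k[X], aeval (a * b) (f * X ^ (j + 2)) * a = 0 := termA_X_pow_mul hA
      have zB : ∀ f : k[X], aeval (b * a) (f * X ^ (j + 2)) * b = 0 := termA_X_pow_mul hB
      have e00 : ((W : Matrix (Fin 2) (Fin 2) k[X]) 0 0) = 1 + X ^ (j + 3) * q := by rw [hWe]; simp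
      have e01 : ((W : Matrix (Fin 2) (Fin 2) k[X]) 0 1) = X ^ (j + 1) * u := by rw [hWe]; simp
      have e10 : ((W : Matrix (Fin 2) (Fin 2) k[X]) 1 0) = X ^ (j + 3) * v := by rw [hWe]; simp
      have e11 : ((W : Matrix (Fin 2) (Fin 2) k[X]) 1 1) = 1 + X ^ (j + 3) * d := by rw [hWe]; simp
      rw [evalMat, e00, e01, e10, e11, (divX_one_add (j + 2) q).1, (divX_one_add (j + 2) q).2,
        (divX_one_add (j + 2) d).2, divX_X_pow_mul, map_one]
      have t1 : termAB a b (X ^ (j + 2) * q) = 0 := by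
        rw [termAB, mul_comm (X ^ (j + 2)) q, ← mul_assoc, zA, zero_mul]
      have t2 : termAB b a (X ^ (j + 2) * d) = 0 := by
        rw [termAB, mul_comm (X ^ (j + 2)) d, ← mul_assoc, zB, zero_mul]
      have t3 : termA b a (X ^ (j + 2) * v) = 0 := by rw [termA, mul_comm, zB]
      have t4 : termA a b (X ^ (j + 1) * u) = t • a' := by
        rw [eq_divX u, hu, mul_add, termA_add, termA, termA,
          show X ^ (j + 1) * (X * u.divX) = u.divX * X ^ (j + 2) by ring, zA, zero_add, map_mul,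
          map_pow, aeval_X, aeval_C, ← Algebra.commutes, mul_assoc, ha', Algebra.smul_def]
      rw [t1, t2, t3, t4]
      abel
    rwa [he] at h
  -- the rank of a' is less than that of a
  have hle : Module.finrank k (LinearMap.range a) ≤
      Module.finrank k ((LinearMap.range a).map (a * b)) := by
    refine (ha.min a' hq).trans (Submodule.finrank_mono ?_)
    rintro _ ⟨m, rfl⟩
    refine ⟨((a * b) ^ j * a) m, ?_, ?_⟩
    · rw [show (a * b) ^ j * a = a * (b * a) ^ j by
        have := mul_aeval_swap a b (X ^ j : k[X])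
        simpa using this.symm]
      exact ⟨_, rfl⟩
    · rw [← Module.End.mul_apply, ← mul_assoc, ← pow_succ']
  have hmap : (LinearMap.range a).map (a * b) = LinearMap.range a := by
    refine Submodule.eq_of_le_of_finrank_le ?_ hle
    rintro _ ⟨m, -, rfl⟩
    exact ⟨_, rfl⟩
  have hall : ∀ i, (LinearMap.range a).map ((a * b) ^ i) = LinearMap.range a := by
    intro i
    induction i with
    | zero => rw [pow_zero, Module.End.one_eq_id, Submodule.map_id]
    | succ i ih => rw [pow_succ, Module.End.mul_eq_comp, Submodule.map_comp, hmap, ih]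
  have := hall n
  rw [hn, Submodule.map_zero] at this
  exact ha.ne_zero (LinearMap.range_eq_bot.mp this.symm)

/-- If ab is nilpotent then aba = 0 = bab. -/
theorem nilpotent_case (h2 : (2 : k) ≠ 0) {a b : Module.End k M} (ha : IsMin G a)
    (hb : IsMin G b) (h : IsNilpotent (a * b)) : a * b * a = 0 ∧ b * a * b = 0 := by
  obtain ⟨n, hn⟩ := h
  have hn' : (b * a) ^ (n + 1) = 0 := by
    have h' := mul_aeval_swap (b : Module.End k M) a (X ^ n : k[X])
    simp only [map_pow, aeval_X] at h'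
    rw [pow_succ, ← mul_assoc, ← h', hn, mul_zero, zero_mul]
  have hall : ∀ d, (a * b) ^ (1 + (n - d)) * a = 0 ∧ (b * a) ^ (1 + (n - d)) * b = 0 := by
    intro d
    induction d with
    | zero =>
      rw [Nat.sub_zero, add_comm 1 n]
      exact ⟨by rw [pow_succ, hn, zero_mul, zero_mul], by rw [hn', zero_mul]⟩
    | succ d ih =>
      rcases Nat.lt_or_ge d n with hd | hd
      · have he : 1 + (n - d) = (n - (d + 1)) + 2 := by omega
        rw [he] at ih
        have he' : 1 + (n - (d + 1)) = (n - (d + 1)) + 1 := by omega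
        rw [he']
        exact ⟨nilpotent_case_aux h2 ha hb hn ih.1 ih.2,
          nilpotent_case_aux h2 hb ha hn' ih.2 ih.1⟩
      · rw [show 1 + (n - (d + 1)) = 1 + (n - d) by omega]; exact ih
  have := hall n
  simpa [mul_assoc] using this

end Nilpotent

end Cfsg.Agent.RootSub.Quad
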