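import Cfsg.Agent.RootSub.Dickson.Defs

/-!
# The algebra generated by two elements of square zero

If a² = b² = 0 in an algebra, the matrices over k[X] congruent to a scalar modulo the radical
act through a homomorphism sending the upper and lower standard nilpotents to a and b.
-/

namespace Cfsg.Agent.RootSub.Quad

open Matrix Polynomial Dickson
open scoped MatrixGroups

variable {k : Type*} [Field k] {E : Type*} [Ring E] [Algebra k E]

/-- f(ab)·ab -/
noncomputable def termAB (a b : E) (f : k[X]) : E := aeval (a * b) f * (a * b)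

/-- f(ab)·a -/
noncomputable def termA (a b : E) (f : k[X]) : E := aeval (a * b) f * a

theorem termAB_add (a b : E) (f g : k[X]) :
    termAB a b (f + g) = termAB a b f + termAB a b g := by simp [termAB, add_mul]

theorem termA_add (a b : E) (f g : k[X]) :
    termA a b (f + g) = termA a b f + termA a b g := by simp [termA, add_mul]

theorem mul_aeval_swap (a b : E) (f : k[X]) :
    a * aeval (b * a) f = aeval (a * b) f * a := by
  induction f using Polynomial.induction_on' with
  | add p q hp hq => simp [mul_add, add_mul, hp, hq]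
  | monomial n c =>
    have key : a * (b * a) ^ n = (a * b) ^ n * a := by
      induction n with
      | zero => simp
      | succ n ih =>
        rw [pow_succ, pow_succ, ← mul_assoc, ih]
        simp only [mul_assoc]
    simp only [aeval_monomial]
    rw [← mul_assoc, ← Algebra.commutes c a, mul_assoc, key, ← mul_assoc]

theorem termA_eq (a b : E) (f : k[X]) : termA a b f = a * aeval (b * a) f :=
  (mul_aeval_swap a b f).symm

theorem aeval_comm (a : E) (f : k[X]) : a * aeval a f = aeval a f * a := by
  calc a * aeval a f = aeval a (X * f) := by simp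
    _ = aeval a (f * X) := by rw [mul_comm]
    _ = aeval a f * a := by simp

variable {a b : E}

theorem AB_mul_AB (f g : k[X]) :
    termAB a b f * termAB a b g = termAB a b (f * g * X) := by
  simp only [termAB, map_mul, aeval_X, mul_assoc]
  rw [← mul_assoc a b, ← mul_assoc (a * b) (aeval (a * b) g), aeval_comm]
  simp only [mul_assoc]

theorem AB_mul_A (f g : k[X]) : termAB a b f * termA a b g = termA a b (f * g * X) := by
  simp only [termAB, termA, map_mul, aeval_X, mul_assoc]
  rw [← mul_assoc b, ← mul_assoc a, ← mul_assoc a, aeval_comm]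
  simp only [mul_assoc]

theorem A_mul_B (f g : k[X]) : termA a b f * termA b a g = termAB a b (f * g) := by
  simp only [termA, termAB, map_mul, mul_assoc]
  rw [← mul_assoc a, mul_aeval_swap]
  simp only [mul_assoc]

theorem A_mul_BA (f g : k[X]) : termA a b f * termAB b a g = termA a b (f * g * X) := by
  simp only [termA, termAB, map_mul, aeval_X, mul_assoc]
  rw [← mul_assoc a, mul_aeval_swap]
  simp only [mul_assoc]

theorem AB_mul_B (hb : b * b = 0) (f g : k[X]) : termAB a b f * termA b a g = 0 := by
  rw [termA_eq b a, termAB, mul_assoc, mul_assoc, ← mul_assoc b b, hb]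
  simp

theorem AB_mul_BA (hb : b * b = 0) (f g : k[X]) : termAB a b f * termAB b a g = 0 := by
  simp only [termAB, mul_assoc]
  rw [← mul_assoc (aeval (b * a) g), ← mul_aeval_swap, ← mul_assoc b, ← mul_assoc b b, hb]
  simp

theorem A_mul_A (ha : a * a = 0) (f g : k[X]) : termA a b f * termA a b g = 0 := by
  rw [termA_eq a b g, termA, mul_assoc, ← mul_assoc a a, ha]
  simp

theorem A_mul_AB (ha : a * a = 0) (f g : k[X]) : termA a b f * termAB a b g = 0 := by
  simp only [termA, termAB, mul_assoc]
  rw [← mul_assoc (aeval (a * b) g), ← mul_aeval_swap, ← mul_assoc a, ← mul_assoc a a, ha]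
  simp

/-- A matrix over k[X] that is scalar modulo the radical. -/
structure Admissible (M : Matrix (Fin 2) (Fin 2) k[X]) : Prop where
  low : (M 1 0).coeff 0 = 0
  diag : (M 0 0).coeff 0 = (M 1 1).coeff 0

/-- The element of the algebra attached to an admissible matrix. -/
noncomputable def evalMat (a b : E) (M : Matrix (Fin 2) (Fin 2) k[X]) : E :=
  algebraMap k E ((M 0 0).coeff 0) + termAB a b (M 0 0).divX + termA a b (M 0 1) +
    termA b a (M 1 0).divX + termAB b a (M 1 1).divX

theorem Admissible.mul {M N : Matrix (Fin 2) (Fin 2) k[X]} (hM : Admissible M)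
    (hN : Admissible N) : Admissible (M * N) := by
  constructor <;> simp [Matrix.mul_apply, Fin.sum_univ_two, hM.low, hN.low, hM.diag, hN.diag]

theorem eq_divX (p : k[X]) : p = X * p.divX + C (p.coeff 0) := (X_mul_divX_add p).symm

theorem evalMat_mul (ha : a * a = 0) (hb : b * b = 0) {M N : Matrix (Fin 2) (Fin 2) k[X]}
    (hM : Admissible M) (hN : Admissible N) :
    evalMat a b (M * N) = evalMat a b M * evalMat a b N := by
  have h00 : ((M * N) 0 0).divX = (M 0 0).divX * (N 0 0).divX * X +
      C ((N 0 0).coeff 0) * (M 0 0).divX + C ((M 0 0).coeff 0) * (N 0 0).divX +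
        M 0 1 * (N 1 0).divX := by
    refine mul_left_cancel₀ (X_ne_zero (R := k)) ?_
    rw [eq_sub_of_add_eq (X_mul_divX_add ((M * N) 0 0))]
    simp only [Matrix.mul_apply, Fin.sum_univ_two, coeff_add, mul_coeff_zero, hN.low, mul_zero,
      add_zero, map_mul]
    conv_lhs => rw [eq_divX (M 0 0), eq_divX (N 0 0), eq_divX (N 1 0), hN.low]
    simp only [map_zero, add_zero, coeff_add, mul_coeff_zero, coeff_X_zero, zero_mul, coeff_C_zero, zero_add]; ring
  have h11 : ((M * N) 1 1).divX = (M 1 1).divX * (N 1 1).divX * X +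
      C ((N 1 1).coeff 0) * (M 1 1).divX + C ((M 1 1).coeff 0) * (N 1 1).divX +
        (M 1 0).divX * N 0 1 := by
    refine mul_left_cancel₀ (X_ne_zero (R := k)) ?_
    rw [eq_sub_of_add_eq (X_mul_divX_add ((M * N) 1 1))]
    simp only [Matrix.mul_apply, Fin.sum_univ_two, coeff_add, mul_coeff_zero, hM.low, zero_mul,
      zero_add, map_mul]
    conv_lhs => rw [eq_divX (M 1 1), eq_divX (N 1 1), eq_divX (M 1 0), hM.low]
    simp only [map_zero, add_zero, coeff_add, mul_coeff_zero, coeff_X_zero, zero_mul, coeff_C_zero, zero_add]; ring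
  have h10 : ((M * N) 1 0).divX = (M 1 0).divX * (N 0 0).divX * X +
      C ((N 0 0).coeff 0) * (M 1 0).divX + (M 1 1).divX * (N 1 0).divX * X +
        C ((M 1 1).coeff 0) * (N 1 0).divX := by
    refine mul_left_cancel₀ (X_ne_zero (R := k)) ?_
    rw [eq_sub_of_add_eq (X_mul_divX_add ((M * N) 1 0))]
    simp only [Matrix.mul_apply, Fin.sum_univ_two, coeff_add, mul_coeff_zero, hM.low, hN.low,
      zero_mul, mul_zero, add_zero, map_zero, sub_zero]
    conv_lhs => rw [eq_divX (M 1 0), eq_divX (N 0 0), eq_divX (M 1 1), eq_divX (N 1 0), hM.low,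
      hN.low]
    simp only [map_zero, add_zero]; ring
  have h01 : (M * N) 0 1 = (M 0 0).divX * N 0 1 * X + C ((M 0 0).coeff 0) * N 0 1 +
      M 0 1 * (N 1 1).divX * X + C ((N 1 1).coeff 0) * M 0 1 := by
    simp only [Matrix.mul_apply, Fin.sum_univ_two]
    conv_lhs => rw [eq_divX (M 0 0), eq_divX (N 1 1)]
    ring
  have hc : ((M * N) 0 0).coeff 0 = (M 0 0).coeff 0 * (N 0 0).coeff 0 := by
    simp [Matrix.mul_apply, Fin.sum_univ_two, hN.low]
  have hC : ∀ (c : k) (f : k[X]) (u v : E), termAB u v (C c * f) = c • termAB u v f ∧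
      termA u v (C c * f) = c • termA u v f := fun c f u v => by
    constructor <;> simp [termAB, termA, Algebra.smul_def, mul_assoc]
  simp only [evalMat, h00, h01, h10, h11, hc, termAB_add, termA_add, (hC _ _ _ _).1, (hC _ _ _ _).2,
    Algebra.algebraMap_eq_smul_one]
  simp only [add_mul, mul_add, AB_mul_AB, AB_mul_A, A_mul_B, A_mul_BA, AB_mul_B hb,
    AB_mul_BA hb, AB_mul_B ha, AB_mul_BA ha, A_mul_A ha, A_mul_AB ha, A_mul_A hb, A_mul_AB hb,
    smul_mul_assoc, mul_smul_comm, one_mul, mul_one, ← hM.diag, ← hN.diag]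
  module

theorem evalMat_one : evalMat a b (1 : Matrix (Fin 2) (Fin 2) k[X]) = 1 := by
  simp [evalMat, termA, termAB, divX_one]

theorem admissible_one : Admissible (1 : Matrix (Fin 2) (Fin 2) k[X]) := by
  constructor <;> simp

theorem admissible_of_mem {M : SL(2, k[X])} (hM : M ∈ wordGroup k) :
    Admissible (M : Matrix (Fin 2) (Fin 2) k[X]) ∧ ((M : Matrix (Fin 2) (Fin 2) k[X]) 0 0).coeff 0 = 1 := by
  induction hM using Subgroup.closure_induction'' with
  | one =>
    rw [Matrix.SpecialLinearGroup.coe_one]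
    exact ⟨admissible_one, by simp⟩
  | mem g hg =>
    rcases hg with ⟨t, rfl⟩ | ⟨t, rfl⟩ <;>
      exact ⟨⟨by simp [coe_upR, coe_lowR], by simp [coe_upR, coe_lowR]⟩,
        by simp [coe_upR, coe_lowR]⟩
  | inv_mem g hg =>
    rcases hg with ⟨t, rfl⟩ | ⟨t, rfl⟩
    · simp only [upR_inv]
      exact ⟨⟨by simp [coe_upR], by simp [coe_upR]⟩, by simp [coe_upR]⟩
    · simp only [lowR_inv]
      exact ⟨⟨by simp [coe_lowR], by simp [coe_lowR]⟩, by simp [coe_lowR]⟩
  | mul g h _ _ ihg ihh =>
    rw [Matrix.SpecialLinearGroup.coe_mul]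
    refine ⟨ihg.1.mul ihh.1, ?_⟩
    simp [Matrix.mul_apply, Fin.sum_univ_two, ihh.1.low, ihg.2, ihh.2]

/-- The homomorphism from word matrices to the units of the algebra. -/
noncomputable def wordHom (ha : a * a = 0) (hb : b * b = 0) : wordGroup k →* Eˣ :=
  MonoidHom.toHomUnits
    { toFun := fun M => evalMat a b ((M : SL(2, k[X])) : Matrix (Fin 2) (Fin 2) k[X])
      map_one' := by
        simp only [OneMemClass.coe_one, Matrix.SpecialLinearGroup.coe_one]
        exact evalMat_one
      map_mul' := fun M N => by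
        simp only [Subgroup.coe_mul, Matrix.SpecialLinearGroup.coe_mul]
        exact evalMat_mul ha hb (admissible_of_mem M.2).1 (admissible_of_mem N.2).1 }

theorem wordHom_val (ha : a * a = 0) (hb : b * b = 0) (M : wordGroup k) :
    (wordHom ha hb M : E) = evalMat a b ((M : SL(2, k[X])) : Matrix (Fin 2) (Fin 2) k[X]) := rfl

theorem wordHom_up (ha : a * a = 0) (hb : b * b = 0) (t : k) :
    (wordHom ha hb ⟨_, upR_mem k (X : k[X]) t⟩ : E) = 1 + t • a := by
  rw [wordHom_val]
  simp [evalMat, coe_upR, termA, termAB, divX_one, Algebra.smul_def]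

theorem wordHom_low (ha : a * a = 0) (hb : b * b = 0) (t : k) :
    (wordHom ha hb ⟨_, lowR_mem k (X : k[X]) t⟩ : E) = 1 + t • b := by
  rw [wordHom_val]
  have hX : (X : k[X]).divX = 1 := by
    ext n; rw [coeff_divX]; simp [coeff_X, coeff_one, eq_comm]
  simp [evalMat, coe_lowR, termA, termAB, divX_one, hX, Algebra.smul_def]

end Cfsg.Agent.RootSub.Quad
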