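import Cfsg.Prelude.Def_RootSubgroups
import Cfsg.Agent.RootSub.Basic
import Cfsg.Agent.RootSub.Quad.Algebra

/-!
# Quadratic pairs: quadratic endomorphisms, root spaces and root groups

A quadratic element σ is recorded through the endomorphism a = σ - 1.
-/

namespace Cfsg.Agent.RootSub.Quad

open Cfsg

variable {k : Type*} [Field k] {M : Type*} [AddCommGroup M] [Module k M]
variable (G : Subgroup (LinearMap.GeneralLinearGroup k M))

/-- The endomorphism f is the underlying map of an element of G. -/
def InG (f : Module.End k M) : Prop := ∃ u ∈ G, (u : Module.End k M) = f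

/-- a = σ - 1 for a quadratic element σ of G with its scalar family. -/
structure IsQuad (a : Module.End k M) : Prop where
  ne_zero : a ≠ 0
  sq : a * a = 0
  inG : ∀ t : k, InG G (1 + t • a)

/-- A quadratic endomorphism of least rank. -/
structure IsMin (a : Module.End k M) : Prop extends IsQuad G a where
  min : ∀ b, IsQuad G b → Module.finrank k (LinearMap.range a) ≤ Module.finrank k (LinearMap.range b)

variable {G}

theorem InG.one : InG G 1 := ⟨1, one_mem G, rfl⟩

theorem InG.mul {f g : Module.End k M} (hf : InG G f) (hg : InG G g) : InG G (f * g) := by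
  obtain ⟨u, hu, rfl⟩ := hf
  obtain ⟨v, hv, rfl⟩ := hg
  exact ⟨u * v, mul_mem hu hv, by rw [Units.val_mul]⟩

theorem InG.of_unit {u : LinearMap.GeneralLinearGroup k M} (hu : u ∈ G) :
    InG G (u : Module.End k M) := ⟨u, hu, rfl⟩

theorem InG.mem {u : LinearMap.GeneralLinearGroup k M} (h : InG G (u : Module.End k M)) : u ∈ G := by
  obtain ⟨v, hv, he⟩ := h
  rwa [Units.ext he] at hv

theorem IsQuad.range_le_ker {a : Module.End k M} (ha : IsQuad G a) :
    LinearMap.range a ≤ LinearMap.ker a := LinearMap.range_le_ker_iff.mpr ha.sq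

/-- The unit 1 + a attached to a square zero endomorphism. -/
def oneAddUnit (a : Module.End k M) (ha : a * a = 0) : LinearMap.GeneralLinearGroup k M :=
  ⟨1 + a, 1 - a, by simp [mul_sub, add_mul, ha], by simp [sub_mul, mul_add, ha]⟩

theorem coe_oneAddUnit (a : Module.End k M) (ha : a * a = 0) :
    ((oneAddUnit a ha : LinearMap.GeneralLinearGroup k M) : Module.End k M) = 1 + a := rfl

theorem coe_oneAddUnit_inv (a : Module.End k M) (ha : a * a = 0) :
    (((oneAddUnit a ha)⁻¹ : LinearMap.GeneralLinearGroup k M) : Module.End k M) = 1 - a := rfl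

theorem IsQuad.unit_mem {a : Module.End k M} (ha : IsQuad G a) :
    oneAddUnit a ha.sq ∈ G := InG.mem (by rw [coe_oneAddUnit]; simpa using ha.inG 1)

theorem inv_sub_one {u : LinearMap.GeneralLinearGroup k M}
    (h : ((u : Module.End k M) - 1) * ((u : Module.End k M) - 1) = 0) :
    ((u⁻¹ : LinearMap.GeneralLinearGroup k M) : Module.End k M) - 1 =
      -((u : Module.End k M) - 1) := by
  have : u = oneAddUnit _ h := Units.ext (by rw [coe_oneAddUnit]; abel)
  conv_lhs => rw [this, coe_oneAddUnit_inv]
  abel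

theorem isQuad_iff (σ : LinearMap.GeneralLinearGroup k M) :
    σ ∈ quadraticElements G ↔ IsQuad G ((σ : Module.End k M) - 1) := by
  constructor
  · rintro ⟨-, ⟨hsq, hne⟩, hfam⟩
    refine ⟨hne, hsq, fun t => ?_⟩
    have hsq' : (t • ((σ : Module.End k M) - 1)) * (t • ((σ : Module.End k M) - 1)) = 0 := by
      rw [smul_mul_assoc, mul_smul_comm, hsq, smul_zero, smul_zero]
    exact ⟨oneAddUnit _ hsq', hfam ⟨t, rfl⟩, rfl⟩
  · intro h
    refine ⟨?_, ⟨h.sq, h.ne_zero⟩, ?_⟩
    · have := h.inG 1
      rw [one_smul, add_sub_cancel] at this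
      exact this.mem
    · rintro τ ⟨c, hc⟩
      exact InG.mem (hc.symm ▸ h.inG c)

theorem IsQuad.mem_quadraticElements {a : Module.End k M} (ha : IsQuad G a) :
    oneAddUnit a ha.sq ∈ quadraticElements G := by
  rw [isQuad_iff, coe_oneAddUnit, add_sub_cancel_left]; exact ha

theorem commutatorRank_eq (σ : LinearMap.GeneralLinearGroup k M) :
    commutatorRank σ = Module.finrank k (LinearMap.range ((σ : Module.End k M) - 1)) := rfl

theorem isMin_iff (σ : LinearMap.GeneralLinearGroup k M) :
    σ ∈ minimalQuadraticElements G ↔ IsMin G ((σ : Module.End k M) - 1) := by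
  constructor
  · rintro ⟨hσ, hmin⟩
    refine ⟨(isQuad_iff σ).mp hσ, fun b hb => ?_⟩
    have := hmin _ hb.mem_quadraticElements
    rwa [commutatorRank_eq, commutatorRank_eq, coe_oneAddUnit, add_sub_cancel_left] at this
  · rintro ⟨hσ, hmin⟩
    exact ⟨(isQuad_iff σ).mpr hσ, fun τ hτ => hmin _ ((isQuad_iff τ).mp hτ)⟩

variable (G)

/-- The space of endomorphisms x with range in that of a and kernel containing that of a whose
line 1 + kx lies in G. -/
def rootSpace (a : Module.End k M) : Submodule k (Module.End k M) where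
  carrier := {x | LinearMap.range x ≤ LinearMap.range a ∧
    LinearMap.ker a ⊔ LinearMap.range a ≤ LinearMap.ker x ∧ ∀ t : k, InG G (1 + t • x)}
  zero_mem' := ⟨by simp, by simp, fun t => by simpa using InG.one⟩
  add_mem' := by
    rintro x y ⟨hx1, hx2, hx3⟩ ⟨hy1, hy2, hy3⟩
    refine ⟨(LinearMap.range_add_le x y).trans (sup_le hx1 hy1), fun m hm => ?_, fun t => ?_⟩
    · rw [LinearMap.mem_ker, LinearMap.add_apply, LinearMap.mem_ker.mp (hx2 hm),
        LinearMap.mem_ker.mp (hy2 hm), add_zero]
    · have hxy : x * y = 0 :=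
        LinearMap.range_le_ker_iff.mp (hy1.trans (le_sup_right.trans hx2))
      have := (hx3 t).mul (hy3 t)
      rw [add_mul, mul_add, mul_add, mul_one, mul_one, one_mul, smul_mul_assoc, mul_smul_comm,
        hxy, smul_zero, smul_zero, add_zero] at this
      convert this using 1
      rw [smul_add]; abel
  smul_mem' := by
    rintro c x ⟨hx1, hx2, hx3⟩
    refine ⟨?_, fun m hm => ?_, fun t => ?_⟩
    · rintro _ ⟨m, rfl⟩
      exact Submodule.smul_mem _ c (hx1 ⟨m, rfl⟩)
    · simp [LinearMap.mem_ker.mp (hx2 hm)]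
    · rw [smul_smul]; exact hx3 _

variable {G}

theorem mul_eq_zero_of_mem {a x y : Module.End k M} (hx : x ∈ rootSpace G a)
    (hy : y ∈ rootSpace G a) : x * y = 0 :=
  LinearMap.range_le_ker_iff.mp (hy.1.trans (le_sup_right.trans hx.2.1))

theorem mem_rootSpace {a : Module.End k M} (ha : a * a = 0) {x : Module.End k M} :
    x ∈ rootSpace G a ↔ LinearMap.range x ≤ LinearMap.range a ∧
      LinearMap.ker a ≤ LinearMap.ker x ∧ ∀ t : k, InG G (1 + t • x) := by
  have h : LinearMap.ker a ⊔ LinearMap.range a = LinearMap.ker a :=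
    sup_eq_left.mpr (LinearMap.range_le_ker_iff.mpr ha)
  show _ ∧ _ ∧ _ ↔ _
  rw [h]

theorem IsQuad.self_mem {a : Module.End k M} (ha : IsQuad G a) : a ∈ rootSpace G a :=
  (mem_rootSpace ha.sq).mpr ⟨le_rfl, le_rfl, ha.inG⟩

theorem isQuad_of_mem {a x : Module.End k M} (hx : x ∈ rootSpace G a) (hx0 : x ≠ 0) :
    IsQuad G x := ⟨hx0, mul_eq_zero_of_mem hx hx, hx.2.2⟩

variable (G)

/-- The root group 1 + rootSpace G a. -/
def rootGroup (a : Module.End k M) : Subgroup (LinearMap.GeneralLinearGroup k M) where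
  carrier := {u | (u : Module.End k M) - 1 ∈ rootSpace G a}
  one_mem' := by simp
  mul_mem' := by
    intro u v hu hv
    show ((u * v : LinearMap.GeneralLinearGroup k M) : Module.End k M) - 1 ∈ rootSpace G a
    have he : ((u * v : LinearMap.GeneralLinearGroup k M) : Module.End k M) - 1 =
        ((u : Module.End k M) - 1) * ((v : Module.End k M) - 1) +
          (((u : Module.End k M) - 1) + ((v : Module.End k M) - 1)) := by
      rw [Units.val_mul]; noncomm_ring
    rw [he, mul_eq_zero_of_mem hu hv, zero_add]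
    exact add_mem hu hv
  inv_mem' := by
    intro u hu
    show ((u⁻¹ : LinearMap.GeneralLinearGroup k M) : Module.End k M) - 1 ∈ rootSpace G a
    rw [inv_sub_one (mul_eq_zero_of_mem hu hu)]
    exact neg_mem hu

variable {G}

theorem mem_rootGroup {a : Module.End k M} {u : LinearMap.GeneralLinearGroup k M} :
    u ∈ rootGroup G a ↔ (u : Module.End k M) - 1 ∈ rootSpace G a := Iff.rfl

theorem oneAddUnit_mem {a x : Module.End k M} (hx : x ∈ rootSpace G a) (h : x * x = 0) :
    oneAddUnit x h ∈ rootGroup G a := by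
  rw [mem_rootGroup, coe_oneAddUnit, add_sub_cancel_left]; exact hx

theorem rootGroup_le {a : Module.End k M} : rootGroup G a ≤ G := by
  intro u hu
  have := (mem_rootGroup.mp hu).2.2 1
  rw [one_smul, add_sub_cancel] at this
  exact this.mem

theorem rootGroup_comm (a : Module.End k M) : IsMulCommutative (rootGroup G a) := by
  constructor
  constructor
  rintro ⟨u, hu⟩ ⟨v, hv⟩
  apply Subtype.ext
  apply Units.ext
  have h1 := mul_eq_zero_of_mem hu hv
  have h2 := mul_eq_zero_of_mem hv hu
  simp only [Subgroup.coe_mul, Units.val_mul]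
  rw [← sub_eq_zero]
  calc (u : Module.End k M) * v - (v : Module.End k M) * u
      = ((u : Module.End k M) - 1) * ((v : Module.End k M) - 1) -
        ((v : Module.End k M) - 1) * ((u : Module.End k M) - 1) := by noncomm_ring
    _ = 0 := by rw [h1, h2, sub_zero]

section FiniteDim

variable [FiniteDimensional k M]

theorem finrank_ker_eq {x a : Module.End k M}
    (h : Module.finrank k (LinearMap.range x) = Module.finrank k (LinearMap.range a)) :
    Module.finrank k (LinearMap.ker x) = Module.finrank k (LinearMap.ker a) := by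
  have h1 := LinearMap.finrank_range_add_finrank_ker x
  have h2 := LinearMap.finrank_range_add_finrank_ker a
  omega

variable {a x : Module.End k M}

theorem IsMin.range_eq (ha : IsMin G a) (hx : x ∈ rootSpace G a) (hx0 : x ≠ 0) :
    LinearMap.range x = LinearMap.range a :=
  Submodule.eq_of_le_of_finrank_le hx.1 (ha.min x (isQuad_of_mem hx hx0))

theorem IsMin.ker_eq (ha : IsMin G a) (hx : x ∈ rootSpace G a) (hx0 : x ≠ 0) :
    LinearMap.ker x = LinearMap.ker a :=
  (Submodule.eq_of_le_of_finrank_le ((mem_rootSpace ha.sq).mp hx).2.1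
    (finrank_ker_eq (by rw [ha.range_eq hx hx0])).le).symm

theorem rootSpace_congr {a b : Module.End k M} (hr : LinearMap.range a = LinearMap.range b)
    (hk : LinearMap.ker a = LinearMap.ker b) : rootSpace G a = rootSpace G b := by
  ext x
  show _ ∧ _ ∧ _ ↔ _ ∧ _ ∧ _
  rw [hr, hk]

theorem IsMin.isMin_of_mem (ha : IsMin G a) (hx : x ∈ rootSpace G a) (hx0 : x ≠ 0) :
    IsMin G x :=
  ⟨isQuad_of_mem hx hx0, fun b hb => by rw [ha.range_eq hx hx0]; exact ha.min b hb⟩

theorem IsMin.rootSpace_eq (ha : IsMin G a) (hx : x ∈ rootSpace G a) (hx0 : x ≠ 0) :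
    rootSpace G x = rootSpace G a := rootSpace_congr (ha.range_eq hx hx0) (ha.ker_eq hx hx0)

theorem rootGroup_congr {a b : Module.End k M} (h : rootSpace G a = rootSpace G b) :
    rootGroup G a = rootGroup G b := by
  ext u; rw [mem_rootGroup, mem_rootGroup, h]

theorem rootSpace_eq_of_rootGroup {a b : Module.End k M} (h : rootGroup G a = rootGroup G b) :
    rootSpace G a = rootSpace G b := by
  ext x
  constructor <;> intro hx
  · have := oneAddUnit_mem hx (mul_eq_zero_of_mem hx hx)
    rw [h, mem_rootGroup, coe_oneAddUnit, add_sub_cancel_left] at this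
    exact this
  · have := oneAddUnit_mem hx (mul_eq_zero_of_mem hx hx)
    rw [← h, mem_rootGroup, coe_oneAddUnit, add_sub_cancel_left] at this
    exact this

theorem sameActionSubgroup_eq {σ : LinearMap.GeneralLinearGroup k M}
    (hσ : σ ∈ minimalQuadraticElements G) :
    sameActionSubgroup G σ = rootGroup G ((σ : Module.End k M) - 1) := by
  have hσ' := (isMin_iff σ).mp hσ
  refine le_antisymm ((Subgroup.closure_le _).mpr ?_) fun u hu => ?_
  · rintro τ ⟨hτ, hk, hr⟩
    show (τ : Module.End k M) - 1 ∈ rootSpace G _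
    rw [← rootSpace_congr (G := G) hr hk]
    exact ((isMin_iff τ).mp hτ).self_mem
  · rcases eq_or_ne u 1 with rfl | hne
    · exact one_mem _
    refine Subgroup.subset_closure ?_
    have hx0 : (u : Module.End k M) - 1 ≠ 0 := fun h => hne (Units.ext (sub_eq_zero.mp h))
    exact ⟨(isMin_iff u).mpr (hσ'.isMin_of_mem hu hx0), hσ'.ker_eq hu hx0, hσ'.range_eq hu hx0⟩

theorem mem_quadraticRootSubgroups {A : Subgroup (LinearMap.GeneralLinearGroup k M)} :
    A ∈ quadraticRootSubgroups G ↔ ∃ a, IsMin G a ∧ A = rootGroup G a := by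
  constructor
  · rintro ⟨σ, hσ, rfl⟩
    exact ⟨_, (isMin_iff σ).mp hσ, sameActionSubgroup_eq hσ⟩
  · rintro ⟨a, ha, rfl⟩
    have hmem : oneAddUnit a ha.sq ∈ minimalQuadraticElements G := by
      rw [isMin_iff, coe_oneAddUnit, add_sub_cancel_left]; exact ha
    exact ⟨_, hmem, by rw [sameActionSubgroup_eq hmem, coe_oneAddUnit, add_sub_cancel_left]⟩

theorem IsMin.mem_sigma (ha : IsMin G a) : rootGroup G a ∈ quadraticRootSubgroups G :=
  mem_quadraticRootSubgroups.mpr ⟨a, ha, rfl⟩

theorem IsMin.rootGroup_ne_bot (ha : IsMin G a) : rootGroup G a ≠ ⊥ := by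
  intro h
  have := oneAddUnit_mem ha.self_mem ha.sq
  rw [h, Subgroup.mem_bot] at this
  have h' := congrArg Units.val this
  rw [coe_oneAddUnit, Units.val_one, add_eq_left] at h'
  exact ha.ne_zero h'

theorem exists_quadratic_ne_one_rep {u : LinearMap.GeneralLinearGroup k M}
    (hu : u ∈ rootGroup G a) (h1 : u ≠ 1) :
    (u : Module.End k M) - 1 ∈ rootSpace G a ∧ (u : Module.End k M) - 1 ≠ 0 :=
  ⟨hu, fun h => h1 (Units.ext (sub_eq_zero.mp h))⟩

end FiniteDim

section Conj

/-- Conjugate of an endomorphism by a unit. -/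
def conjEnd (u : LinearMap.GeneralLinearGroup k M) (x : Module.End k M) : Module.End k M :=
  (u : Module.End k M) * x * ((u⁻¹ : LinearMap.GeneralLinearGroup k M) : Module.End k M)

variable {u : LinearMap.GeneralLinearGroup k M}

theorem conjEnd_mul (x y : Module.End k M) : conjEnd u x * conjEnd u y = conjEnd u (x * y) := by
  simp only [conjEnd, mul_assoc, Units.inv_mul_cancel_left]

theorem conjEnd_conjEnd (v : LinearMap.GeneralLinearGroup k M) (x : Module.End k M) :
    conjEnd u (conjEnd v x) = conjEnd (u * v) x := by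
  simp only [conjEnd, mul_inv_rev, Units.val_mul, mul_assoc]

theorem conjEnd_one (x : Module.End k M) :
    conjEnd (1 : LinearMap.GeneralLinearGroup k M) x = x := by simp [conjEnd]

theorem range_conjEnd (x : Module.End k M) :
    LinearMap.range (conjEnd u x) = (LinearMap.range x).map (u : Module.End k M) := by
  have hsurj : LinearMap.range ((u⁻¹ : LinearMap.GeneralLinearGroup k M) : Module.End k M) = ⊤ :=
    LinearMap.range_eq_top.mpr fun m => ⟨(u : Module.End k M) m, by
      rw [← Module.End.mul_apply, Units.inv_mul]; rfl⟩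
  rw [conjEnd, mul_assoc, Module.End.mul_eq_comp, LinearMap.range_comp, Module.End.mul_eq_comp,
    LinearMap.range_comp_of_range_eq_top x hsurj]

theorem unit_injective (u : LinearMap.GeneralLinearGroup k M) :
    Function.Injective (u : Module.End k M) :=
  Function.LeftInverse.injective (g := ((u⁻¹ : LinearMap.GeneralLinearGroup k M) : Module.End k M))
    fun m => by rw [← Module.End.mul_apply, Units.inv_mul]; rfl

theorem ker_conjEnd (x : Module.End k M) :
    LinearMap.ker (conjEnd u x) = (LinearMap.ker x).map (u : Module.End k M) := by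
  ext m
  constructor
  · intro h
    rw [LinearMap.mem_ker, conjEnd, Module.End.mul_apply, Module.End.mul_apply] at h
    refine ⟨((u⁻¹ : LinearMap.GeneralLinearGroup k M) : Module.End k M) m, ?_, ?_⟩
    · exact LinearMap.mem_ker.mpr ((map_eq_zero_iff _ (unit_injective u)).mp h)
    · rw [← Module.End.mul_apply, Units.mul_inv]; rfl
  · rintro ⟨y, hy, rfl⟩
    rw [LinearMap.mem_ker, conjEnd, Module.End.mul_apply, Module.End.mul_apply,
      ← Module.End.mul_apply _ (u : Module.End k M), Units.inv_mul, Module.End.one_apply,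
      LinearMap.mem_ker.mp hy, map_zero]

theorem finrank_range_conjEnd (x : Module.End k M) :
    Module.finrank k (LinearMap.range (conjEnd u x)) = Module.finrank k (LinearMap.range x) := by
  rw [range_conjEnd]
  exact (Submodule.equivMapOfInjective _ (unit_injective u) _).finrank_eq.symm

theorem InG.conj (hu : u ∈ G) {x : Module.End k M} {t : k} (h : InG G (1 + t • x)) :
    InG G (1 + t • conjEnd u x) := by
  have := ((InG.of_unit hu).mul h).mul (InG.of_unit (inv_mem hu))
  convert this using 1
  simp only [conjEnd, mul_add, add_mul, mul_one, Units.mul_inv, mul_smul_comm, smul_mul_assoc]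

theorem IsQuad.conj {a : Module.End k M} (ha : IsQuad G a) (hu : u ∈ G) :
    IsQuad G (conjEnd u a) := by
  refine ⟨fun h => ha.ne_zero ?_, by rw [conjEnd_mul, ha.sq]; simp [conjEnd],
    fun t => (ha.inG t).conj hu⟩
  rw [← conjEnd_one a, ← inv_mul_cancel u, ← conjEnd_conjEnd, h]
  simp [conjEnd]

theorem IsMin.conj {a : Module.End k M} (ha : IsMin G a) (hu : u ∈ G) :
    IsMin G (conjEnd u a) :=
  ⟨ha.toIsQuad.conj hu, fun b hb => by rw [finrank_range_conjEnd]; exact ha.min b hb⟩

theorem conjEnd_mem {a x : Module.End k M} (hu : u ∈ G) (hx : x ∈ rootSpace G a) :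
    conjEnd u x ∈ rootSpace G (conjEnd u a) := by
  refine ⟨?_, ?_, fun t => (hx.2.2 t).conj hu⟩
  · rw [range_conjEnd, range_conjEnd]; exact Submodule.map_mono hx.1
  · rw [range_conjEnd, ker_conjEnd, ← Submodule.map_sup, ker_conjEnd]
    exact Submodule.map_mono hx.2.1

theorem conjBy_rootGroup {a : Module.End k M} (hu : u ∈ G) :
    conjBy (rootGroup G a) u = rootGroup G (conjEnd u a) := by
  ext g
  rw [mem_conjBy, mem_rootGroup, mem_rootGroup]
  have he : ((u⁻¹ * g * u : LinearMap.GeneralLinearGroup k M) : Module.End k M) - 1 =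
      conjEnd u⁻¹ ((g : Module.End k M) - 1) := by
    simp only [conjEnd, Units.val_mul, inv_inv, mul_sub, sub_mul, mul_one, Units.inv_mul]
  rw [he]
  constructor
  · intro h
    have := conjEnd_mem hu h
    rwa [conjEnd_conjEnd, mul_inv_cancel, conjEnd_one] at this
  · intro h
    have := conjEnd_mem (inv_mem hu) h
    rwa [conjEnd_conjEnd (u := u⁻¹), inv_mul_cancel, conjEnd_one] at this

end Conj

section Words

open Dickson Polynomial
open scoped MatrixGroups

theorem inG_wordHom {a b : Module.End k M} (ha : IsQuad G a) (hb : IsQuad G b) (W : wordGroup k) :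
    wordHom ha.sq hb.sq W ∈ G := by
  obtain ⟨W, hW⟩ := W
  induction hW using Subgroup.closure_induction with
  | mem g hg =>
    rcases hg with ⟨t, rfl⟩ | ⟨t, rfl⟩
    · refine InG.mem ?_
      exact (wordHom_up ha.sq hb.sq t).symm ▸ ha.inG t
    · refine InG.mem ?_
      exact (wordHom_low ha.sq hb.sq t).symm ▸ hb.inG t
  | one =>
    have : (⟨1, one_mem _⟩ : wordGroup k) = 1 := rfl
    rw [this, map_one]; exact one_mem _
  | mul x y hx hy ihx ihy =>
    have : (⟨x * y, mul_mem hx hy⟩ : wordGroup k) = ⟨x, hx⟩ * ⟨y, hy⟩ := rfl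
    rw [this, map_mul]; exact mul_mem ihx ihy
  | inv x hx ihx =>
    have : (⟨x⁻¹, inv_mem hx⟩ : wordGroup k) = ⟨x, hx⟩⁻¹ := rfl
    rw [this, map_inv]; exact inv_mem ihx

theorem inG_evalMat {a b : Module.End k M} (ha : IsQuad G a) (hb : IsQuad G b)
    {W : SL(2, k[X])} (hW : W ∈ wordGroup k) :
    InG G (evalMat a b (W : Matrix (Fin 2) (Fin 2) k[X])) :=
  ⟨_, inG_wordHom ha hb ⟨W, hW⟩, wordHom_val ha.sq hb.sq ⟨W, hW⟩⟩

end Words

end Cfsg.Agent.RootSub.Quad
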