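import Cfsg.Agent.RootSub.Quad.Quasisimple

/-!
# A quadratic pair is a central product of quasisimple groups

The decomposition is repeated in the centraliser of the core, which is again generated by
quadratic elements, until no quadratic element is left.
-/

namespace Cfsg.Agent.RootSub.Quad

open Cfsg
open scoped commutatorElement

variable {k : Type*} [Field k] {M : Type*} [AddCommGroup M] [Module k M]
variable {G H K : Subgroup (LinearMap.GeneralLinearGroup k M)}

/-- The units fixing a vector. -/
def vecFix (m : M) : Subgroup (LinearMap.GeneralLinearGroup k M) where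
  carrier := {u | (u : Module.End k M) m = m}
  one_mem' := rfl
  mul_mem' {u v} hu hv := by
    show ((u * v : LinearMap.GeneralLinearGroup k M) : Module.End k M) m = m
    rw [Units.val_mul, Module.End.mul_apply, show (v : Module.End k M) m = m from hv]
    exact hu
  inv_mem' {u} hu := by
    show ((u⁻¹ : LinearMap.GeneralLinearGroup k M) : Module.End k M) m = m
    conv_lhs => rw [← show (u : Module.End k M) m = m from hu]
    rw [← Module.End.mul_apply, Units.inv_mul]
    rfl

theorem fixedSubmodule_eq_bot (hirr : IsIrreducibleFor G)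
    (hn : ∀ g ∈ G, conjBy K g = K) (hne : K ≠ ⊥) : fixedSubmodule K = ⊥ := by
  rcases hirr.2 (fixedSubmodule K) (fun g hg w hw => by
    simp only [fixedSubmodule, Submodule.mem_iInf] at hw ⊢
    intro u hu
    rw [← hn g hg] at hu
    obtain ⟨z, hz, rfl⟩ := hu
    have hzw : (z : Module.End k M) w = w := sub_eq_zero.mp (LinearMap.mem_ker.mp (hw z hz))
    rw [LinearMap.mem_ker]
    show ((g * z * g⁻¹ : LinearMap.GeneralLinearGroup k M) : Module.End k M) ((g : Module.End k M) w) -
      (g : Module.End k M) w = 0
    rw [← Module.End.mul_apply, ← Units.val_mul, inv_mul_cancel_right, Units.val_mul,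
      Module.End.mul_apply, hzw, sub_self]) with h | h
  · exact h
  · refine absurd (eq_bot_iff.mpr fun u hu => ?_) hne
    rw [Subgroup.mem_bot]
    refine Units.ext (LinearMap.ext fun m => ?_)
    have hm : m ∈ fixedSubmodule K := h ▸ Submodule.mem_top
    simp only [fixedSubmodule, Submodule.mem_iInf] at hm
    exact sub_eq_zero.mp (LinearMap.mem_ker.mp (hm u hu))

theorem quadraticElements_mono (h : H ≤ K) : quadraticElements H ⊆ quadraticElements K :=
  fun _ hσ => ⟨h hσ.1, hσ.2.1, hσ.2.2.trans h⟩

variable (G H)

/-- A normal piece of a quadratic pair that is again generated by its quadratic elements. -/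
structure IsPiece : Prop where
  le : H ≤ G
  gen : Subgroup.closure (quadraticElements H) = H
  cocentral : H ⊔ (G ⊓ Subgroup.centralizer (H : Set (LinearMap.GeneralLinearGroup k M))) = G

variable {G H}

theorem isPiece_self (hgen : Subgroup.closure (quadraticElements G) = G) : IsPiece G G :=
  ⟨le_rfl, hgen, sup_eq_left.mpr inf_le_left⟩

theorem IsPiece.conjBy_eq (hH : IsPiece G H) (hK : K ≤ H) (hn : ∀ h ∈ H, conjBy K h = K)
    {g : LinearMap.GeneralLinearGroup k M} (hg : g ∈ G) : conjBy K g = K := by
  rw [conjBy_eq_self_iff]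
  have hle : H ⊔ (G ⊓ Subgroup.centralizer (H : Set (LinearMap.GeneralLinearGroup k M))) ≤
      Subgroup.normalizer (K : Set (LinearMap.GeneralLinearGroup k M)) := by
    refine sup_le (fun h hh => conjBy_eq_self_iff.mp (hn h hh)) fun x hx => ?_
    exact Subgroup.centralizer_le_normalizer _
      (Subgroup.centralizer_le (SetLike.coe_subset_coe.mpr hK) hx.2)
  rw [hH.cocentral] at hle
  exact hle hg

theorem IsPiece.pure (hH : IsPiece G H) (hpure : NoUnipNormal G) : NoUnipNormal H :=
  fun U hUH hU hn => hpure U (hUH.trans hH.le) hU fun _ hg => hH.conjBy_eq hUH hn hg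

variable [FiniteDimensional k M]
variable (h2 : (2 : k) ≠ 0) (h3 : Nat.card k ≠ 3)

include h2 h3

/-- A quadratic element of a piece lies in one component group or commutes with all minimal
elements. -/
theorem quad_cases (hirr : IsIrreducibleFor G) (hH : IsPiece G H) {σ : LinearMap.GeneralLinearGroup k M}
    (hσ : σ ∈ quadraticElements H) :
    (∃ A ∈ quadraticRootSubgroups H, σ ∈ compGroup H A) ∨
      σ ∈ Subgroup.centralizer (coreGroup H : Set (LinearMap.GeneralLinearGroup k M)) := by
  have hpure := hH.pure (noUnipNormal_of_irreducible hirr)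
  suffices ∀ n, ∀ q, IsQuad H q → Module.finrank k (LinearMap.range q) = n →
      ∀ u : LinearMap.GeneralLinearGroup k M, (u : Module.End k M) = 1 + q →
        (∃ A ∈ quadraticRootSubgroups H, u ∈ compGroup H A) ∨
          u ∈ Subgroup.centralizer (coreGroup H : Set (LinearMap.GeneralLinearGroup k M)) from
    this _ _ ((isQuad_iff σ).mp hσ) rfl σ (by abel)
  intro n
  induction n using Nat.strong_induction_on with
  | _ n ih =>
    intro q hq hn u hu
    by_cases hall : ∀ z, IsMin H z → IsNilpotent (z * q)
    · refine Or.inr (mem_centralizer_coreGroup fun a ha => ?_)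
      rw [hu, add_sub_cancel_left]
      exact commute_of_all_nilpotent h2 h3 hpure hq hall ha
    · push Not at hall
      obtain ⟨a, ha, haq⟩ := hall
      obtain ⟨y, hy, hyr, -, hrq, hlt⟩ := exists_min_split h2 h3 ha hq haq
      set A := rootGroup H y with hA
      have hAS : A ∈ quadraticRootSubgroups H := hy.mem_sigma
      have hyu : oneAddUnit y hy.sq ∈ compGroup H A :=
        le_compGroup (self_mem_compSet hAS) (oneAddUnit_mem hy.self_mem _)
      refine Or.inl ⟨A, hAS, ?_⟩
      rcases eq_or_ne (q - y) 0 with h0 | h0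
      · have : u = oneAddUnit y hy.sq := Units.ext (by rw [hu, coe_oneAddUnit, sub_eq_zero.mp h0])
        exact this ▸ hyu
      have hr := hrq h0
      set v := oneAddUnit (q - y) hr.sq with hv
      have he : u = oneAddUnit y hy.sq * v := Units.ext (by
        rw [Units.val_mul, hv, coe_oneAddUnit, coe_oneAddUnit, hu, add_mul, mul_add, mul_add,
          one_mul, one_mul, mul_one, hyr]
        abel)
      rw [he]
      refine mul_mem hyu ?_
      by_contra hvA
      -- v centralises the group of y
      have hcent : v ∈ Subgroup.centralizer (compGroup H A : Set _) := by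
        rcases ih _ (hn ▸ hlt) _ hr rfl v rfl with ⟨B, hB, hvB⟩ | hvc
        · by_cases hc : Conn H A B
          · exact absurd (compGroup_eq_of_conn hc ▸ hvB) hvA
          · exact Subgroup.commutator_eq_bot_iff_le_centralizer.mp
              (by rw [Subgroup.commutator_comm]; exact compGroup_commute h2 h3 hpure hc) hvB
        · exact Subgroup.centralizer_le (SetLike.coe_subset_coe.mpr compGroup_le_core) hvc
      have hnorm : ∀ g ∈ G, conjBy (compGroup H A) g = compGroup H A := fun g hg =>
        hH.conjBy_eq compGroup_le (fun h hh => conjBy_compGroup h2 h3 hpure hH.gen hh) hg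
      have hne : compGroup H A ≠ ⊥ := fun hb =>
        hy.rootGroup_ne_bot (le_bot_iff.mp (hb ▸ le_compGroup (self_mem_compSet hAS)))
      have hfix := fixedSubmodule_eq_bot hirr hnorm hne
      apply h0
      refine LinearMap.ext fun m => ?_
      rw [LinearMap.zero_apply, ← Submodule.mem_bot k, ← hfix]
      simp only [fixedSubmodule, Submodule.mem_iInf]
      intro w hw
      rw [LinearMap.mem_ker, LinearMap.sub_apply, Module.End.one_apply, sub_eq_zero]
      suffices compGroup H A ≤ vecFix ((q - y) m) from this hw
      refine iSup₂_le fun C hC w hw => ?_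
      obtain ⟨g, hg, rfl⟩ := exists_conj_of_conn h2 h3 hpure hAS hC.2
      rw [hA, conjBy_rootGroup (compGroup_le hg)] at hw
      show (w : Module.End k M) ((q - y) m) = (q - y) m
      refine sub_eq_zero.mp ?_
      show ((w : Module.End k M) - 1) ((q - y) m) = 0
      have hconj := hy.conj (compGroup_le hg)
      refine ((mem_rootSpace hconj.sq).mp hw).2.1 ?_
      have hcomm := commute_ends (Subgroup.mem_centralizer_iff.mp hcent g⁻¹ (inv_mem hg))
      have key : ∀ P R : Module.End k M, (P - 1) * R = R * (P - 1) → P * R = R * P := by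
        intro P R h
        rwa [sub_mul, mul_sub, one_mul, mul_one, sub_left_inj] at h
      rw [hv, coe_oneAddUnit, add_sub_cancel_left] at hcomm
      replace hcomm := key _ _ hcomm
      rw [LinearMap.mem_ker, conjEnd, ← Module.End.mul_apply, mul_assoc, hcomm, ← mul_assoc,
        mul_assoc (g : Module.End k M) y, hyr, mul_zero, zero_mul, LinearMap.zero_apply]

omit h2 h3 in
/-- The span of the quadratic endomorphisms. -/
theorem isQuad_mem_span {a : Module.End k M} (ha : IsQuad H a) :
    a ∈ Submodule.span k ((fun σ : LinearMap.GeneralLinearGroup k M => (σ : Module.End k M) - 1) ''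
      quadraticElements H) :=
  Submodule.subset_span ⟨_, ha.mem_quadraticElements, by simp [coe_oneAddUnit]⟩

omit h2 h3 in
/-- Every component group is generated by quadratic elements. -/
theorem closure_quad_inf {A : Subgroup (LinearMap.GeneralLinearGroup k M)} (hle : H ≤ G) :
    Subgroup.closure (quadraticElements G ∩ (compGroup H A : Set _)) = compGroup H A := by
  refine le_antisymm ((Subgroup.closure_le _).mpr Set.inter_subset_right)
    (iSup₂_le fun C hC u hu => ?_)
  rcases eq_or_ne u 1 with rfl | hu1
  · exact one_mem _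
  refine Subgroup.subset_closure ⟨quadraticElements_mono hle ?_, le_compGroup hC hu⟩
  obtain ⟨c, hc, rfl⟩ := mem_quadraticRootSubgroups.mp hC.1
  obtain ⟨hx, hx0⟩ := exists_quadratic_ne_one_rep hu hu1
  exact (isQuad_iff u).mpr (isQuad_of_mem hx hx0)

/-- Every piece is a central product of quasisimple groups. -/
theorem piece_decomposition (hirr : IsIrreducibleFor G) (n : ℕ) :
    ∀ H : Subgroup (LinearMap.GeneralLinearGroup k M), IsPiece G H →
      Module.finrank k (Submodule.span k
        ((fun σ : LinearMap.GeneralLinearGroup k M => (σ : Module.End k M) - 1) ''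
          quadraticElements H)) ≤ n →
      ∃ L : Set (Subgroup (LinearMap.GeneralLinearGroup k M)), L.Finite ∧
        (∀ K ∈ L, K ≤ H ∧ (∀ g ∈ G, conjBy K g = K) ∧ IsQuasisimple ↥K ∧
          Subgroup.closure (quadraticElements G ∩ (K : Set _)) = K) ∧
        (∀ K ∈ L, ∀ K' ∈ L, K ≠ K' → ⁅K, K'⁆ = ⊥) ∧ (⨆ K ∈ L, K) = H ∧
        quadraticElements H ⊆ ⋃ K ∈ L, (K : Set (LinearMap.GeneralLinearGroup k M)) := by
  induction n using Nat.strong_induction_on with
  | _ n ih =>
    intro H hH hn
    have hpure := hH.pure (noUnipNormal_of_irreducible hirr)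
    rcases Set.eq_empty_or_nonempty (quadraticElements H) with hempty | hne
    · refine ⟨∅, Set.finite_empty, by simp, by simp, ?_, by simp [hempty]⟩
      rw [← hH.gen, hempty, Subgroup.closure_empty]
      simp
    classical
    have hex : ∃ d, ∃ σ ∈ quadraticElements H, commutatorRank σ = d :=
      ⟨_, hne.some, hne.some_mem, rfl⟩
    obtain ⟨σ₀, hσ₀, hd₀⟩ := Nat.find_spec hex
    have hσmin : σ₀ ∈ minimalQuadraticElements H :=
      ⟨hσ₀, fun τ hτ => hd₀ ▸ Nat.find_le ⟨τ, hτ, rfl⟩⟩
    have ha := (isMin_iff σ₀).mp hσmin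
    set C₀ := Subgroup.centralizer (coreGroup H : Set (LinearMap.GeneralLinearGroup k M)) with hC₀
    set H' := Subgroup.closure (quadraticElements H ∩ (C₀ : Set _)) with hH'
    have hH'le : H' ≤ H := (Subgroup.closure_le _).mpr fun σ hσ => hσ.1.1
    have hH'C : H' ≤ C₀ := (Subgroup.closure_le _).mpr Set.inter_subset_right
    have hfam : quadraticElements H ∩ (C₀ : Set _) ⊆ quadraticElements H' := by
      intro σ hσ
      refine ⟨Subgroup.subset_closure hσ, hσ.1.2.1, fun τ hτ => ?_⟩
      obtain ⟨c, hc⟩ := hτ
      rcases eq_or_ne τ 1 with rfl | hτ1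
      · exact one_mem _
      refine Subgroup.subset_closure ⟨(isQuad_iff τ).mpr ?_, ?_⟩
      · have hq := (isQuad_iff σ).mp hσ.1
        have hτe : (τ : Module.End k M) - 1 = c • ((σ : Module.End k M) - 1) := by
          rw [hc, add_sub_cancel_left]
        refine ⟨fun h0 => hτ1 (Units.ext (sub_eq_zero.mp h0)), ?_, fun t => ?_⟩
        · rw [hτe, smul_mul_smul_comm, hq.sq, smul_zero]
        · rw [hτe, smul_smul]; exact hq.inG _
      · rw [SetLike.mem_coe, hC₀, Subgroup.mem_centralizer_iff]
        intro v hv
        refine commute_units ?_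
        rw [hc, add_sub_cancel_left, mul_smul_comm, smul_mul_assoc,
          commute_ends (Subgroup.mem_centralizer_iff.mp hσ.2 v hv)]
    have hH'piece : IsPiece G H' := by
      refine ⟨hH'le.trans hH.le, le_antisymm ((Subgroup.closure_le _).mpr fun σ hσ => hσ.1) ?_, ?_⟩
      · exact Subgroup.closure_mono hfam
      · refine le_antisymm (sup_le (hH'le.trans hH.le) inf_le_left) ?_
        have hcore : coreGroup H ≤ G ⊓ Subgroup.centralizer (H' : Set _) :=
          le_inf (coreGroup_le.trans hH.le) (Subgroup.le_centralizer_iff.mp hH'C)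
        have hHle : H ≤ H' ⊔ (G ⊓ Subgroup.centralizer (H' : Set _)) := by
          conv_lhs => rw [← hH.gen]
          refine (Subgroup.closure_le _).mpr fun σ hσ => ?_
          rcases quad_cases h2 h3 hirr hH hσ with ⟨A, -, hσA⟩ | hσC
          · exact Subgroup.mem_sup_right (hcore (compGroup_le_core hσA))
          · exact Subgroup.mem_sup_left (Subgroup.subset_closure ⟨hσ, hσC⟩)
        calc G = H ⊔ (G ⊓ Subgroup.centralizer (H : Set _)) := hH.cocentral.symm
          _ ≤ _ := sup_le hHle ((inf_le_inf_left _ (Subgroup.centralizer_le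
            (SetLike.coe_subset_coe.mpr hH'le))).trans le_sup_right)
    have hlt : Module.finrank k (Submodule.span k
        ((fun σ : LinearMap.GeneralLinearGroup k M => (σ : Module.End k M) - 1) ''
          quadraticElements H')) < n := by
      refine lt_of_lt_of_le (Submodule.finrank_lt_finrank_of_lt (lt_of_le_of_ne
        (Submodule.span_mono (Set.image_mono (quadraticElements_mono hH'le))) fun heq => ?_)) hn
      set a := (σ₀ : Module.End k M) - 1
      obtain ⟨b, hb, hopp⟩ : ∃ b, IsMin H b ∧ IsOpp a b := by
        obtain ⟨g, hg, hopp⟩ := exists_opposite h2 h3 hpure ha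
        exact ⟨_, ha.conj hg, hopp⟩
      refine commute_of_opp h2 h3 ha hb hopp ha.self_mem ha.ne_zero hb.self_mem hb.ne_zero ?_
      have hmem := isQuad_mem_span ha.toIsQuad
      rw [← heq] at hmem
      clear_value a
      clear hopp ha
      induction hmem using Submodule.span_induction with
      | mem x hx =>
        obtain ⟨σ, hσ, rfl⟩ := hx
        have h := commute_ends (Subgroup.mem_centralizer_iff.mp (hH'C hσ.1) _
          (le_coreGroup hb.mem_sigma (oneAddUnit_mem hb.self_mem hb.sq)))
        rw [coe_oneAddUnit, add_sub_cancel_left] at h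
        exact h.symm
      | zero => rw [zero_mul, mul_zero]
      | add x y _ _ hx hy => rw [add_mul, mul_add, hx, hy]
      | smul c x _ hx => rw [smul_mul_assoc, mul_smul_comm, hx]
    obtain ⟨L', hL'f, hL', hL'c, hL's, hL'q⟩ := ih _ hlt H' hH'piece le_rfl
    obtain ⟨r, A, hA, hAne, hcov⟩ := exists_representatives h2 h3 hpure
    refine ⟨Set.range (fun i => compGroup H (A i)) ∪ L', (Set.finite_range _).union hL'f,
      ?_, ?_, ?_, ?_⟩
    · rintro K (⟨i, rfl⟩ | hK)
      · exact ⟨compGroup_le, fun g hg => hH.conjBy_eq compGroup_le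
          (fun h hh => conjBy_compGroup h2 h3 hpure hH.gen hh) hg,
          compGroup_isQuasisimple h2 h3 hpure (hA i), closure_quad_inf hH.le⟩
      · obtain ⟨h1, h1'⟩ := hL' K hK
        exact ⟨h1.trans hH'le, h1'⟩
    · have hmixed : ∀ i, ∀ K ∈ L', ⁅compGroup H (A i), K⁆ = ⊥ := by
        intro i K hK
        rw [Subgroup.commutator_eq_bot_iff_le_centralizer]
        exact (compGroup_le_core).trans
          (Subgroup.le_centralizer_iff.mp ((hL' K hK).1.trans hH'C))
      rintro K (⟨i, rfl⟩ | hK) K' (⟨j, rfl⟩ | hK') hne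
      · exact compGroup_commute h2 h3 hpure (hAne i j fun e => hne (by rw [e]))
      · exact hmixed i K' hK'
      · rw [Subgroup.commutator_comm]; exact hmixed j K hK
      · exact hL'c K hK K' hK' hne
    · refine le_antisymm (iSup₂_le ?_) ?_
      · rintro K (⟨i, rfl⟩ | hK)
        · exact compGroup_le
        · exact (hL' K hK).1.trans hH'le
      · conv_lhs => rw [← hH.gen]
        refine (Subgroup.closure_le _).mpr fun σ hσ => ?_
        rcases quad_cases h2 h3 hirr hH hσ with ⟨B, hB, hσB⟩ | hσC
        · obtain ⟨i, hi⟩ := hcov B hB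
          rw [← compGroup_eq_of_conn hi] at hσB
          exact Subgroup.mem_iSup_of_mem _ (Subgroup.mem_iSup_of_mem (Or.inl ⟨i, rfl⟩) hσB)
        · have hσ' : σ ∈ H' := Subgroup.subset_closure ⟨hσ, hσC⟩
          rw [← hL's] at hσ'
          exact (biSup_mono fun K hK => Or.inr hK : (⨆ K ∈ L', K) ≤ _) hσ'
    · intro σ hσ
      rw [Set.mem_iUnion₂]
      rcases quad_cases h2 h3 hirr hH hσ with ⟨B, hB, hσB⟩ | hσC
      · obtain ⟨i, hi⟩ := hcov B hB
        rw [← compGroup_eq_of_conn hi] at hσB
        exact ⟨_, Or.inl ⟨i, rfl⟩, hσB⟩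
      · obtain ⟨K, hK, hσK⟩ := Set.mem_iUnion₂.mp (hL'q (hfam ⟨hσ, hσC⟩))
        exact ⟨K, Or.inr hK, hσK⟩

end Cfsg.Agent.RootSub.Quad
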