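import Cfsg.Agent.RootSub.Quad.Sigma
import Cfsg.Agent.RootSub.Transfer

/-!
# Σ is a set of root subgroups
-/

namespace Cfsg.Agent.RootSub.Quad

open Cfsg
open scoped Pointwise commutatorElement IsMulCommutative

variable {k : Type*} [Field k] {M : Type*} [AddCommGroup M] [Module k M] [FiniteDimensional k M]
variable {G : Subgroup (LinearMap.GeneralLinearGroup k M)}
variable (h2 : (2 : k) ≠ 0) (h3 : Nat.card k ≠ 3) (hirr : NoUnipNormal G)

omit [FiniteDimensional k M] in
theorem conj_mem_sigma [FiniteDimensional k M] {A : Subgroup (LinearMap.GeneralLinearGroup k M)}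
    (hA : A ∈ quadraticRootSubgroups G) {g : LinearMap.GeneralLinearGroup k M} (hg : g ∈ G) :
    conjBy A g ∈ quadraticRootSubgroups G := by
  obtain ⟨a, ha, rfl⟩ := mem_quadraticRootSubgroups.mp hA
  rw [conjBy_rootGroup hg]
  exact (ha.conj hg).mem_sigma

theorem sigma_le {A : Subgroup (LinearMap.GeneralLinearGroup k M)}
    (hA : A ∈ quadraticRootSubgroups G) : A ≤ G := by
  obtain ⟨a, -, rfl⟩ := mem_quadraticRootSubgroups.mp hA
  exact rootGroup_le

include h2 h3

theorem isOpp_of_rankOne {a b : Module.End k M} (ha : IsMin G a) (hb : IsMin G b)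
    (hirr : NoUnipNormal G) (h : IsRankOnePair (rootGroup G a) (rootGroup G b)) : IsOpp a b := by
  by_contra hn
  by_cases hc : a * b - b * a = 0
  · exact RankOne.commutator_ne_bot h ((commutator_eq_bot_iff h2 h3 ha hb hn).mpr hc)
  · obtain ⟨h1, hA, hB⟩ := commutator_case h2 h3 hirr ha hb hn hc
    refine not_commCase_of_rankOne (S := quadraticRootSubgroups G) h
      ⟨h1.symm ▸ (commutator_data h2 h3 ha hb hn ha.self_mem hb.self_mem hc).1.mem_sigma,
        fun w hw x hx => commutator_central h2 h3 ha hb hn hc (h1 ▸ hw) hx,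
        fun e he he1 => by rw [h1]; exact hA e he he1,
        fun f hf hf1 => by rw [h1]; exact hB f hf hf1⟩

include hirr

theorem sigma_isRootSubgroupSet :
    IsRootSubgroupSet ((fun A : Subgroup (LinearMap.GeneralLinearGroup k M) =>
      A.subgroupOf (⨆ B ∈ quadraticRootSubgroups G, B)) '' quadraticRootSubgroups G) := by
  refine isRootSubgroupSet_subgroupOf _ ?_ ?_ ?_ fun A hA B hB => pair_cases h2 h3 hirr hA hB
  · intro A hA
    obtain ⟨a, -, rfl⟩ := mem_quadraticRootSubgroups.mp hA
    exact rootGroup_comm a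
  · intro A hA
    obtain ⟨a, ha, rfl⟩ := mem_quadraticRootSubgroups.mp hA
    exact ha.rootGroup_ne_bot
  · intro A hA g hg
    exact conj_mem_sigma hA ((iSup₂_le fun B hB => sigma_le hB : (⨆ B ∈ quadraticRootSubgroups G, B) ≤ G) hg)

end Cfsg.Agent.RootSub.Quad
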