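import Cfsg.Agent.RootSub.Quad.General
import Cfsg.Agent.RootSub.Quad.SigmaSet

/-!
# The group generated by Σ is cocentral
-/

namespace Cfsg.Agent.RootSub.Quad

open Cfsg

variable {k : Type*} [Field k] {M : Type*} [AddCommGroup M] [Module k M] [FiniteDimensional k M]

/-- The subgroup generated by Σ. -/
def coreGroup (G : Subgroup (LinearMap.GeneralLinearGroup k M)) :
    Subgroup (LinearMap.GeneralLinearGroup k M) :=
  ⨆ A ∈ quadraticRootSubgroups G, A

variable {G : Subgroup (LinearMap.GeneralLinearGroup k M)}

theorem le_coreGroup {A : Subgroup (LinearMap.GeneralLinearGroup k M)}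
    (hA : A ∈ quadraticRootSubgroups G) : A ≤ coreGroup G :=
  le_iSup₂ (f := fun (B : Subgroup (LinearMap.GeneralLinearGroup k M))
    (_ : B ∈ quadraticRootSubgroups G) => B) A hA

theorem coreGroup_le : coreGroup G ≤ G := iSup₂_le fun _ hA => sigma_le hA

theorem commute_units {u v : LinearMap.GeneralLinearGroup k M}
    (h : ((u : Module.End k M) - 1) * ((v : Module.End k M) - 1) =
      ((v : Module.End k M) - 1) * ((u : Module.End k M) - 1)) : u * v = v * u := by
  apply Units.ext
  rw [Units.val_mul, Units.val_mul, ← sub_eq_zero]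
  calc (u : Module.End k M) * v - v * u
      = ((u : Module.End k M) - 1) * ((v : Module.End k M) - 1) -
        ((v : Module.End k M) - 1) * ((u : Module.End k M) - 1) := by noncomm_ring
    _ = 0 := by rw [h, sub_self]

theorem commute_ends {u v : LinearMap.GeneralLinearGroup k M} (h : u * v = v * u) :
    ((u : Module.End k M) - 1) * ((v : Module.End k M) - 1) =
      ((v : Module.End k M) - 1) * ((u : Module.End k M) - 1) := by
  have h' := congrArg Units.val h
  rw [Units.val_mul, Units.val_mul] at h'
  rw [← sub_eq_zero]
  calc ((u : Module.End k M) - 1) * ((v : Module.End k M) - 1) -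
        ((v : Module.End k M) - 1) * ((u : Module.End k M) - 1)
      = (u : Module.End k M) * v - v * u := by noncomm_ring
    _ = 0 := by rw [h', sub_self]

/-- An element whose endomorphism commutes with all minimal ones centralises the core. -/
theorem mem_centralizer_coreGroup {u : LinearMap.GeneralLinearGroup k M}
    (h : ∀ a, IsMin G a → ((u : Module.End k M) - 1) * a = a * ((u : Module.End k M) - 1)) :
    u ∈ Subgroup.centralizer (coreGroup G : Set (LinearMap.GeneralLinearGroup k M)) := by
  have hle : coreGroup G ≤ Subgroup.centralizer {u} := by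
    refine iSup₂_le fun A hA v hv => ?_
    obtain ⟨a, ha, rfl⟩ := mem_quadraticRootSubgroups.mp hA
    rw [Subgroup.mem_centralizer_singleton_iff]
    rcases eq_or_ne v 1 with rfl | h1
    · simp
    obtain ⟨hx, hx0⟩ := exists_quadratic_ne_one_rep hv h1
    exact commute_units (h _ (ha.isMin_of_mem hx hx0)).symm
  rw [Subgroup.mem_centralizer_iff]
  intro v hv
  exact Subgroup.mem_centralizer_singleton_iff.mp (hle hv)

variable (h2 : (2 : k) ≠ 0) (h3 : Nat.card k ≠ 3) (hpure : NoUnipNormal G)

include h2 h3 hpure

/-- Every quadratic element lies in the core times its centraliser. -/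
theorem quadratic_mem_core_sup {σ : LinearMap.GeneralLinearGroup k M}
    (hσ : σ ∈ quadraticElements G) :
    σ ∈ coreGroup G ⊔
      (G ⊓ Subgroup.centralizer (coreGroup G : Set (LinearMap.GeneralLinearGroup k M))) := by
  suffices ∀ n, ∀ q, IsQuad G q → Module.finrank k (LinearMap.range q) = n →
      ∀ u : LinearMap.GeneralLinearGroup k M, (u : Module.End k M) = 1 + q →
        u ∈ coreGroup G ⊔
          (G ⊓ Subgroup.centralizer (coreGroup G : Set (LinearMap.GeneralLinearGroup k M))) from
    this _ _ ((isQuad_iff σ).mp hσ) rfl σ (by abel)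
  intro n
  induction n using Nat.strong_induction_on with
  | _ n ih =>
    intro q hq hn u hu
    by_cases hall : ∀ z, IsMin G z → IsNilpotent (z * q)
    · refine Subgroup.mem_sup_right ⟨InG.mem (hu ▸ by simpa using hq.inG 1), ?_⟩
      refine mem_centralizer_coreGroup fun a ha => ?_
      rw [hu, add_sub_cancel_left]
      exact commute_of_all_nilpotent h2 h3 hpure hq hall ha
    · push Not at hall
      obtain ⟨a, ha, haq⟩ := hall
      obtain ⟨y, hy, hyr, -, hrq, hlt⟩ := exists_min_split h2 h3 ha hq haq
      have hyu : oneAddUnit y hy.sq ∈ coreGroup G :=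
        le_coreGroup hy.mem_sigma (oneAddUnit_mem hy.self_mem _)
      rcases eq_or_ne (q - y) 0 with h0 | h0
      · have : u = oneAddUnit y hy.sq := Units.ext (by rw [hu, coe_oneAddUnit, sub_eq_zero.mp h0])
        exact this ▸ Subgroup.mem_sup_left hyu
      · have hr := hrq h0
        have he : u = oneAddUnit y hy.sq * oneAddUnit (q - y) hr.sq := Units.ext (by
          rw [Units.val_mul, coe_oneAddUnit, coe_oneAddUnit, hu, add_mul, mul_add, mul_add,
            one_mul, one_mul, mul_one, hyr]
          abel)
        rw [he]
        exact mul_mem (Subgroup.mem_sup_left hyu) (ih _ (hn ▸ hlt) _ hr rfl _ rfl)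

theorem coreGroup_cocentral (hgen : Subgroup.closure (quadraticElements G) = G) :
    coreGroup G ⊔
      (G ⊓ Subgroup.centralizer (coreGroup G : Set (LinearMap.GeneralLinearGroup k M))) = G := by
  refine le_antisymm (sup_le coreGroup_le inf_le_left) ?_
  calc G = Subgroup.closure (quadraticElements G) := hgen.symm
    _ ≤ _ := (Subgroup.closure_le _).mpr fun σ hσ => quadratic_mem_core_sup h2 h3 hpure hσ

end Cfsg.Agent.RootSub.Quad
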