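import Cfsg.Agent.RootSub.Quad.CoCentral

/-!
# The components of Σ

The connected components of the rank one graph on Σ: different components commute, each is a
class of root subgroups of the group it generates, and there are only finitely many.
-/

namespace Cfsg.Agent.RootSub.Quad

open Cfsg Polynomial Dickson
open scoped MatrixGroups commutatorElement

variable {k : Type*} [Field k] {M : Type*} [AddCommGroup M] [Module k M] [FiniteDimensional k M]

/-- Two members of Σ are joined in the rank one graph. -/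
def Conn (G : Subgroup (LinearMap.GeneralLinearGroup k M))
    (A B : Subgroup (LinearMap.GeneralLinearGroup k M)) : Prop :=
  Relation.ReflTransGen (FAdj (quadraticRootSubgroups G)) A B

/-- The component of a member of Σ. -/
def compSet (G : Subgroup (LinearMap.GeneralLinearGroup k M))
    (A : Subgroup (LinearMap.GeneralLinearGroup k M)) :
    Set (Subgroup (LinearMap.GeneralLinearGroup k M)) :=
  componentOf (FAdj (quadraticRootSubgroups G)) (quadraticRootSubgroups G) A

/-- The group generated by a component. -/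
def compGroup (G : Subgroup (LinearMap.GeneralLinearGroup k M))
    (A : Subgroup (LinearMap.GeneralLinearGroup k M)) :
    Subgroup (LinearMap.GeneralLinearGroup k M) :=
  ⨆ B ∈ compSet G A, B

variable {G : Subgroup (LinearMap.GeneralLinearGroup k M)}
variable {A B C : Subgroup (LinearMap.GeneralLinearGroup k M)}

theorem mem_compSet : B ∈ compSet G A ↔ B ∈ quadraticRootSubgroups G ∧ Conn G A B := Iff.rfl

theorem Conn.trans (h : Conn G A B) (h' : Conn G B C) : Conn G A C :=
  Relation.ReflTransGen.trans h h'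

theorem Conn.symm (h : Conn G A B) : Conn G B A := by
  induction h with
  | refl => exact Relation.ReflTransGen.refl
  | tail _ hadj ih =>
    exact Relation.ReflTransGen.head ⟨hadj.2.1, hadj.1, RankOnePair_symm hadj.2.2⟩ ih

theorem Conn.mem (h : Conn G A B) (hA : A ∈ quadraticRootSubgroups G) :
    B ∈ quadraticRootSubgroups G := by
  induction h with
  | refl => exact hA
  | tail _ hadj _ => exact hadj.2.1

theorem compSet_eq_of_conn (h : Conn G A B) : compSet G A = compSet G B :=
  Set.ext fun C => ⟨fun hC => ⟨hC.1, h.symm.trans hC.2⟩, fun hC => ⟨hC.1, h.trans hC.2⟩⟩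

theorem compGroup_eq_of_conn (h : Conn G A B) : compGroup G A = compGroup G B := by
  rw [compGroup, compGroup, compSet_eq_of_conn h]

theorem self_mem_compSet (hA : A ∈ quadraticRootSubgroups G) : A ∈ compSet G A :=
  ⟨hA, Relation.ReflTransGen.refl⟩

theorem le_compGroup (hB : B ∈ compSet G A) : B ≤ compGroup G A :=
  le_iSup₂ (f := fun (D : Subgroup (LinearMap.GeneralLinearGroup k M)) (_ : D ∈ compSet G A) => D)
    B hB

theorem compGroup_le_core : compGroup G A ≤ coreGroup G :=
  iSup₂_le fun _ hB => le_coreGroup hB.1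

theorem compGroup_le : compGroup G A ≤ G := compGroup_le_core.trans coreGroup_le

variable (h2 : (2 : k) ≠ 0) (h3 : Nat.card k ≠ 3)

include h2 h3

theorem fadj_of_opp {a b : Module.End k M} (ha : IsMin G a) (hb : IsMin G b) (h : IsOpp a b) :
    FAdj (quadraticRootSubgroups G) (rootGroup G a) (rootGroup G b) :=
  ⟨ha.mem_sigma, hb.mem_sigma, (isSpecialRankOnePair h2 h3 ha hb h).1⟩

theorem conn_of_opp {a b : Module.End k M} (ha : IsMin G a) (hb : IsMin G b) (h : IsOpp a b) :
    Conn G (rootGroup G a) (rootGroup G b) :=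
  Relation.ReflTransGen.single (fadj_of_opp h2 h3 ha hb h)

/-- A Weyl element inside the rank one group. -/
theorem exists_conj_opposite_mem {a b : Module.End k M} (ha : IsMin G a) (hb : IsMin G b)
    (hab : IsOpp a b) :
    ∃ g ∈ rootGroup G a ⊔ rootGroup G b, conjBy (rootGroup G a) g = rootGroup G b := by
  obtain ⟨y, hy, hy0, h1, h2'⟩ := exists_partner h2 h3 ha hb hab ha.self_mem ha.ne_zero
  have hu := oneAddUnit_mem ha.self_mem ha.sq
  have hv := oneAddUnit_mem hy (mul_eq_zero_of_mem hy hy)
  refine ⟨oneAddUnit a ha.sq * (oneAddUnit y (mul_eq_zero_of_mem hy hy))⁻¹ * oneAddUnit a ha.sq,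
    mul_mem (mul_mem (Subgroup.mem_sup_left hu) (inv_mem (Subgroup.mem_sup_right hv)))
      (Subgroup.mem_sup_left hu), ?_⟩
  rw [conjBy_rootGroup (mul_mem (mul_mem (rootGroup_le hu) (inv_mem (rootGroup_le hv)))
    (rootGroup_le hu))]
  refine rootGroup_congr (weyl_conj_space ha hb ha.self_mem ha.ne_zero hy hy0 h1 h2' ?_)
  rw [Units.val_mul, Units.val_mul, coe_oneAddUnit, coe_oneAddUnit_inv, weyl_val ha.sq h1]

/-- The image of SL₂ lies in the rank one group. -/
theorem oppHom_range_le {a b : Module.End k M} (ha : IsMin G a) (hb : IsMin G b)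
    (hab : IsOpp a b) :
    (oppHom h2 h3 ha hb hab).range ≤ rootGroup G a ⊔ rootGroup G b := by
  let := (hab.field h2 h3 ha hb).toField
  rw [MonoidHom.range_eq_map, ← SL2.sup_eq_top, Subgroup.map_sup, sup_comm]
  refine sup_le_sup ?_ ?_
  · rintro _ ⟨g, hg, rfl⟩
    obtain ⟨t, rfl⟩ := SL2.mem_upper.mp hg
    obtain ⟨f, rfl⟩ := Ideal.Quotient.mk_surjective t
    rw [mem_rootGroup, show SL2.up (Ideal.Quotient.mk (stabIdeal a b) f) =
      upR (Ideal.Quotient.mk (stabIdeal a b) f) from rfl, oppHom_upR, add_sub_cancel_left]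
    exact termA_mem h2 h3 ha hb hab f
  · rintro _ ⟨g, hg, rfl⟩
    obtain ⟨t, rfl⟩ := SL2.mem_lower.mp hg
    obtain ⟨f, hf⟩ := Ideal.Quotient.mk_surjective
      (t * (isUnit_X_resid h2 h3 ha hb hab).unit⁻¹.val)
    have ht : t = Ideal.Quotient.mk (stabIdeal a b) (f * X) := by
      rw [map_mul, hf, mul_assoc, IsUnit.val_inv_mul, mul_one]
    rw [mem_rootGroup, show SL2.low t = lowR t from rfl, ht, oppHom_lowR, add_sub_cancel_left]
    exact termB_mem h2 h3 ha hb hab f

theorem oppHom_up_one {a b : Module.End k M} (ha : IsMin G a) (hb : IsMin G b) (hab : IsOpp a b) :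
    oppHom h2 h3 ha hb hab (upR 1) = oneAddUnit a ha.sq := by
  refine Units.ext ?_
  have h := oppHom_upR h2 h3 ha hb hab 1
  rw [map_one] at h
  rw [h, coe_oneAddUnit]
  simp [termA]

theorem oppHom_low_X {a b : Module.End k M} (ha : IsMin G a) (hb : IsMin G b) (hab : IsOpp a b) :
    oppHom h2 h3 ha hb hab (lowR (Ideal.Quotient.mk _ X)) = oneAddUnit b hb.sq := by
  refine Units.ext ?_
  have h := oppHom_lowR h2 h3 ha hb hab 1
  rw [one_mul] at h
  rw [h, coe_oneAddUnit]
  simp [termA]

/-- In the commutator case the first member has a conjugate by the second one opposite to a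
given opposite of the commutator. -/
theorem exists_conj_opp {a b : Module.End k M} (ha : IsMin G a) (hb : IsMin G b)
    (h : ¬ IsOpp a b) (hc : a * b - b * a ≠ 0) {δ : Module.End k M} (hδ : IsMin G δ)
    (hopp : IsOpp (a * b - b * a) δ) :
    ∃ u ∈ rootGroup G b, IsOpp (conjEnd u a) δ := by
  set c := a * b - b * a with hcdef
  have hbab : b * a * b = 0 := (nilpotent_case h2 ha hb (not_not.mp h)).2
  have hconj : ∀ s : k, ∃ u ∈ rootGroup G b, conjEnd u a = a - s • c := by
    intro s
    have e1 : (s • b) * (s • b) = 0 := by rw [smul_mul_smul_comm, hb.sq, smul_zero]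
    refine ⟨oneAddUnit (s • b) e1, oneAddUnit_mem (Submodule.smul_mem _ s hb.self_mem) _, ?_⟩
    rw [conjEnd, coe_oneAddUnit, coe_oneAddUnit_inv,
      (show ∀ p : Module.End k M, (1 + p) * a * (1 - p) = a + (p * a - a * p) - p * a * p from
        fun p => by noncomm_ring) (s • b),
      smul_mul_assoc, mul_smul_comm, mul_smul_comm, smul_mul_assoc, hbab, smul_zero, smul_zero,
      sub_zero, ← smul_sub, hcdef, sub_eq_add_neg a, ← smul_neg, neg_sub]
  by_contra hcon
  push Not at hcon
  have hz : ∀ s : k, (a - s • c) * δ * (a - s • c) = 0 := by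
    intro s
    obtain ⟨u, hu, hue⟩ := hconj s
    exact (nilpotent_case h2 (hue ▸ ha.conj (rootGroup_le hu)) hδ
      (hue ▸ not_not.mp (hcon u hu))).1
  have e0 := hz 0
  rw [zero_smul, sub_zero] at e0
  have e1 := hz 1
  rw [one_smul] at e1
  have e2 := hz (-1)
  rw [neg_one_smul, sub_neg_eq_add] at e2
  have e3 : (2 : k) • (c * δ * c) = 0 := by
    have : (a - c) * δ * (a - c) + (a + c) * δ * (a + c) - a * δ * a - a * δ * a =
        c * δ * c + c * δ * c := by noncomm_ring
    rw [e0, e1, e2, sub_zero, sub_zero, add_zero] at this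
    rw [two_smul, ← this]
  refine hopp ⟨2, ?_⟩
  rw [sq, ← mul_assoc, (smul_eq_zero.mp e3).resolve_left h2, zero_mul]

variable (hpure : NoUnipNormal G)

include hpure

/-- In the commutator case the first member and the commutator are connected. -/
theorem conn_commutator {a b : Module.End k M} (ha : IsMin G a) (hb : IsMin G b)
    (h : ¬ IsOpp a b) (hc : a * b - b * a ≠ 0) :
    Conn G (rootGroup G a) (rootGroup G (a * b - b * a)) := by
  obtain ⟨hcm, -⟩ := commutator_data h2 h3 ha hb h ha.self_mem hb.self_mem hc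
  set c := a * b - b * a with hcdef
  obtain ⟨g, hg, hopp⟩ := exists_opposite h2 h3 hpure hcm
  obtain ⟨u, hu, hua⟩ := exists_conj_opp h2 h3 ha hb h hc (hcm.conj hg) hopp
  have huG : u ∈ G := rootGroup_le hu
  set δ := conjEnd u⁻¹ (conjEnd g c) with hδdef
  have hδ : IsMin G δ := (hcm.conj hg).conj (inv_mem huG)
  have h1 : IsOpp a δ := by
    have := (isOpp_conj u⁻¹).mpr hua
    rwa [conjEnd_conjEnd, inv_mul_cancel, conjEnd_one] at this
  have hfix : conjEnd u⁻¹ c = c := by
    obtain ⟨z1, z2⟩ := commutator_annihilates' h2 h3 ha hb h hc hu hcm.self_mem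
    obtain ⟨w1, w2⟩ := commutator_annihilates' h2 h3 ha hb h hc
      (show u⁻¹ ∈ rootGroup G b from inv_mem hu) hcm.self_mem
    rw [sub_mul, one_mul, sub_eq_zero] at w1
    rw [mul_sub, mul_one, sub_eq_zero] at z2
    rw [conjEnd, inv_inv, w1, z2]
  have h4 : IsOpp c δ := by
    have := (isOpp_conj u⁻¹).mpr hopp
    rwa [hfix] at this
  exact (conn_of_opp h2 h3 ha hδ h1).trans (conn_of_opp h2 h3 hδ hcm h4.symm)

theorem conn_commutator' {a b : Module.End k M} (ha : IsMin G a) (hb : IsMin G b)
    (h : ¬ IsOpp a b) (hc : a * b - b * a ≠ 0) :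
    Conn G (rootGroup G b) (rootGroup G (a * b - b * a)) := by
  have := conn_commutator h2 h3 hpure hb ha (fun h' => h h'.symm)
    (sub_ne_zero.mpr fun e => hc (sub_eq_zero.mpr e.symm))
  rwa [rootGroup_congr (rootSpace_congr (G := G) (a := b * a - a * b) (b := a * b - b * a) ?_ ?_)]
    at this
  · rw [← neg_sub, LinearMap.range_neg]
  · rw [← neg_sub, LinearMap.ker_neg]

/-- Two members that are not connected commute. -/
theorem commute_of_not_conn {a b : Module.End k M} (ha : IsMin G a) (hb : IsMin G b)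
    (h : ¬ Conn G (rootGroup G a) (rootGroup G b)) : ¬ IsOpp a b ∧ a * b = b * a := by
  have hn : ¬ IsOpp a b := fun ho => h (conn_of_opp h2 h3 ha hb ho)
  refine ⟨hn, sub_eq_zero.mp ?_⟩
  by_contra hc
  exact h ((conn_commutator h2 h3 hpure ha hb hn hc).trans
    (conn_commutator' h2 h3 hpure ha hb hn hc).symm)

theorem commutator_eq_bot_of_not_conn (hA : A ∈ quadraticRootSubgroups G)
    (hB : B ∈ quadraticRootSubgroups G) (h : ¬ Conn G A B) : ⁅A, B⁆ = ⊥ := by
  obtain ⟨a, ha, rfl⟩ := mem_quadraticRootSubgroups.mp hA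
  obtain ⟨b, hb, rfl⟩ := mem_quadraticRootSubgroups.mp hB
  obtain ⟨hn, hc⟩ := commute_of_not_conn h2 h3 hpure ha hb h
  exact (commutator_eq_bot_iff h2 h3 ha hb hn).mpr (sub_eq_zero.mpr hc)

/-- The groups of different components commute. -/
theorem compGroup_commute (h : ¬ Conn G A B) : ⁅compGroup G A, compGroup G B⁆ = ⊥ := by
  rw [Subgroup.commutator_eq_bot_iff_le_centralizer]
  refine iSup₂_le fun C hC => ?_
  rw [← Subgroup.commutator_eq_bot_iff_le_centralizer, Subgroup.commutator_comm,
    Subgroup.commutator_eq_bot_iff_le_centralizer]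
  refine iSup₂_le fun D hD => ?_
  rw [← Subgroup.commutator_eq_bot_iff_le_centralizer]
  exact commutator_eq_bot_of_not_conn h2 h3 hpure hD.1 hC.1
    fun hDC => h (Conn.trans hC.2 ((Conn.symm hDC).trans (Conn.symm hD.2)))

omit hpure

theorem fadj_conj (h : FAdj (quadraticRootSubgroups G) A B) (hpure : NoUnipNormal G)
    {g : LinearMap.GeneralLinearGroup k M} (hg : g ∈ G) :
    FAdj (quadraticRootSubgroups G) (conjBy A g) (conjBy B g) := by
  obtain ⟨hA, hB, hAB⟩ := h
  obtain ⟨a, ha, rfl⟩ := mem_quadraticRootSubgroups.mp hA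
  obtain ⟨b, hb, rfl⟩ := mem_quadraticRootSubgroups.mp hB
  rw [conjBy_rootGroup hg, conjBy_rootGroup hg]
  exact fadj_of_opp h2 h3 (ha.conj hg) (hb.conj hg)
    ((isOpp_conj g).mpr (isOpp_of_rankOne h2 h3 ha hb hpure hAB))

include hpure

theorem Conn.conj (h : Conn G A B) {g : LinearMap.GeneralLinearGroup k M} (hg : g ∈ G) :
    Conn G (conjBy A g) (conjBy B g) := by
  induction h with
  | refl => exact Relation.ReflTransGen.refl
  | tail _ hadj ih => exact ih.tail (fadj_conj h2 h3 hadj hpure hg)

/-- A component is stable under its own group. -/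
theorem conj_mem_compSet {g : LinearMap.GeneralLinearGroup k M} (hg : g ∈ compGroup G A)
    (hB : B ∈ compSet G A) : conjBy B g ∈ compSet G A := by
  let T : Subgroup (LinearMap.GeneralLinearGroup k M) :=
    { carrier := {g | g ∈ G ∧ Conn G A (conjBy A g)}
      one_mem' := ⟨one_mem _, by rw [conjBy_one]; exact Relation.ReflTransGen.refl⟩
      mul_mem' := fun {x y} hx hy => ⟨mul_mem hx.1 hy.1, Conn.trans hx.2 (by
        have := Conn.conj h2 h3 hpure hy.2 hx.1
        rwa [conjBy_conjBy] at this)⟩
      inv_mem' := fun {x} hx => ⟨inv_mem hx.1, by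
        have := Conn.conj h2 h3 hpure hx.2 (inv_mem hx.1)
        rw [conjBy_inv_cancel] at this
        exact Conn.symm this⟩ }
  have hle : compGroup G A ≤ T := iSup₂_le fun C hC x hx => by
    refine ⟨sigma_le hC.1 hx, ?_⟩
    have := Conn.conj h2 h3 hpure hC.2 (sigma_le hC.1 hx)
    rw [conjBy_mem_self hx] at this
    exact Conn.trans hC.2 (Conn.symm this)
  obtain ⟨hgG, hgc⟩ := hle hg
  exact ⟨conj_mem_sigma hB.1 hgG, Conn.trans hgc (Conn.conj h2 h3 hpure hB.2 hgG)⟩

/-- A component is a single class under its own group. -/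
theorem exists_conj_of_conn (hA : A ∈ quadraticRootSubgroups G) (h : Conn G A B) :
    ∃ g ∈ compGroup G A, conjBy A g = B := by
  induction h with
  | refl => exact ⟨1, one_mem _, conjBy_one A⟩
  | @tail C D hAC hadj ih =>
    obtain ⟨g, hg, rfl⟩ := ih
    obtain ⟨c, hc, hce⟩ := mem_quadraticRootSubgroups.mp hadj.1
    obtain ⟨d, hd, rfl⟩ := mem_quadraticRootSubgroups.mp hadj.2.1
    have hopp := isOpp_of_rankOne h2 h3 hc hd hpure (hce ▸ hadj.2.2)
    obtain ⟨w, hw, hwe⟩ := exists_conj_opposite_mem h2 h3 hc hd hopp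
    refine ⟨w * g, mul_mem ?_ hg, ?_⟩
    · refine (sup_le ?_ ?_ : rootGroup G c ⊔ rootGroup G d ≤ compGroup G A) hw
      · exact le_compGroup ⟨hc.mem_sigma, hce ▸ hAC⟩
      · exact le_compGroup ⟨hd.mem_sigma, hAC.tail hadj⟩
    · rw [← conjBy_conjBy, hce, hwe]

/-- A component is a class of root subgroups of its group. -/
theorem compSet_isRootSubgroupClass (hA : A ∈ quadraticRootSubgroups G) :
    IsRootSubgroupClass ((fun B : Subgroup (LinearMap.GeneralLinearGroup k M) =>
      B.subgroupOf (compGroup G A)) '' compSet G A) := by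
  refine ⟨isRootSubgroupSet_subgroupOf (compSet G A) ?_ ?_
    (fun B hB g hg => conj_mem_compSet h2 h3 hpure hg hB) ?_, ⟨_, A, self_mem_compSet hA, rfl⟩, ?_⟩
  · intro B hB
    obtain ⟨b, -, rfl⟩ := mem_quadraticRootSubgroups.mp hB.1
    exact rootGroup_comm b
  · intro B hB
    obtain ⟨b, hb, rfl⟩ := mem_quadraticRootSubgroups.mp hB.1
    exact hb.rootGroup_ne_bot
  · intro B hB C hC
    by_cases h0 : ⁅B, C⁆ = ⊥
    · exact Or.inl h0
    rcases pair_cases h2 h3 hpure hB.1 hC.1 with h | h | ⟨h1, h1'⟩
    · exact Or.inl h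
    · exact Or.inr (Or.inl h)
    · obtain ⟨b, hb, rfl⟩ := mem_quadraticRootSubgroups.mp hB.1
      obtain ⟨c, hc, rfl⟩ := mem_quadraticRootSubgroups.mp hC.1
      refine Or.inr ?_
      by_cases hopp : IsOpp b c
      · exact Or.inl (isSpecialRankOnePair h2 h3 hb hc hopp).1
      · have hne : b * c - c * b ≠ 0 := fun e =>
          h0 ((commutator_eq_bot_iff h2 h3 hb hc hopp).mpr e)
        have he := (commutator_case h2 h3 hpure hb hc hopp hne).1
        refine Or.inr ⟨⟨h1, ?_⟩, h1'⟩
        show Conn G A _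
        rw [he]
        exact Conn.trans hB.2 (conn_commutator h2 h3 hpure hb hc hopp hne)
  · rintro _ ⟨B, hB, rfl⟩ _ ⟨C, hC, rfl⟩
    obtain ⟨g, hg, rfl⟩ := exists_conj_of_conn h2 h3 hpure hA hB.2
    obtain ⟨g', hg', rfl⟩ := exists_conj_of_conn h2 h3 hpure hA hC.2
    refine ⟨⟨g' * g⁻¹, mul_mem hg' (inv_mem hg)⟩, ?_⟩
    rw [conjBy_subgroupOf, conjBy_conjBy]
    simp

theorem exists_psl2_of_partner (hA : A ∈ quadraticRootSubgroups G)
    (hB : B ∈ quadraticRootSubgroups G) (h : IsRankOnePair A B) :
    ∃ a b : Module.End k M, IsMin G a ∧ IsMin G b ∧ IsOpp a b ∧ A = rootGroup G a ∧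
      B = rootGroup G b := by
  obtain ⟨a, ha, rfl⟩ := mem_quadraticRootSubgroups.mp hA
  obtain ⟨b, hb, rfl⟩ := mem_quadraticRootSubgroups.mp hB
  exact ⟨a, b, ha, hb, isOpp_of_rankOne h2 h3 ha hb hpure h, rfl, rfl⟩

omit h2 h3 hpure in
/-- The group of a component is normalised by the core. -/
theorem coreGroup_le_normalizer (h2 : (2 : k) ≠ 0) (h3 : Nat.card k ≠ 3) (hpure : NoUnipNormal G) :
    coreGroup G ≤
      Subgroup.normalizer (compGroup G A : Set (LinearMap.GeneralLinearGroup k M)) := by
  refine iSup₂_le fun B hB => ?_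
  by_cases h : Conn G A B
  · exact (le_compGroup ⟨hB, h⟩).trans Subgroup.le_normalizer
  · intro x hx
    rw [← conjBy_eq_self_iff]
    have hc : compGroup G A ≤ Subgroup.centralizer (compGroup G B : Set _) :=
      Subgroup.commutator_eq_bot_iff_le_centralizer.mp (compGroup_commute h2 h3 hpure h)
    have hxB : x ∈ compGroup G B := le_compGroup (self_mem_compSet hB) hx
    ext y
    rw [mem_conjBy]
    constructor <;> intro hy
    · have := Subgroup.mem_centralizer_iff.mp (hc hy) x hxB
      rw [show x * (x⁻¹ * y * x) = y * x by group] at this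
      rwa [← mul_right_cancel this] at hy
    · have := Subgroup.mem_centralizer_iff.mp (hc hy) x hxB
      rwa [mul_assoc, ← this, inv_mul_cancel_left]

/-- When G is generated by its quadratic elements every component group is normal. -/
theorem conjBy_compGroup (hgen : Subgroup.closure (quadraticElements G) = G)
    {g : LinearMap.GeneralLinearGroup k M} (hg : g ∈ G) :
    conjBy (compGroup G A) g = compGroup G A := by
  rw [conjBy_eq_self_iff]
  have hle : coreGroup G ⊔
      (G ⊓ Subgroup.centralizer (coreGroup G : Set (LinearMap.GeneralLinearGroup k M))) ≤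
      Subgroup.normalizer (compGroup G A : Set (LinearMap.GeneralLinearGroup k M)) := by
    refine sup_le (coreGroup_le_normalizer h2 h3 hpure) ?_
    intro x hx
    exact Subgroup.centralizer_le_normalizer _
      (Subgroup.centralizer_le (SetLike.coe_subset_coe.mpr compGroup_le_core) hx.2)
  rw [coreGroup_cocentral h2 h3 hpure hgen] at hle
  exact hle hg

/-- There are only finitely many components. -/
theorem finite_components : (compSet G '' quadraticRootSubgroups G).Finite := by
  classical
  have hrep : ∀ P : ↥(compSet G '' quadraticRootSubgroups G), ∃ a : Module.End k M,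
      IsMin G a ∧ compSet G (rootGroup G a) = P := by
    rintro ⟨_, A, hA, rfl⟩
    obtain ⟨a, ha, rfl⟩ := mem_quadraticRootSubgroups.mp hA
    exact ⟨a, ha, rfl⟩
  choose f hf hfP using hrep
  have hli : LinearIndependent k f := by
    rw [linearIndependent_iff']
    intro s c hs i hi
    obtain ⟨g, hg, hopp⟩ := exists_opposite h2 h3 hpure (hf i)
    set b := conjEnd g (f i)
    have hb := (hf i).conj hg
    have hne := commute_of_opp h2 h3 (hf i) hb hopp (hf i).self_mem (hf i).ne_zero hb.self_mem
      hb.ne_zero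
    have hcomm : ∀ j, j ≠ i → f j * b = b * f j := by
      intro j hj
      refine (commute_of_not_conn h2 h3 hpure (hf j) hb fun hc => hj ?_).2
      apply Subtype.ext
      rw [← hfP j, ← hfP i, compSet_eq_of_conn hc,
        compSet_eq_of_conn (conn_of_opp h2 h3 (hf i) hb hopp)]
    have h0 : c i • (f i * b - b * f i) = 0 := by
      have h' : (∑ j ∈ s, c j • f j) * b - b * ∑ j ∈ s, c j • f j = 0 := by
        rw [hs, zero_mul, mul_zero, sub_zero]
      rw [Finset.sum_mul, Finset.mul_sum, ← Finset.sum_sub_distrib,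
        Finset.sum_eq_single_of_mem i hi] at h'
      · rwa [smul_mul_assoc, mul_smul_comm, ← smul_sub] at h'
      · intro j _ hj
        rw [smul_mul_assoc, mul_smul_comm, hcomm j hj, sub_self]
    exact (smul_eq_zero.mp h0).resolve_right (sub_ne_zero.mpr hne)
  exact Set.finite_coe_iff.mp (LinearIndependent.finite hli)

end Cfsg.Agent.RootSub.Quad
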