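import Cfsg.Agent.RootSub.Quad.Words

/-!
# A pair with non-nilpotent product is an opposite pair over a field k[T]
-/

namespace Cfsg.Agent.RootSub.Quad

open Polynomial Dickson
open scoped MatrixGroups

variable {k : Type*} [Field k] {M : Type*} [AddCommGroup M] [Module k M] [FiniteDimensional k M]
variable {G : Subgroup (LinearMap.GeneralLinearGroup k M)}

/-- The polynomials killing the stable part of ab on the range of a. -/
noncomputable def stabIdeal (a b : Module.End k M) : Ideal k[X] where
  carrier := {f | aeval (a * b) (f * X ^ Module.finrank k M) * a = 0}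
  zero_mem' := by simp
  add_mem' := by
    intro f g hf hg
    simp only [Set.mem_ofPred_eq] at hf hg ⊢
    rw [add_mul f g, map_add, add_mul, hf, hg, add_zero]
  smul_mem' := by
    intro c f hf
    simp only [Set.mem_ofPred_eq] at hf ⊢
    rw [smul_eq_mul, mul_assoc c, map_mul, mul_assoc, hf, mul_zero]

theorem mem_stabIdeal {a b : Module.End k M} {f : k[X]} :
    f ∈ stabIdeal a b ↔ aeval (a * b) (f * X ^ Module.finrank k M) * a = 0 := Iff.rfl

theorem pow_kill {T y : Module.End k M} (i : ℕ) (h : T ^ (Module.finrank k M + i) * y = 0) :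
    T ^ Module.finrank k M * y = 0 := by
  refine LinearMap.ext fun m => ?_
  have hm : y m ∈ LinearMap.ker (T ^ (Module.finrank k M + i)) := LinearMap.congr_fun h m
  rw [Module.End.ker_pow_eq_ker_pow_finrank_of_le (Nat.le_add_right _ i)] at hm
  exact hm

/-- Membership can be tested with any larger power of X. -/
theorem mem_stabIdeal_iff {a b : Module.End k M} {f : k[X]} {L : ℕ}
    (hL : Module.finrank k M ≤ L) :
    f ∈ stabIdeal a b ↔ aeval (a * b) (f * X ^ L) * a = 0 := by
  obtain ⟨i, rfl⟩ := Nat.exists_eq_add_of_le hL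
  rw [mem_stabIdeal]
  constructor
  · intro h
    rw [show f * X ^ (Module.finrank k M + i) = X ^ i * (f * X ^ Module.finrank k M) by
      rw [pow_add]; ring, map_mul, mul_assoc, h, mul_zero]
  · intro h
    rw [mul_comm f, map_mul, map_pow, aeval_X, mul_assoc] at h ⊢
    exact pow_kill i h

theorem kill_AB {a b : Module.End k M} {f : k[X]} {L : ℕ} (hL : Module.finrank k M ≤ L)
    (hf : f ∈ stabIdeal a b) : termAB a b (f * X ^ L) = 0 := by
  rw [termAB, ← mul_assoc, (mem_stabIdeal_iff hL).mp hf, zero_mul]

theorem kill_BA {a b : Module.End k M} {f : k[X]} {L : ℕ} (hL : Module.finrank k M ≤ L)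
    (hf : f ∈ stabIdeal a b) : termAB b a (f * X ^ L) = 0 := by
  rw [termAB, ← aeval_comm, mul_assoc, mul_aeval_swap, (mem_stabIdeal_iff hL).mp hf, mul_zero]

theorem kill_B {a b : Module.End k M} {f : k[X]} {L : ℕ} (hL : Module.finrank k M ≤ L)
    (hf : f ∈ stabIdeal a b) : termA b a (f * X ^ (L + 1)) = 0 := by
  rw [termA, show f * X ^ (L + 1) = (f * X ^ L) * X by rw [pow_succ]; ring, map_mul, aeval_X]
  have := kill_BA hL hf
  rw [termAB] at this
  rw [this, zero_mul]

/-- The upper standard nilpotent. -/
noncomputable def e12 : Matrix (Fin 2) (Fin 2) k[X] := !![0, 1; 0, 0]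

omit [FiniteDimensional k M] in
theorem evalMat_e12 (a b : Module.End k M) : evalMat a b (e12 (k := k)) = a := by
  simp [evalMat, e12, termA, termAB]

theorem admissible_e12 : Admissible (e12 (k := k)) := by
  constructor <;> simp [e12]

/-- The conjugate of a by a word. -/
theorem conj_word_eval {a b : Module.End k M} (ha : a * a = 0) (hb : b * b = 0) {W : SL(2, k[X])}
    (hW : W ∈ wordGroup k) :
    ∃ V : Matrix (Fin 2) (Fin 2) k[X], Admissible V ∧
      V = !![-(W 0 0 * W 1 0), W 0 0 ^ 2; -(W 1 0) ^ 2, W 0 0 * W 1 0] ∧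
      conjEnd (wordHom ha hb ⟨W, hW⟩) a = evalMat a b V := by
  have hWa := (admissible_of_mem hW).1
  have hWi := (admissible_of_mem (inv_mem hW)).1
  refine ⟨(W : Matrix (Fin 2) (Fin 2) k[X]) * e12 * ((W⁻¹ : SL(2, k[X])) : Matrix (Fin 2) (Fin 2) k[X]),
    (hWa.mul admissible_e12).mul hWi, ?_, ?_⟩
  · rw [Matrix.SpecialLinearGroup.coe_inv, Matrix.adjugate_fin_two]
    refine Matrix.ext fun i j => ?_
    fin_cases i <;> fin_cases j <;> simp [e12, Matrix.mul_apply, Fin.sum_univ_two] <;> ring
  · rw [evalMat_mul ha hb (hWa.mul admissible_e12) hWi, evalMat_mul ha hb hWa admissible_e12,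
      evalMat_e12, conjEnd, ← map_inv]
    rfl

/-- av and va for a conjugate v of a. -/
theorem mul_conj_eval {a b : Module.End k M} (ha : a * a = 0) (hb : b * b = 0)
    {W : SL(2, k[X])} (hW : W ∈ wordGroup k) {v : Module.End k M}
    (hv : v = conjEnd (wordHom ha hb ⟨W, hW⟩) a) :
    a * v = termAB a b (-(W 1 0) ^ 2).divX + termA a b (W 0 0 * W 1 0) ∧
      v * a = termA a b (-(W 0 0 * W 1 0)) + termAB b a (-(W 1 0) ^ 2).divX ∧
        a * v * a = termA a b (-(W 1 0) ^ 2) := by
  obtain ⟨V, hVa, hVe, hVv⟩ := conj_word_eval ha hb hW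
  have h10 : (W 1 0).coeff 0 = 0 := (word_mod_X hW).2.1
  rw [← hv] at hVv
  have e1 : (e12 (k := k)) * V = !![-(W 1 0) ^ 2, W 0 0 * W 1 0; 0, 0] := by
    rw [hVe]
    refine Matrix.ext fun i j => ?_
    fin_cases i <;> fin_cases j <;> simp [e12, Matrix.mul_apply, Fin.sum_univ_two]
  have e2 : V * (e12 (k := k)) = !![0, -(W 0 0 * W 1 0); 0, -(W 1 0) ^ 2] := by
    rw [hVe]
    refine Matrix.ext fun i j => ?_
    fin_cases i <;> fin_cases j <;> simp [e12, Matrix.mul_apply, Fin.sum_univ_two]
  have h1 := evalMat_mul ha hb admissible_e12 hVa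
  rw [evalMat_e12, ← hVv, e1] at h1
  have h2 := evalMat_mul ha hb hVa admissible_e12
  rw [evalMat_e12, ← hVv, e2] at h2
  refine ⟨?_, ?_, ?_⟩
  · rw [← h1]
    simp [evalMat, pow_two, h10, termA, termAB, mul_coeff_zero]
  · rw [← h2]
    simp [evalMat, pow_two, h10, termA, termAB, mul_coeff_zero]
  · have h3 := evalMat_mul ha hb (admissible_e12.mul hVa) admissible_e12
    rw [evalMat_mul ha hb admissible_e12 hVa, evalMat_e12, ← hVv, e1] at h3
    rw [← h3]
    simp [evalMat, e12, Matrix.mul_apply, Fin.sum_univ_two, termA, termAB]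

theorem pow_mul_conj {a b v : Module.End k M} {f : k[X]} (h : a * v * a = termA a b f) (n : ℕ) :
    (a * v) ^ n * a = termA a b (f ^ n) := by
  induction n with
  | zero => simp [termA]
  | succ n ih =>
    rw [pow_succ (a * v), mul_assoc, h, termA_eq a b f, ← mul_assoc, ih, termA, mul_assoc,
      mul_aeval_swap, termA, pow_succ, map_mul, mul_assoc]

theorem isUnit_of_injective {A : Type*} [CommRing A] [Algebra k A] [FiniteDimensional k A] {x : A}
    (h : ∀ y, x * y = 0 → y = 0) : IsUnit x := by
  have hinj : Function.Injective (LinearMap.mulLeft k x) := by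
    rw [← LinearMap.ker_eq_bot, LinearMap.ker_eq_bot']
    exact h
  obtain ⟨y, hy⟩ := LinearMap.surjective_of_injective hinj 1
  exact IsUnit.of_mul_eq_one y hy

theorem one_notMem_stabIdeal {a b : Module.End k M} (h : ¬ IsNilpotent (a * b)) :
    (1 : k[X]) ∉ stabIdeal a b := by
  intro h1
  rw [mem_stabIdeal, one_mul, map_pow, aeval_X] at h1
  refine h ⟨Module.finrank k M + 1, ?_⟩
  rw [pow_succ, ← mul_assoc, h1, zero_mul]

theorem X_isUnit (a b : Module.End k M) :
    ∀ y : k[X] ⧸ stabIdeal a b, Ideal.Quotient.mk _ X * y = 0 → y = 0 := by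
  intro y hy
  obtain ⟨f, rfl⟩ := Ideal.Quotient.mk_surjective y
  rw [← map_mul, Ideal.Quotient.eq_zero_iff_mem, mem_stabIdeal] at hy
  rw [Ideal.Quotient.eq_zero_iff_mem, mem_stabIdeal_iff (Nat.le_succ (Module.finrank k M))]
  convert hy using 3
  rw [pow_succ]; ring

instance (a b : Module.End k M) : FiniteDimensional k (k[X] ⧸ stabIdeal a b) := by
  let φ : k[X] →ₗ[k] Module.End k M :=
    (LinearMap.mulRight k a).comp ((aeval (a * b)).toLinearMap.comp
      (LinearMap.mulRight k (X ^ Module.finrank k M)))
  have hker : LinearMap.ker φ = (stabIdeal a b).restrictScalars k := by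
    ext f
    rw [Submodule.restrictScalars_mem, mem_stabIdeal, LinearMap.mem_ker]
    rfl
  have : FiniteDimensional k (k[X] ⧸ LinearMap.ker φ) :=
    φ.quotKerEquivRange.symm.finiteDimensional
  rw [hker] at this
  exact this

/-- range ((ab)^n a), the stable part of ab on the range of a. -/
noncomputable def stablePart (a b : Module.End k M) : Submodule k M :=
  LinearMap.range ((a * b) ^ Module.finrank k M * a)

theorem stablePart_le (a b : Module.End k M) : stablePart a b ≤ LinearMap.range a := by
  have h := mul_aeval_swap a b (X ^ Module.finrank k M : k[X])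
  rw [stablePart]
  simp only [map_pow, aeval_X] at h
  rw [← h]
  exact LinearMap.range_comp_le_range _ _

theorem map_stablePart (a b : Module.End k M) (f : k[X]) :
    (stablePart a b).map (aeval (a * b) f) =
      LinearMap.range (aeval (a * b) (f * X ^ Module.finrank k M) * a) := by
  rw [stablePart, ← LinearMap.range_comp, ← Module.End.mul_eq_comp, map_mul, map_pow, aeval_X,
    mul_assoc]

theorem aeval_mem_stablePart {a b : Module.End k M} (f : k[X]) {m : M}
    (hm : m ∈ stablePart a b) : aeval (a * b) f m ∈ stablePart a b := by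
  obtain ⟨x, rfl⟩ := hm
  refine ⟨aeval (b * a) f x, ?_⟩
  have h := mul_aeval_swap a b f
  have h' : (a * b) ^ Module.finrank k M * a * aeval (b * a) f =
      aeval (a * b) f * ((a * b) ^ Module.finrank k M * a) := by
    rw [mul_assoc, h, ← mul_assoc, ← mul_assoc]
    congr 1
    calc (a * b) ^ Module.finrank k M * aeval (a * b) f
        = aeval (a * b) (X ^ Module.finrank k M * f) := by simp
      _ = aeval (a * b) (f * X ^ Module.finrank k M) := by rw [mul_comm]
      _ = aeval (a * b) f * (a * b) ^ Module.finrank k M := by simp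
  exact LinearMap.congr_fun h' x

theorem range_aeval_A (a b : Module.End k M) (f : k[X]) :
    LinearMap.range (termA a b f) ≤ LinearMap.range a := by
  rw [termA_eq]; exact LinearMap.range_comp_le_range _ _

/-- **The non-nilpotent case**: k[T] is a field and T is invertible on the range of a. -/
theorem opp_main (h2 : (2 : k) ≠ 0) (h3 : Nat.card k ≠ 3) (n : ℕ) :
    ∀ a b : Module.End k M, IsMin G a → IsQuad G b → ¬ IsNilpotent (a * b) →
      Module.finrank k (stablePart a b) ≤ n →
        IsField (k[X] ⧸ stabIdeal a b) ∧ stablePart a b = LinearMap.range a := by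
  induction n using Nat.strong_induction_on with
  | _ n ih =>
    intro a b ha hb hab hn
    set N := Module.finrank k M with hN
    set π := Ideal.Quotient.mk (stabIdeal a b) with hπ
    set πa : k[X] →ₐ[k] k[X] ⧸ stabIdeal a b := Ideal.Quotient.mkₐ k _ with hπa
    have hπsurj : Function.Surjective πa := Ideal.Quotient.mkₐ_surjective k _
    haveI : Nontrivial (k[X] ⧸ stabIdeal a b) :=
      Ideal.Quotient.nontrivial_iff.mpr fun h =>
        one_notMem_stabIdeal hab (h ▸ Submodule.mem_top)
    have hXu : IsUnit (π X) := isUnit_of_injective (k := k) (X_isUnit a b)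
    have hNpos : 0 < N := by
      rcases Nat.eq_zero_or_pos N with h | h
      · haveI : Subsingleton M := Module.finrank_zero_iff.mp h
        exact absurd (Subsingleton.elim a 0) ha.ne_zero
      · exact h
    -- corners in a maximal ideal square to zero
    have hsq : ∀ (W : SL(2, k[X])) (hW : W ∈ wordGroup k), ¬ IsUnit (π (W 1 0)) →
        π (W 1 0) ^ 2 = 0 ∧ IsNilpotent (a * conjEnd (wordHom ha.sq hb.sq ⟨W, hW⟩) a) := by
      intro W hW hnu
      set u := wordHom ha.sq hb.sq ⟨W, hW⟩ with hu
      set v := conjEnd u a with hv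
      have hvmin : IsMin G v := ha.conj (inG_wordHom ha.toIsQuad hb ⟨W, hW⟩)
      obtain ⟨-, -, hava⟩ := mul_conj_eval ha.sq hb.sq hW hv
      set f : k[X] := -(W 1 0) ^ 2 with hf
      obtain ⟨g', hg'⟩ : X ∣ W 1 0 := X_dvd_iff.mpr (word_mod_X hW).2.1
      set f' : k[X] := -(W 1 0) * g' with hf'
      have hff : f = f' * X := by rw [hf, hf', hg']; ring
      have hnil : IsNilpotent (a * v) := by
        by_contra hav
        -- the stable part shrinks
        have hst : stablePart a v = (stablePart a b).map (aeval (a * b) (f' ^ N)) := by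
          rw [stablePart, map_stablePart, pow_mul_conj hava, ← hN, termA, hff, mul_pow]
        have hle : Module.finrank k (stablePart a v) < Module.finrank k (stablePart a b) := by
          rw [hst]
          refine lt_of_le_of_ne (Submodule.finrank_map_le _ _) fun heq => ?_
          have hinj : Disjoint (stablePart a b) (LinearMap.ker (aeval (a * b) (f' ^ N))) := by
            have h1 := LinearMap.finrank_range_add_finrank_ker
              ((aeval (a * b) (f' ^ N) : Module.End k M).domRestrict (stablePart a b))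
            rw [LinearMap.range_domRestrict, heq] at h1
            have hbot : LinearMap.ker
                ((aeval (a * b) (f' ^ N) : Module.End k M).domRestrict (stablePart a b)) = ⊥ :=
              Submodule.finrank_eq_zero.mp (by omega)
            exact LinearMap.disjoint_ker.mpr fun x hx h0 =>
              congrArg Subtype.val (LinearMap.ker_eq_bot'.mp hbot ⟨x, hx⟩ h0)
          apply hnu
          have hreg : IsUnit (π (f' ^ N)) := isUnit_of_injective (k := k) fun y hy => by
            obtain ⟨h, rfl⟩ := Ideal.Quotient.mk_surjective y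
            rw [← map_mul, Ideal.Quotient.eq_zero_iff_mem, mem_stabIdeal] at hy
            rw [Ideal.Quotient.eq_zero_iff_mem, mem_stabIdeal]
            refine LinearMap.ext fun m => ?_
            refine (Submodule.mem_bot k).mp (disjoint_iff.mp hinj ▸ Submodule.mem_inf.mpr ⟨?_, ?_⟩)
            · rw [map_mul, map_pow, aeval_X, mul_assoc]
              exact aeval_mem_stablePart h ⟨m, rfl⟩
            · rw [LinearMap.mem_ker, ← Module.End.mul_apply, ← mul_assoc, ← map_mul,
                ← mul_assoc]
              exact LinearMap.congr_fun hy m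
          rw [map_pow, hf', map_mul, map_neg, mul_pow] at hreg
          have h1 := isUnit_of_mul_isUnit_left hreg
          rw [isUnit_pow_iff hNpos.ne'] at h1
          simpa using h1.neg
        obtain ⟨-, heq⟩ := ih (Module.finrank k (stablePart a v)) (by omega) a v ha hvmin.toIsQuad hav le_rfl
        rw [heq] at hle
        exact absurd (Submodule.finrank_mono (stablePart_le a b)) (not_le.mpr hle)
      refine ⟨?_, hnil⟩
      have h0 := (nilpotent_case h2 ha hvmin hnil).1
      rw [hava, termA] at h0
      rw [← map_pow, Ideal.Quotient.eq_zero_iff_mem, mem_stabIdeal, mul_comm, map_mul, mul_assoc,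
        show W 1 0 ^ 2 = -f by rw [hf, neg_neg], map_neg, neg_mul, h0, neg_zero, mul_zero]
    -- only one maximal ideal
    obtain ⟨p, hp⟩ := Ideal.exists_maximal (k[X] ⧸ stabIdeal a b)
    have hgenA : Algebra.adjoin k ({πa X} : Set (k[X] ⧸ stabIdeal a b)) = ⊤ := by
      rw [← Set.image_singleton, ← AlgHom.map_adjoin, adjoin_X, Algebra.map_top,
        AlgHom.range_eq_top]
      exact hπsurj
    have hpnil : p = nilradical (k[X] ⧸ stabIdeal a b) := by
      set nl := nilradical (k[X] ⧸ stabIdeal a b) with hnl
      set ρ : (k[X] ⧸ stabIdeal a b) →ₐ[k] _ := Ideal.Quotient.mkₐ k nl with hρ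
      have hρsurj : Function.Surjective ρ := Ideal.Quotient.mkₐ_surjective k _
      haveI : FiniteDimensional k ((k[X] ⧸ stabIdeal a b) ⧸ nl) :=
        Module.Finite.of_surjective ρ.toLinearMap hρsurj
      have hle : nl ≤ p := nilradical_le_prime p
      haveI : (p.map (Ideal.Quotient.mk nl)).IsMaximal := by
        refine (Ideal.map_eq_top_or_isMaximal_of_surjective _ Ideal.Quotient.mk_surjective
          hp).resolve_left fun h => hp.ne_top ?_
        have := congrArg (Ideal.comap (Ideal.Quotient.mk nl)) h
        rwa [Ideal.comap_map_of_surjective _ Ideal.Quotient.mk_surjective, Ideal.comap_top,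
          ← RingHom.ker_eq_comap_bot, Ideal.mk_ker, sup_eq_left.mpr hle] at this
      have hfield : IsField ((k[X] ⧸ stabIdeal a b) ⧸ nl) := by
        refine isField_of_corner h2 h3 (lam := ρ (πa X)) (hXu.map ρ) ?_
          (p.map (Ideal.Quotient.mk nl)) fun γ hγ hγp => ?_
        · rw [← Set.image_singleton, ← AlgHom.map_adjoin, hgenA, Algebra.map_top,
            AlgHom.range_eq_top]
          exact hρsurj
        · have : γ ∈ (wordGroup k).map (Matrix.SpecialLinearGroup.map
              ((ρ.comp πa : k[X] →ₐ[k] _) : k[X] →+* _)) := by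
            rw [wordGroup, map_dicksonGroup]; exact hγ
          obtain ⟨W, hW, rfl⟩ := this
          have hWp : π (W 1 0) ∈ p := by
            have h : π (W 1 0) ∈ (p.map (Ideal.Quotient.mk nl)).comap (Ideal.Quotient.mk nl) :=
              hγp
            rwa [Ideal.comap_map_of_surjective _ Ideal.Quotient.mk_surjective,
              ← RingHom.ker_eq_comap_bot, Ideal.mk_ker, sup_eq_left.mpr hle] at h
          show Ideal.Quotient.mk nl (π (W 1 0)) = 0
          rw [Ideal.Quotient.eq_zero_iff_mem, hnl, mem_nilradical]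
          exact ⟨2, (hsq W hW fun hu => hp.ne_top (Ideal.eq_top_of_isUnit_mem _ hWp hu)).1⟩
      exact ((Ideal.Quotient.maximal_of_isField nl hfield).eq_of_le hp.ne_top hle).symm
    have hpn : ∀ x ∈ p, IsNilpotent x := fun x hx => by
      rwa [hpnil, mem_nilradical] at hx
    letI := Ideal.Quotient.field p
    set L := N + 2 with hL
    set ρ : k[X] →ₐ[k] (k[X] ⧸ stabIdeal a b) ⧸ p := (Ideal.Quotient.mkₐ k p).comp πa with hρ
    have hρsurj : Function.Surjective ρ := (Ideal.Quotient.mkₐ_surjective k p).comp hπsurj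
    haveI : FiniteDimensional k ((k[X] ⧸ stabIdeal a b) ⧸ p) :=
      Module.Finite.of_surjective (Ideal.Quotient.mkₐ k p).toLinearMap
        (Ideal.Quotient.mkₐ_surjective k p)
    have hρX : ρ X ≠ 0 := (hXu.map (Ideal.Quotient.mk p)).ne_zero
    -- rigidity: k[T] is a field
    have hfield : IsField (k[X] ⧸ stabIdeal a b) := by
      refine isField_of_normal h2 h3 (lam := πa X) hXu hgenA p hpn
        ((wordGroup k ⊓ congW k L).map (Matrix.SpecialLinearGroup.map (πa : k[X] →+* _))) ?_ ?_ ?_ ?_
      · rintro _ ⟨W, hW, rfl⟩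
        rw [← map_dicksonGroup]
        exact ⟨W, (Subgroup.mem_inf.mp hW).1, rfl⟩
      · rintro g hg _ ⟨W, hW, rfl⟩
        rw [← map_dicksonGroup] at hg
        obtain ⟨V, hV, rfl⟩ := hg
        exact ⟨V * W * V⁻¹, conj_mem_congW hV hW, by simp⟩
      · intro g
        obtain ⟨W, hW, hWg⟩ := congW_surjective h2 h3 ρ hρsurj hρX L g
        refine ⟨_, ⟨W, hW, rfl⟩, ?_⟩
        rw [← hWg]
        apply ext_entries <;>
          simp [Matrix.SpecialLinearGroup.map_apply_coe, RingHom.mapMatrix_apply, hρ, hπa]
      · rintro _ ⟨W, hW, rfl⟩ hW1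
        obtain ⟨hWw, hWc⟩ := Subgroup.mem_inf.mp hW
        have e : ∀ i j, Ideal.Quotient.mk p (π (W i j)) =
            (1 : SL(2, (k[X] ⧸ stabIdeal a b) ⧸ p)) i j := fun i j => by
          rw [← hW1]
          simp [Matrix.SpecialLinearGroup.map_apply_coe, RingHom.mapMatrix_apply, hπa, hπ]
        have h10p : π (W 1 0) ∈ p := Ideal.Quotient.eq_zero_iff_mem.mp (by rw [e]; simp)
        obtain ⟨hg2, hnil⟩ := hsq W hWw fun hu =>
          hp.ne_top (Ideal.eq_top_of_isUnit_mem _ h10p hu)
        have h00u : IsUnit (π (W 0 0)) := by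
          by_contra hnu
          obtain ⟨q, hq, hmem⟩ := exists_max_ideal_of_mem_nonunits hnu
          have hqp : q = p := by
            rw [hpnil]
            exact (Ideal.IsMaximal.eq_of_le (hpnil ▸ hp) hq.ne_top (nilradical_le_prime q)).symm
          rw [hqp] at hmem
          have := Ideal.Quotient.eq_zero_iff_mem.mpr hmem
          rw [e] at this
          simp at this
        obtain ⟨g', hg'⟩ := (mem_congW.mp hWc).2.2.1
        have hg'2 : g' ^ 2 ∈ stabIdeal a b := by
          rw [← Ideal.Quotient.eq_zero_iff_mem, map_pow]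
          have : π (X ^ L) ^ 2 * π g' ^ 2 = 0 := by rw [← mul_pow, ← map_mul, ← hg', hg2]
          exact ((hXu.map (RingHom.id _)).pow L |>.pow 2).mul_right_eq_zero.mp (by
            simpa [map_pow] using this)
        have hdiv : (-(W 1 0) ^ 2).divX = -(g' ^ 2) * X ^ (2 * L - 1) := by
          rw [show -(W 1 0) ^ 2 = X ^ (2 * L - 1 + 1) * (-(g' ^ 2)) by
            rw [hg', show 2 * L - 1 + 1 = L + L by omega, pow_add]; ring, divX_X_pow_mul, mul_comm]
        set u := wordHom ha.sq hb.sq ⟨W, hWw⟩ with hu
        set v := conjEnd u a with hv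
        have hvmin : IsMin G v := ha.conj (inG_wordHom ha.toIsQuad hb ⟨W, hWw⟩)
        obtain ⟨hav, hva, -⟩ := mul_conj_eval ha.sq hb.sq hWw hv
        rw [hdiv, kill_AB (by omega) (neg_mem hg'2), zero_add] at hav
        rw [hdiv, kill_BA (by omega) (neg_mem hg'2), add_zero] at hva
        obtain ⟨hava, hvav⟩ := nilpotent_case h2 ha hvmin hnil
        set h : k[X] := W 0 0 * W 1 0 + W 0 0 * W 1 0 with hh
        set c := termA a b h with hc
        have hcv : c = a * v - v * a := by
          rw [hav, hva, hc, hh, termA_add]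
          simp [termA]
        have hcG : ∀ t : k, InG G (1 + t • c) := by
          intro t
          have hprod := ((((ha.inG t).mul (hvmin.inG 1)).mul (ha.inG (-t))).mul (hvmin.inG (-1)))
          convert hprod using 1
          rw [hcv, one_smul, neg_one_smul, neg_smul]
          simp only [mul_add, add_mul, mul_one, one_mul, mul_neg, neg_mul, smul_mul_assoc,
            mul_smul_comm, smul_add, smul_sub, ← mul_assoc, ha.sq, hvmin.sq, hava, hvav,
            mul_zero, zero_mul, smul_zero, neg_zero, add_zero, neg_neg, smul_neg]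
          have e1 : a * v * v = 0 := by rw [mul_assoc, hvmin.sq, mul_zero]
          simp [e1]
          abel
        have hc0 : c = 0 := by
          by_contra hne
          have hq : IsQuad G c := ⟨hne, A_mul_A ha.sq h h, hcG⟩
          have heq : LinearMap.range c = LinearMap.range a :=
            Submodule.eq_of_le_of_finrank_le (range_aeval_A a b h) (ha.min c hq)
          have h1 : (LinearMap.range a).map (aeval (a * b) h) = LinearMap.range a := by
            rw [← LinearMap.range_comp, ← Module.End.mul_eq_comp]; exact heq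
          have hz : aeval (a * b) (h ^ 2) * a = 0 := by
            rw [show h ^ 2 = (4 * W 0 0 ^ 2) * (g' ^ 2 * X ^ (2 * L)) by rw [hh, hg']; ring,
              map_mul, mul_assoc, (mem_stabIdeal_iff (by omega)).mp hg'2, mul_zero]
          have h2' : (LinearMap.range a).map (aeval (a * b) (h ^ 2)) = LinearMap.range a := by
            rw [sq, map_mul, Module.End.mul_eq_comp, Submodule.map_comp, h1, h1]
          rw [← LinearMap.range_comp, ← Module.End.mul_eq_comp, hz, LinearMap.range_zero] at h2'
          exact ha.ne_zero (LinearMap.range_eq_bot.mp h2'.symm)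
        have hh0 : π h = 0 := by
          rw [hc, termA] at hc0
          rw [Ideal.Quotient.eq_zero_iff_mem, mem_stabIdeal, mul_comm, map_mul, mul_assoc, hc0,
            mul_zero]
        have h2u : IsUnit (2 : k[X] ⧸ stabIdeal a b) := by
          rw [← map_ofNat (algebraMap k _) 2]
          exact (isUnit_iff_ne_zero.mpr h2).map _
        rw [hh, ← two_mul, map_mul, map_mul, map_ofNat] at hh0
        have := h00u.mul_right_eq_zero.mp (h2u.mul_right_eq_zero.mp hh0)
        simpa [Matrix.SpecialLinearGroup.map_apply_coe, RingHom.mapMatrix_apply, hπa] using this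
    refine ⟨hfield, ?_⟩
    -- translations killing the nilpotent part
    have hπinj : ∀ x : k[X] ⧸ stabIdeal a b, Ideal.Quotient.mk p x = 0 → x = 0 := by
      intro x hx
      by_contra hx0
      obtain ⟨y, hy⟩ := hfield.mul_inv_cancel hx0
      have := congrArg (Ideal.Quotient.mk p) hy
      rw [map_mul, hx, zero_mul, map_one] at this
      exact zero_ne_one this
    have hword : ∀ t : k, ∃ q r : k[X], q = X ^ L * r ∧ π q = π (C t) ∧
        InG G (1 + termA a b q) := by
      intro t
      obtain ⟨W, hW, hWg⟩ := congW_surjective h2 h3 ρ hρsurj hρX L (upR (algebraMap k _ t))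
      obtain ⟨hWw, hWc⟩ := Subgroup.mem_inf.mp hW
      obtain ⟨⟨q0, hq0⟩, ⟨r, hr⟩, ⟨q2, hq2⟩, ⟨q3, hq3⟩⟩ := mem_congW.mp hWc
      have e : ∀ i j, Ideal.Quotient.mk p (π (W i j)) =
          upR (algebraMap k ((k[X] ⧸ stabIdeal a b) ⧸ p) t) i j := fun i j => by
        rw [← hWg]
        simp [Matrix.SpecialLinearGroup.map_apply_coe, RingHom.mapMatrix_apply, hρ, hπa, hπ]
      have hmem : ∀ f q : k[X], f = X ^ L * q → Ideal.Quotient.mk p (π f) = 0 →
          q ∈ stabIdeal a b := fun f q hf h => by
        have := hπinj _ h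
        rw [hf, map_mul, map_pow] at this
        exact Ideal.Quotient.eq_zero_iff_mem.mp ((hXu.pow L).mul_right_eq_zero.mp this)
      have m0 := hmem _ _ hq0 (by rw [map_sub, map_sub, e]; simp [coe_upR])
      have m3 := hmem _ _ hq3 (by rw [map_sub, map_sub, e]; simp [coe_upR])
      have m2 := hmem _ _ hq2 (by rw [e]; simp [coe_upR])
      refine ⟨W 0 1, r, hr, ?_, ?_⟩
      · refine sub_eq_zero.mp (hπinj _ ?_)
        rw [map_sub, e]
        simp only [coe_upR, Matrix.of_apply, Matrix.cons_val_one, Matrix.cons_val_zero,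
          Matrix.cons_val', Matrix.cons_val_fin_one]
        rw [sub_eq_zero]
        rfl
      · have h := inG_evalMat ha.toIsQuad hb hWw
        have w00 : W 0 0 = 1 + X ^ (N + 1 + 1) * q0 := by linear_combination hq0
        have w11 : W 1 1 = 1 + X ^ (N + 1 + 1) * q3 := by linear_combination hq3
        have w10 : W 1 0 = X ^ (N + 1 + 1) * q2 := hq2
        have he : evalMat a b (W : Matrix (Fin 2) (Fin 2) k[X]) = 1 + termA a b (W 0 1) := by
          rw [evalMat, w00, w11, w10, (divX_one_add _ q0).1, (divX_one_add _ q0).2,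
            (divX_one_add _ q3).2, divX_X_pow_mul, map_one, mul_comm (X ^ (N + 1)) q0,
            mul_comm (X ^ (N + 1)) q2, mul_comm (X ^ (N + 1)) q3,
            kill_AB (by omega) m0, kill_BA (by omega) m3, kill_B le_rfl m2, add_zero, add_zero,
            add_zero]
        rwa [he] at h
    obtain ⟨q1, r1, hr1, hπ1, -⟩ := hword 1
    set a' := termA a b q1 with ha'
    have hne : a' ≠ 0 := by
      intro h0
      apply one_notMem_stabIdeal hab
      rw [← Ideal.Quotient.eq_zero_iff_mem, ← map_one C, ← hπ1, Ideal.Quotient.eq_zero_iff_mem,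
        mem_stabIdeal, mul_comm, map_mul, mul_assoc]
      rw [ha', termA] at h0
      rw [h0, mul_zero]
    have hq : IsQuad G a' := by
      refine ⟨hne, A_mul_A ha.sq q1 q1, fun t => ?_⟩
      obtain ⟨q, r, hr, hπq, hG⟩ := hword t
      have : termA a b q = t • a' := by
        have hdiff : q - C t * q1 = (r - C t * r1) * X ^ L := by rw [hr, hr1]; ring
        have hmem : r - C t * r1 ∈ stabIdeal a b := by
          have h0 : π (q - C t * q1) = 0 := by
            rw [map_sub, map_mul, hπq, hπ1, map_one C, map_one, mul_one, sub_self]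
          rw [hdiff, map_mul, map_pow, mul_comm] at h0
          exact Ideal.Quotient.eq_zero_iff_mem.mp ((hXu.pow L).mul_right_eq_zero.mp h0)
        have h1 := (mem_stabIdeal_iff (show N ≤ L by omega)).mp hmem
        rw [← hdiff, map_sub, sub_mul, map_mul, aeval_C, mul_assoc, ← Algebra.smul_def,
          sub_eq_zero] at h1
        exact h1
      rwa [this] at hG
    refine Submodule.eq_of_le_of_finrank_le (stablePart_le a b)
      ((ha.min a' hq).trans (Submodule.finrank_mono ?_))
    rintro _ ⟨m, rfl⟩
    refine ⟨aeval (b * a) (X ^ 2 * r1) m, ?_⟩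
    rw [ha', termA, hr1, ← Module.End.mul_apply, mul_assoc, mul_aeval_swap, ← mul_assoc]
    congr 2
    rw [show X ^ L * r1 = X ^ N * (X ^ 2 * r1) by rw [hL, pow_add]; ring, map_mul (aeval (a * b)) (X ^ N),
      map_pow, aeval_X]

end Cfsg.Agent.RootSub.Quad
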