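import Cfsg.Agent.RootSub.Quad.Sigma

/-!
# Arbitrary quadratic elements against the minimal ones

A quadratic element q either commutes with every minimal one, or splits off a minimal quadratic
element y with y q = q y = 0, leaving a quadratic element of smaller rank.
-/

namespace Cfsg.Agent.RootSub.Quad

open Cfsg Polynomial Dickson
open scoped MatrixGroups commutatorElement

variable {k : Type*} [Field k] {M : Type*} [AddCommGroup M] [Module k M]
variable {G : Subgroup (LinearMap.GeneralLinearGroup k M)}

theorem pow_swap (a b : Module.End k M) (n : ℕ) : a * (b * a) ^ n = (a * b) ^ n * a := by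
  simpa using mul_aeval_swap a b (X ^ n : k[X])

/-- The element of level j of the group of two quadratic elements. -/
theorem inG_level (h2 : (2 : k) ≠ 0) {a b : Module.End k M} (ha : IsQuad G a) (hb : IsQuad G b)
    {j : ℕ} (hA : (a * b) ^ (j + 1) * a = 0) (t : k) :
    ∃ r : k, InG G (1 + (t • ((a * b) ^ j * a) + r • ((b * a) ^ (j + 1) * b))) := by
  obtain ⟨W, hW, q, v, d, u, hu, hWe⟩ := level_top h2 j t
  refine ⟨v.coeff 0, ?_⟩
  have h := inG_evalMat ha hb hW
  have hAB : (a * b) ^ (j + 2) = 0 := by rw [pow_succ, ← mul_assoc, hA, zero_mul]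
  have hB : (b * a) ^ (j + 2) * b = 0 := by rw [← pow_swap, hAB, mul_zero]
  have hBA : (b * a) ^ (j + 2) = 0 := by
    rw [pow_succ, ← mul_assoc, ← pow_swap, mul_assoc, hA, mul_zero]
  have e00 : ((W : Matrix (Fin 2) (Fin 2) k[X]) 0 0) = 1 + X ^ (j + 2) * q := by rw [hWe]; simp
  have e01 : ((W : Matrix (Fin 2) (Fin 2) k[X]) 0 1) = X ^ j * u := by rw [hWe]; simp
  have e10 : ((W : Matrix (Fin 2) (Fin 2) k[X]) 1 0) = X ^ (j + 2) * v := by rw [hWe]; simp
  have e11 : ((W : Matrix (Fin 2) (Fin 2) k[X]) 1 1) = 1 + X ^ (j + 2) * d := by rw [hWe]; simp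
  have he : evalMat a b (W : Matrix (Fin 2) (Fin 2) k[X]) =
      1 + (t • ((a * b) ^ j * a) + v.coeff 0 • ((b * a) ^ (j + 1) * b)) := by
    rw [evalMat, e00, e01, e10, e11, (divX_one_add (j + 1) q).1, (divX_one_add (j + 1) q).2,
      (divX_one_add (j + 1) d).2, divX_X_pow_mul, map_one]
    have t1 : termAB a b (X ^ (j + 1) * q) = 0 := by
      rw [termAB, mul_comm, map_mul, map_pow, aeval_X, mul_assoc, ← pow_succ, hAB, mul_zero]
    have t2 : termAB b a (X ^ (j + 1) * d) = 0 := by
      rw [termAB, mul_comm, map_mul, map_pow, aeval_X, mul_assoc, ← pow_succ, hBA, mul_zero]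
    have t3 : termA b a (X ^ (j + 1) * v) = v.coeff 0 • ((b * a) ^ (j + 1) * b) := by
      rw [eq_divX v, mul_add, termA_add, termA, termA,
        show X ^ (j + 1) * (X * v.divX) = v.divX * X ^ (j + 2) by ring, termA_X_pow_mul hB,
        zero_add, map_mul, map_pow, aeval_X, aeval_C, ← Algebra.commutes, mul_assoc,
        Algebra.smul_def]
      simp
    have t4 : termA a b (X ^ j * u) = t • ((a * b) ^ j * a) := by
      rw [eq_divX u, hu, mul_add, termA_add, termA, termA,
        show X ^ j * (X * u.divX) = u.divX * X ^ (j + 1) by ring, termA_X_pow_mul hA, zero_add,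
        map_mul, map_pow, aeval_X, aeval_C, ← Algebra.commutes, mul_assoc, Algebra.smul_def]
    rw [t1, t2, t3, t4]
    abel
  rwa [he] at h

/-- If (aq)^m a = 0, the scalar family of (qa)^m q lies in G. -/
theorem inG_family (h2 : (2 : k) ≠ 0) {a q : Module.End k M} (ha : IsQuad G a) (hq : IsQuad G q)
    {m : ℕ} (h : (a * q) ^ m * a = 0) (t : k) : InG G (1 + t • ((q * a) ^ m * q)) := by
  have h' : (q * a) ^ (m + 1) * q = 0 := by
    rw [← pow_swap, pow_succ, ← mul_assoc ((a * q) ^ m) a q, h, zero_mul, mul_zero]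
  obtain ⟨r, hr⟩ := inG_level h2 hq ha h' t
  rwa [pow_succ, mul_assoc _ (a * q), mul_assoc a q a, show (a * q) ^ m * (a * (q * a)) = 0 by
    rw [← mul_assoc, h, zero_mul], smul_zero, add_zero] at hr

section FD

variable [FiniteDimensional k M]

/-- A nilpotent product with a minimal element kills the half aqa. -/
theorem nilpotent_half (h2 : (2 : k) ≠ 0) {a q : Module.End k M} (ha : IsMin G a)
    (hq : IsQuad G q) (h : IsNilpotent (a * q)) : a * q * a = 0 := by
  obtain ⟨n, hn⟩ := h
  have step : ∀ j, (a * q) ^ (j + 2) * a = 0 → (a * q) ^ (j + 1) * a = 0 := by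
    intro j hj
    by_contra hne
    set a' := (a * q) ^ (j + 1) * a with ha'
    set y := (q * a) ^ (j + 2) * q with hy
    have hay : a' * y = 0 := by
      rw [ha', hy, mul_assoc, ← mul_assoc a, pow_swap, hj, zero_mul, mul_zero]
    have hyy : y * y = 0 := by
      rw [hy]
      have := A_mul_A (b := a) hq.sq (X ^ (j + 2) : k[X]) (X ^ (j + 2))
      simpa [termA] using this
    have hsq : a' * a' = 0 := by
      have := A_mul_A (b := q) ha.sq (X ^ (j + 1) : k[X]) (X ^ (j + 1))
      simpa [termA, ha'] using this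
    have hq' : IsQuad G a' := by
      refine ⟨hne, hsq, fun t => ?_⟩
      obtain ⟨r, hr⟩ := inG_level h2 ha.toIsQuad hq hj t
      have h' := hr.mul (inG_family h2 ha.toIsQuad hq hj (-r))
      rw [← ha', ← hy] at h'
      convert h' using 1
      simp [add_mul, mul_add, hay, hyy]
      abel
    have hle : Module.finrank k (LinearMap.range a) ≤
        Module.finrank k ((LinearMap.range a).map (a * q)) := by
      refine (ha.min a' hq').trans (Submodule.finrank_mono ?_)
      rintro _ ⟨m, rfl⟩
      refine ⟨((a * q) ^ j * a) m, ?_, ?_⟩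
      · rw [← pow_swap]
        exact ⟨_, rfl⟩
      · rw [← Module.End.mul_apply, ← mul_assoc, ← pow_succ']
    have hmap : (LinearMap.range a).map (a * q) = LinearMap.range a := by
      refine Submodule.eq_of_le_of_finrank_le ?_ hle
      rintro _ ⟨m, -, rfl⟩
      exact ⟨_, rfl⟩
    have hall : ∀ i, (LinearMap.range a).map ((a * q) ^ i) = LinearMap.range a := by
      intro i
      induction i with
      | zero => rw [pow_zero, Module.End.one_eq_id, Submodule.map_id]
      | succ i ih => rw [pow_succ, Module.End.mul_eq_comp, Submodule.map_comp, hmap, ih]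
    have := hall n
    rw [hn, Submodule.map_zero] at this
    exact ha.ne_zero (LinearMap.range_eq_bot.mp this.symm)
  have hall : ∀ d, (a * q) ^ (1 + (n - d)) * a = 0 := by
    intro d
    induction d with
    | zero => rw [Nat.sub_zero, add_comm 1 n, pow_succ, hn, zero_mul, zero_mul]
    | succ d ih =>
      rcases Nat.lt_or_ge d n with hd | hd
      · have he : 1 + (n - d) = (n - (d + 1)) + 2 := by omega
        rw [he] at ih
        rw [show 1 + (n - (d + 1)) = (n - (d + 1)) + 1 by omega]
        exact step _ ih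
      · rw [show 1 + (n - (d + 1)) = 1 + (n - d) by omega]; exact ih
  simpa using hall n

variable (h2 : (2 : k) ≠ 0) (h3 : Nat.card k ≠ 3)

include h2 h3

/-- A quadratic element that is opposite to a minimal one splits off a minimal summand. -/
theorem exists_min_split {a q : Module.End k M} (ha : IsMin G a) (hq : IsQuad G q)
    (haq : ¬ IsNilpotent (a * q)) :
    ∃ y, IsMin G y ∧ y * (q - y) = 0 ∧ (q - y) * y = 0 ∧ (q - y ≠ 0 → IsQuad G (q - y)) ∧
      Module.finrank k (LinearMap.range (q - y)) < Module.finrank k (LinearMap.range q) := by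
  obtain ⟨hfield, hst⟩ := opp_main h2 h3 _ a q ha hq haq le_rfl
  let := hfield.toField
  set N := Module.finrank k M with hN
  set π := Ideal.Quotient.mk (stabIdeal a q) with hπ
  set πa : k[X] →ₐ[k] k[X] ⧸ stabIdeal a q := Ideal.Quotient.mkₐ k _ with hπa
  have hXu : IsUnit (π X) := isUnit_of_injective (k := k) (X_isUnit a q)
  have hkill : ∀ f ∈ stabIdeal a q, aeval (a * q) f * a = 0 := by
    intro f hf
    refine LinearMap.ext fun m => ?_
    have hm : a m ∈ stablePart a q := hst.symm ▸ ⟨m, rfl⟩
    obtain ⟨x, hx⟩ := hm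
    rw [Module.End.mul_apply, ← hx, ← Module.End.mul_apply, ← mul_assoc]
    have h0 := LinearMap.congr_fun hf x
    rw [map_mul, map_pow, aeval_X] at h0
    exact h0
  have hword : ∀ t : k, ∃ g : k[X], π (X ^ (N + 1) * g) = π (C t) ∧
      InG G (1 + termA q a (X ^ (N + 1) * g)) := by
    intro t
    obtain ⟨W, hW, hWg⟩ := congW_surjective h2 h3 πa (Ideal.Quotient.mkₐ_surjective k _)
      hXu.ne_zero (N + 2) (lowR (π (C t * X)))
    obtain ⟨hWw, hWc⟩ := Subgroup.mem_inf.mp hW
    obtain ⟨⟨g0, hg0⟩, ⟨g1, hg1⟩, ⟨g2, hg2⟩, ⟨g3, hg3⟩⟩ := mem_congW.mp hWc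
    have e : ∀ i j, π (W i j) = lowR (π (C t * X)) i j := fun i j => by
      rw [← hWg]
      simp [Matrix.SpecialLinearGroup.map_apply_coe, RingHom.mapMatrix_apply, hπa, hπ]
    have hmem : ∀ f g : k[X], f = X ^ (N + 2) * g → π f = 0 → g ∈ stabIdeal a q := by
      intro f g hf h
      rw [hf, map_mul, map_pow] at h
      exact Ideal.Quotient.eq_zero_iff_mem.mp ((hXu.pow _).mul_right_eq_zero.mp h)
    have m0 := hmem _ _ hg0 (by rw [map_sub, e]; simp [coe_lowR])
    have m1 := hmem _ _ hg1 (by rw [e]; simp [coe_lowR])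
    have m3 := hmem _ _ hg3 (by rw [map_sub, e]; simp [coe_lowR])
    refine ⟨g2, ?_, ?_⟩
    · have h10 : π (W 1 0) = π (C t) * π X := by rw [e]; simp [coe_lowR]
      rw [hg2, pow_succ, mul_right_comm, map_mul] at h10
      exact hXu.mul_right_cancel h10
    · have h := inG_evalMat ha.toIsQuad hq hWw
      have w00 : W 0 0 = 1 + X ^ (N + 1 + 1) * g0 := by linear_combination hg0
      have w11 : W 1 1 = 1 + X ^ (N + 1 + 1) * g3 := by linear_combination hg3
      have w10 : W 1 0 = X ^ (N + 1 + 1) * g2 := hg2
      have he : evalMat a q (W : Matrix (Fin 2) (Fin 2) k[X]) =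
          1 + termA q a (X ^ (N + 1) * g2) := by
        rw [evalMat, w00, w11, w10, (divX_one_add _ g0).1, (divX_one_add _ g0).2,
          (divX_one_add _ g3).2, divX_X_pow_mul, map_one, mul_comm (X ^ (N + 1)) g0,
          mul_comm (X ^ (N + 1)) g3, kill_AB (by omega) m0, kill_BA (by omega) m3,
          hg1, mul_comm (X ^ (N + 2)) g1, termA, (mem_stabIdeal_iff (by omega)).mp m1]
        abel
      rwa [he] at h
  obtain ⟨g, hg, -⟩ := hword 1
  set h := X ^ (N + 1) * g with hh
  set y := termA q a h with hy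
  have hker : (1 - aeval (a * q) h) * a = 0 := by
    have := hkill (1 - h) (Ideal.Quotient.eq_zero_iff_mem.mp (by
      show π (1 - h) = 0
      rw [map_sub, hg, map_one C, sub_self]))
    rwa [map_sub, map_one] at this
  have hy' : y = q * aeval (a * q) h := termA_eq q a h
  have hra : (q - y) * a = 0 := by
    rw [hy', show q - q * aeval (a * q) h = q * (1 - aeval (a * q) h) by rw [mul_sub, mul_one],
      mul_assoc, hker, mul_zero]
  have har : a * (q - y) = 0 := by
    rw [hy, termA, mul_sub, ← mul_assoc a, mul_aeval_swap, mul_assoc (aeval (a * q) h),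
      show a * q - aeval (a * q) h * (a * q) = (1 - aeval (a * q) h) * a * q by
        rw [sub_mul, sub_mul, one_mul, mul_assoc], hker, zero_mul]
  have hX : aeval (q * a) h = q * (a * aeval (q * a) (X ^ N * g)) := by
    rw [hh, show X ^ (N + 1) * g = X * (X ^ N * g) by ring, map_mul, aeval_X, mul_assoc]
  have hqy : q * y = 0 := by
    rw [hy, termA, hX, ← mul_assoc, ← mul_assoc, hq.sq, zero_mul, zero_mul]
  have hyq : y * q = 0 := by rw [hy, termA, mul_assoc, hq.sq, mul_zero]
  have hyy : y * y = 0 := A_mul_A hq.sq h h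
  have hay : a * y = a * q := by
    rw [mul_sub, sub_eq_zero] at har
    exact har.symm
  have hy0 : y ≠ 0 := by
    intro h0
    rw [h0, mul_zero] at hay
    exact haq (hay ▸ IsNilpotent.zero)
  have hyG : ∀ t : k, InG G (1 + t • y) := by
    intro t
    obtain ⟨gt, hgt, hG⟩ := hword t
    have hmem : gt - C t * g ∈ stabIdeal a q := by
      have h0 : π (X ^ (N + 1)) * π (gt - C t * g) = 0 := by
        rw [← map_mul, mul_sub, map_sub, hgt, mul_left_comm, map_mul, hg, map_one C, map_one,
          mul_one, sub_self]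
      rw [map_pow] at h0
      exact Ideal.Quotient.eq_zero_iff_mem.mp ((hXu.pow _).mul_right_eq_zero.mp h0)
    have hz := kill_B (L := N) le_rfl hmem
    have : termA q a (X ^ (N + 1) * gt) = t • y := by
      rw [show (gt - C t * g) * X ^ (N + 1) = X ^ (N + 1) * gt - C t * h by rw [hh]; ring, termA,
        map_sub, sub_mul, map_mul (aeval (q * a)) (C t) h, aeval_C, mul_assoc, ← Algebra.smul_def, sub_eq_zero] at hz
      exact hz
    rwa [this] at hG
  have hyrank : Module.finrank k (LinearMap.range y) ≤ Module.finrank k (LinearMap.range a) := by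
    have e : y = (q * a) ^ 0 * aeval (q * a) (X ^ N * g) * q * (a * q) := by
      rw [pow_zero, one_mul, hy, termA, hh, show X ^ (N + 1) * g = (X ^ N * g) * X by ring, map_mul,
        aeval_X]
      simp only [mul_assoc]
    rw [e, Module.End.mul_eq_comp, LinearMap.range_comp]
    exact (Submodule.finrank_map_le _ _).trans
      (Submodule.finrank_mono (LinearMap.range_comp_le_range _ _))
  have hymin : IsMin G y := ⟨⟨hy0, hyy, hyG⟩, fun b hb => hyrank.trans (ha.min b hb)⟩
  refine ⟨y, hymin, by rw [mul_sub, hyq, hyy, sub_zero], by rw [sub_mul, hqy, hyy, sub_zero],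
    fun hr0 => ⟨hr0, by rw [sub_mul, mul_sub, mul_sub, hq.sq, hqy, hyq, hyy]; simp, fun t => ?_⟩,
    ?_⟩
  · have hp := (hq.inG t).mul (hyG (-t))
    convert hp using 1
    simp [add_mul, mul_add, hqy, smul_sub]
    abel
  · have hrq : q - y = q * (1 - aeval (a * q) h) := by rw [hy', mul_sub, mul_one]
    have hle : LinearMap.range (q - y) ≤ LinearMap.range q := by
      rw [hrq]; exact LinearMap.range_comp_le_range _ _
    refine Submodule.finrank_lt_finrank_of_lt (lt_of_le_of_ne hle fun heq => ?_)
    apply haq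
    have hyr : LinearMap.range y ≤ LinearMap.ker a := by
      refine le_trans ?_ (LinearMap.range_le_ker_iff.mpr har)
      rw [heq, hy']
      exact LinearMap.range_comp_le_range _ _
    have h0 : a * y = 0 := LinearMap.range_le_ker_iff.mp hyr
    rw [← hay, h0]
    exact IsNilpotent.zero

/-- A quadratic element with no opposite minimal element commutes with all of them. -/
theorem commute_of_all_nilpotent (hpure : NoUnipNormal G) {q : Module.End k M} (hq : IsQuad G q)
    (hnil : ∀ z, IsMin G z → IsNilpotent (z * q)) {a : Module.End k M} (ha : IsMin G a) :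
    q * a = a * q := by
  have hH : ∀ z, IsMin G z → z * q * z = 0 := fun z hz => nilpotent_half h2 hz hq (hnil z hz)
  -- z (qw - wq) z = 0
  have hmid : ∀ z w : Module.End k M, IsMin G z → IsMin G w → z * (q * w - w * q) * z = 0 := by
    intro z w hz hw
    have h' := hH _ (hz.conj hw.toIsQuad.unit_mem)
    rw [conjEnd, coe_oneAddUnit, coe_oneAddUnit_inv] at h'
    have h'' := congrArg (fun f => (1 - w) * f * (1 + w)) h'
    have i1 : (1 - w) * (1 + w) = 1 := by
      rw [sub_mul, one_mul, mul_add, mul_one, hw.sq, add_zero, add_sub_cancel_right]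
    simp only [mul_zero, zero_mul] at h''
    rw [show (1 - w) * ((1 + w) * z * (1 - w) * q * ((1 + w) * z * (1 - w))) * (1 + w) =
      ((1 - w) * (1 + w)) * (z * (1 - w) * q * (1 + w) * z) * ((1 - w) * (1 + w)) by
        simp only [mul_assoc], i1, one_mul, mul_one,
      show z * (1 - w) * q * (1 + w) * z =
        z * q * z + z * (q * w - w * q) * z - z * (w * q * w) * z by noncomm_ring,
      hH z hz, hH w hw, mul_zero, zero_mul, zero_add, sub_zero] at h''
    exact h''
  -- z q w q z = 0
  have hqq : ∀ z w : Module.End k M, IsMin G z → IsMin G w → z * (q * w * q) * z = 0 := by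
    intro z w hz hw
    have h' := hmid z _ hz (hw.conj hq.unit_mem)
    rw [conjEnd, coe_oneAddUnit, coe_oneAddUnit_inv] at h'
    have e : z * (q * ((1 + q) * w * (1 - q)) - (1 + q) * w * (1 - q) * q) * z =
        z * (q * w - w * q) * z - (z * (q * w * q) * z + z * (q * w * q) * z) +
          z * ((q * q) * w - (q * q) * w * q + w * (q * q) + q * w * (q * q)) * z := by
      noncomm_ring
    rw [e, hmid z w hz hw, hq.sq] at h'
    simp only [zero_mul, mul_zero, sub_zero, add_zero, zero_sub, neg_eq_zero] at h'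
    rw [← two_smul k] at h'
    exact (smul_eq_zero.mp h').resolve_left h2
  have haqa := hH a ha
  have hrank : ∀ x : Module.End k M, Module.finrank k (LinearMap.range (x * a)) ≤
      Module.finrank k (LinearMap.range a) := fun x => by
    rw [Module.End.mul_eq_comp, LinearMap.range_comp]
    exact Submodule.finrank_map_le _ _
  have hqaq : q * a * q = 0 := by
    by_contra h0
    have hquad : IsQuad G (q * a * q) := ⟨h0, by
        rw [show q * a * q * (q * a * q) = q * a * (q * q) * a * q by simp only [mul_assoc],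
          hq.sq, mul_zero, zero_mul, zero_mul],
      fun t => by
        have := inG_family h2 ha.toIsQuad hq (m := 1) (by rwa [pow_one]) t
        rwa [pow_one] at this⟩
    have hmin : IsMin G (q * a * q) := ⟨hquad, fun b hb => by
      refine le_trans ?_ ((hrank q).trans (ha.min b hb))
      exact Submodule.finrank_mono (LinearMap.range_comp_le_range _ _)⟩
    obtain ⟨g, hg, hopp⟩ := exists_opposite h2 h3 hpure hmin
    refine hopp.symm ⟨2, ?_⟩
    rw [sq, ← mul_assoc, hqq _ _ (hmin.conj hg) ha, zero_mul]
  by_contra hne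
  have hc0 : q * a - a * q ≠ 0 := sub_ne_zero.mpr hne
  have hcquad : IsQuad G (q * a - a * q) := by
    refine ⟨hc0, ?_, fun t => ?_⟩
    · rw [show (q * a - a * q) * (q * a - a * q) = q * a * q * a - q * (a * a) * q -
        a * (q * q) * a + a * q * a * q by noncomm_ring, hqaq, haqa, ha.sq, hq.sq]
      simp
    · obtain ⟨u, hu, hue⟩ := hq.inG t
      obtain ⟨v, hv, hve⟩ := ha.inG 1
      rw [one_smul] at hve
      refine ⟨⁅u, v⁆, mul_mem (mul_mem (mul_mem hu hv) (inv_mem hu)) (inv_mem hv), ?_⟩
      rw [commutatorElement_eq_one_add hue hve (by rw [smul_mul_smul_comm, hq.sq, smul_zero]) ha.sq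
          (by rw [smul_mul_assoc, smul_mul_smul_comm, hqaq, smul_zero])
          (by rw [mul_smul_comm, smul_mul_assoc, haqa, smul_zero]),
        smul_sub, smul_mul_assoc, mul_smul_comm]
  have hcmin : IsMin G (q * a - a * q) := by
    refine ⟨hcquad, fun b hb => le_trans ?_ (ha.min b hb)⟩
    have r1 : LinearMap.range (q * a - a * q) ≤
        LinearMap.range (q * a) ⊔ LinearMap.range (a * q) := by
      rintro _ ⟨m, rfl⟩
      exact sub_mem (Submodule.mem_sup_left ⟨m, rfl⟩) (Submodule.mem_sup_right ⟨m, rfl⟩)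
    have r2 : LinearMap.range (a * q) ≤ LinearMap.range a ⊓ LinearMap.ker q :=
      le_inf (LinearMap.range_comp_le_range _ _) (LinearMap.range_le_ker_iff.mpr (by
        rw [← Module.End.mul_eq_comp, ← mul_assoc, hqaq]))
    have f1 := Submodule.finrank_mono r1
    have f2 := Submodule.finrank_add_le_finrank_add_finrank (LinearMap.range (q * a))
      (LinearMap.range (a * q))
    have f3 := Submodule.finrank_mono r2
    have f4 := finrank_range_mul q a
    omega
  obtain ⟨g, hg, hopp⟩ := exists_opposite h2 h3 hpure hcmin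
  refine hopp.symm ⟨2, ?_⟩
  rw [sq, ← mul_assoc, hmid _ _ (hcmin.conj hg) ha, zero_mul]

end FD

end Cfsg.Agent.RootSub.Quad
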