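import Cfsg.Agent.RootSub.Quad.Dichotomy
import Cfsg.Agent.RootSub.SL2
import Cfsg.Agent.RootSub.Unipotent

/-!
# Opposite pairs of minimal quadratic elements and their SL₂
-/

namespace Cfsg.Agent.RootSub.Quad

open Polynomial Dickson Cfsg
open scoped MatrixGroups Pointwise

variable {k : Type*} [Field k] {M : Type*} [AddCommGroup M] [Module k M]
variable {G : Subgroup (LinearMap.GeneralLinearGroup k M)}

/-- The pair is opposite: the product is not nilpotent. -/
def IsOpp (a b : Module.End k M) : Prop := ¬ IsNilpotent (a * b)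

theorem isNilpotent_swap {a b : Module.End k M} (h : IsNilpotent (a * b)) :
    IsNilpotent (b * a) := by
  obtain ⟨n, hn⟩ := h
  refine ⟨n + 1, ?_⟩
  have h' := mul_aeval_swap (b : Module.End k M) a (X ^ n : k[X])
  simp only [map_pow, aeval_X] at h'
  rw [pow_succ, ← mul_assoc, ← h', hn, mul_zero, zero_mul]

theorem IsOpp.symm {a b : Module.End k M} (h : IsOpp a b) : IsOpp b a :=
  fun hn => h (isNilpotent_swap hn)

theorem isOpp_conj {a b : Module.End k M} (u : LinearMap.GeneralLinearGroup k M) :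
    IsOpp (conjEnd u a) (conjEnd u b) ↔ IsOpp a b := by
  have key : ∀ (u : LinearMap.GeneralLinearGroup k M) (x : Module.End k M), IsNilpotent x →
      IsNilpotent (conjEnd u x) := by
    rintro u x ⟨n, hn⟩
    refine ⟨n + 1, ?_⟩
    have hp : ∀ n, conjEnd u x ^ (n + 1) = conjEnd u (x ^ (n + 1)) := by
      intro n
      induction n with
      | zero => simp
      | succ n ih => rw [pow_succ, ih, conjEnd_mul, ← pow_succ]
    rw [hp, pow_succ, hn, zero_mul]
    simp [conjEnd]
  rw [IsOpp, IsOpp, conjEnd_mul, not_iff_not]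
  refine ⟨fun h => ?_, key u _⟩
  have := key u⁻¹ _ h
  rwa [conjEnd_conjEnd, inv_mul_cancel, conjEnd_one] at this

theorem IsMin.finrank_eq {a b : Module.End k M} (ha : IsMin G a) (hb : IsMin G b) :
    Module.finrank k (LinearMap.range a) = Module.finrank k (LinearMap.range b) :=
  le_antisymm (ha.min b hb.toIsQuad) (hb.min a ha.toIsQuad)

theorem map_ker_finrank [FiniteDimensional k M] (f : Module.End k M) (p : Submodule k M) :
    Module.finrank k (p.map f) + Module.finrank k (p ⊓ LinearMap.ker f : Submodule k M) =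
      Module.finrank k p := by
  have h := LinearMap.finrank_range_add_finrank_ker (f.domRestrict p)
  rw [LinearMap.range_domRestrict] at h
  have e : Module.finrank k (LinearMap.ker (f.domRestrict p)) =
      Module.finrank k (p ⊓ LinearMap.ker f : Submodule k M) := by
    rw [← LinearEquiv.finrank_eq (Submodule.equivMapOfInjective p.subtype (Submodule.injective_subtype p)
      (LinearMap.ker (f.domRestrict p))).symm]
    rw [LinearMap.ker_domRestrict, Submodule.map_comap_subtype]
  omega

theorem finrank_range_mul [FiniteDimensional k M] (a b : Module.End k M) :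
    Module.finrank k (LinearMap.range (a * b)) +
      Module.finrank k (LinearMap.range b ⊓ LinearMap.ker a : Submodule k M) =
        Module.finrank k (LinearMap.range b) := by
  rw [Module.End.mul_eq_comp, LinearMap.range_comp]
  exact map_ker_finrank a (LinearMap.range b)

section Opp

variable [FiniteDimensional k M] (h2 : (2 : k) ≠ 0) (h3 : Nat.card k ≠ 3)
variable {a b : Module.End k M} (ha : IsMin G a) (hb : IsMin G b)

include h2 h3 ha hb

theorem IsOpp.field (h : IsOpp a b) : IsField (k[X] ⧸ stabIdeal a b) :=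
  (opp_main h2 h3 _ a b ha hb.toIsQuad h le_rfl).1

theorem IsOpp.map_range (h : IsOpp a b) :
    (LinearMap.range a).map (a * b) = LinearMap.range a := by
  have hst := (opp_main h2 h3 _ a b ha hb.toIsQuad h le_rfl).2
  refine le_antisymm ?_ ?_
  · rintro _ ⟨m, -, rfl⟩
    exact ⟨_, rfl⟩
  · have hpos : 0 < Module.finrank k M := by
      rcases Nat.eq_zero_or_pos (Module.finrank k M) with h0 | h0
      · haveI : Subsingleton M := Module.finrank_zero_iff.mp h0
        exact absurd (Subsingleton.elim a 0) ha.ne_zero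
      · exact h0
    obtain ⟨n, hn⟩ := Nat.exists_eq_succ_of_ne_zero hpos.ne'
    intro m hm
    rw [← hst, stablePart, hn, pow_succ'] at hm
    obtain ⟨x, rfl⟩ := hm
    refine ⟨((a * b) ^ n * a) x, ?_, ?_⟩
    · have h' := mul_aeval_swap a b (X ^ n : k[X])
      simp only [map_pow, aeval_X] at h'
      rw [← h']
      exact ⟨_, rfl⟩
    · rw [← Module.End.mul_apply, ← mul_assoc]

theorem IsOpp.inf_eq_bot (h : IsOpp a b) : LinearMap.range a ⊓ LinearMap.ker b = ⊥ := by
  have h1 := map_ker_finrank (a * b) (LinearMap.range a)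
  rw [h.map_range h2 h3 ha hb] at h1
  have h0 : LinearMap.range a ⊓ LinearMap.ker (a * b) = ⊥ :=
    Submodule.finrank_eq_zero.mp (by omega)
  refine eq_bot_iff.mpr (le_trans (inf_le_inf_left _ ?_) h0.le)
  rw [Module.End.mul_eq_comp]
  exact LinearMap.ker_le_ker_comp _ _

theorem IsOpp.map_b_range (h : IsOpp a b) :
    (LinearMap.range a).map b = LinearMap.range b := by
  refine Submodule.eq_of_le_of_finrank_le LinearMap.map_le_range ?_
  have h1 := map_ker_finrank b (LinearMap.range a)
  rw [h.inf_eq_bot h2 h3 ha hb, finrank_bot] at h1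
  rw [← ha.finrank_eq hb]
  omega

theorem IsOpp.isCompl (h : IsOpp a b) : IsCompl (LinearMap.range a) (LinearMap.ker b) := by
  refine ⟨disjoint_iff.mpr (h.inf_eq_bot h2 h3 ha hb), codisjoint_iff.mpr ?_⟩
  apply Submodule.eq_top_of_finrank_eq
  have h1 := Submodule.finrank_sup_add_finrank_inf_eq (LinearMap.range a) (LinearMap.ker b)
  rw [h.inf_eq_bot h2 h3 ha hb, finrank_bot] at h1
  have h4 := LinearMap.finrank_range_add_finrank_ker b
  rw [← ha.finrank_eq hb] at h4
  omega

theorem IsOpp.kill_iff (h : IsOpp a b) (f : k[X]) :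
    f ∈ stabIdeal a b ↔ aeval (a * b) f * a = 0 := by
  rw [mem_stabIdeal]
  constructor
  · intro hf
    have hst := (opp_main h2 h3 _ a b ha hb.toIsQuad h le_rfl).2
    refine LinearMap.ext fun m => ?_
    have hm : a m ∈ stablePart a b := hst.symm ▸ ⟨m, rfl⟩
    obtain ⟨x, hx⟩ := hm
    rw [Module.End.mul_apply, ← hx, ← Module.End.mul_apply, ← mul_assoc]
    have h0 := LinearMap.congr_fun hf x
    rw [map_mul, map_pow, aeval_X] at h0
    exact h0
  · intro hf
    rw [mul_comm, map_mul, mul_assoc, hf, mul_zero]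

omit h2 h3 in
/-- A criterion for opposite pairs in terms of ranges and kernels. -/
theorem isOpp_of_inf_eq_bot (h2 : (2 : k) ≠ 0) (h1 : LinearMap.range a ⊓ LinearMap.ker b = ⊥)
    (h1' : LinearMap.range b ⊓ LinearMap.ker a = ⊥) : IsOpp a b := by
  intro hn
  have hba := finrank_range_mul b a
  rw [h1, finrank_bot, add_zero] at hba
  have haba := finrank_range_mul a (b * a)
  rw [← mul_assoc, (nilpotent_case h2 ha hb hn).1, LinearMap.range_zero, finrank_bot, zero_add] at haba
  have hle : LinearMap.range (b * a) ⊓ LinearMap.ker a = ⊥ :=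
    eq_bot_iff.mpr ((inf_le_inf_right _ (LinearMap.range_comp_le_range _ _)).trans h1'.le)
  rw [hle, finrank_bot] at haba
  exact ha.ne_zero (LinearMap.range_eq_bot.mp (Submodule.finrank_eq_zero.mp (by omega)))

/-- Being opposite depends only on the root spaces. -/
theorem IsOpp.of_mem {x y : Module.End k M} (hx : x ∈ rootSpace G a) (hx0 : x ≠ 0)
    (hy : y ∈ rootSpace G b) (hy0 : y ≠ 0) (h : IsOpp a b) : IsOpp x y := by
  refine isOpp_of_inf_eq_bot (ha.isMin_of_mem hx hx0) (hb.isMin_of_mem hy hy0) h2 ?_ ?_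
  · rw [ha.range_eq hx hx0, hb.ker_eq hy hy0]; exact h.inf_eq_bot h2 h3 ha hb
  · rw [hb.range_eq hy hy0, ha.ker_eq hx hx0]; exact h.symm.inf_eq_bot h2 h3 hb ha

theorem isOpp_congr {x y : Module.End k M} (hx : x ∈ rootSpace G a) (hx0 : x ≠ 0)
    (hy : y ∈ rootSpace G b) (hy0 : y ≠ 0) : IsOpp x y ↔ IsOpp a b := by
  refine ⟨fun h => ?_, IsOpp.of_mem h2 h3 ha hb hx hx0 hy hy0⟩
  refine IsOpp.of_mem h2 h3 (ha.isMin_of_mem hx hx0) (hb.isMin_of_mem hy hy0) ?_ ha.ne_zero ?_
    hb.ne_zero h
  · rw [ha.rootSpace_eq hx hx0]; exact ha.self_mem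
  · rw [hb.rootSpace_eq hy hy0]; exact hb.self_mem

end Opp

section SL2Hom

variable [FiniteDimensional k M] (h2 : (2 : k) ≠ 0) (h3 : Nat.card k ≠ 3)
variable {a b : Module.End k M} (ha : IsMin G a) (hb : IsMin G b) (hab : IsOpp a b)

/-- Word matrices acting on k[T]. -/
noncomputable def resid (a b : Module.End k M) :
    wordGroup k →* SL(2, k[X] ⧸ stabIdeal a b) :=
  (Matrix.SpecialLinearGroup.map
    ((Ideal.Quotient.mkₐ k (stabIdeal a b) : k[X] →ₐ[k] k[X] ⧸ stabIdeal a b) : k[X] →+* _)).comp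
    (wordGroup k).subtype

omit [FiniteDimensional k M] in
theorem resid_apply (a b : Module.End k M) [FiniteDimensional k M] (W : wordGroup k) (i j : Fin 2) :
    resid a b W i j = Ideal.Quotient.mk (stabIdeal a b) ((W : SL(2, k[X])) i j) := by
  simp [resid, Matrix.SpecialLinearGroup.map_apply_coe, RingHom.mapMatrix_apply]

include h2 h3 ha hb hab

theorem isUnit_X_resid : IsUnit (Ideal.Quotient.mk (stabIdeal a b) X) :=
  isUnit_of_injective (k := k) (X_isUnit a b)

theorem resid_surjective : Function.Surjective (resid a b) := by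
  letI := (hab.field h2 h3 ha hb).toField
  intro g
  haveI : Nontrivial (k[X] ⧸ stabIdeal a b) := inferInstance
  have hX : (Ideal.Quotient.mkₐ k (stabIdeal a b)) X ≠ 0 :=
    (isUnit_X_resid h2 h3 ha hb hab).ne_zero
  obtain ⟨W, hW, hWg⟩ := congW_surjective h2 h3 (Ideal.Quotient.mkₐ k (stabIdeal a b))
    (Ideal.Quotient.mkₐ_surjective k _) hX 0 g
  exact ⟨⟨W, (Subgroup.mem_inf.mp hW).1⟩, hWg⟩

theorem divX_mem_iff {f : k[X]} (hf : f.coeff 0 = 0) :
    f.divX ∈ stabIdeal a b ↔ f ∈ stabIdeal a b := by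
  have hfX : f = X * f.divX := by
    conv_lhs => rw [eq_divX f, hf, map_zero, add_zero]
  constructor
  · intro h; rw [hfX]; exact Ideal.mul_mem_left _ _ h
  · intro h
    rw [← Ideal.Quotient.eq_zero_iff_mem] at h ⊢
    rw [hfX, map_mul] at h
    exact (isUnit_X_resid h2 h3 ha hb hab).mul_right_eq_zero.mp h

theorem termAB_eq_zero {f : k[X]} (hf : f ∈ stabIdeal a b) : termAB a b f = 0 := by
  rw [termAB, ← mul_assoc, (hab.kill_iff h2 h3 ha hb f).mp hf, zero_mul]

theorem termBA_eq_zero {f : k[X]} (hf : f ∈ stabIdeal a b) : termAB b a f = 0 := by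
  rw [termAB, ← aeval_comm, mul_assoc, mul_aeval_swap, (hab.kill_iff h2 h3 ha hb f).mp hf,
    mul_zero]

theorem termB_eq_zero {f : k[X]} (hf : f ∈ stabIdeal a b) : termA b a f = 0 := by
  obtain ⟨g, hg⟩ := Ideal.Quotient.mk_surjective
    ((isUnit_X_resid h2 h3 ha hb hab).unit⁻¹.val * Ideal.Quotient.mk (stabIdeal a b) f)
  have hgmem : g ∈ stabIdeal a b := by
    rw [← Ideal.Quotient.eq_zero_iff_mem] at hf ⊢
    rw [hg, hf, mul_zero]
  -- f kills a, hence b a, hence the range of b
  have h0 : termA b a f * a = 0 := by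
    rw [termA, ← mul_aeval_swap b a, mul_assoc, (hab.kill_iff h2 h3 ha hb f).mp hf, mul_zero]
  refine LinearMap.ext fun m => ?_
  have hbm : b m ∈ (LinearMap.range a).map b := by
    rw [hab.map_b_range h2 h3 ha hb]; exact ⟨m, rfl⟩
  obtain ⟨r, ⟨x, rfl⟩, hr⟩ := hbm
  rw [termA, Module.End.mul_apply, ← hr, ← Module.End.mul_apply, ← termA]
  exact LinearMap.congr_fun h0 x

/-- An element of the word group acts trivially iff it is trivial over k[T]. -/
theorem evalMat_eq_one_iff {W : wordGroup k} :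
    evalMat a b ((W : SL(2, k[X])) : Matrix (Fin 2) (Fin 2) k[X]) = 1 ↔ resid a b W = 1 := by
  obtain ⟨W, hW⟩ := W
  obtain ⟨h00, h10, h11⟩ := word_mod_X hW
  set π := Ideal.Quotient.mk (stabIdeal a b)
  have ediv : ∀ p : k[X], p.coeff 0 = 1 → (p - 1).divX = p.divX := fun p hp => by
    ext n; simp [coeff_divX, coeff_one]
  constructor
  · intro h
    rw [evalMat, h00, map_one] at h
    simp only at h
    have h' : termAB a b (W 0 0).divX + termA a b (W 0 1) + termA b a (W 1 0).divX +
        termAB b a (W 1 1).divX = 0 := by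
      have := sub_eq_zero.mpr h
      rw [← this]; abel
    have e10 : W 1 0 ∈ stabIdeal a b := by
      have h1 := congrArg (fun x => a * x * a) h'
      simp only [mul_add, add_mul, mul_zero, zero_mul] at h1
      have t1 : a * termAB a b (W 0 0).divX * a = 0 := by
        rw [termAB, ← mul_assoc, ← mul_assoc]
        have := A_mul_AB (b := b) ha.sq 1 (W 0 0).divX
        rw [termA, map_one, one_mul, termAB] at this
        rw [← mul_assoc, ← mul_assoc] at this
        rw [this, zero_mul]
      have t2 : a * termA a b (W 0 1) * a = 0 := by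
        rw [termA, mul_assoc, mul_assoc, ha.sq, mul_zero, mul_zero]
      have t3 : a * termA b a (W 1 0).divX * a = termA a b (W 1 0) := by
        have hX : W 1 0 = (W 1 0).divX * X := by
          conv_lhs => rw [eq_divX (W 1 0), h10, map_zero, add_zero, mul_comm]
        rw [termA, termA, ← mul_assoc, mul_aeval_swap]
        conv_rhs => rw [hX, map_mul, aeval_X]
        simp [mul_assoc]
      have t4 : a * termAB b a (W 1 1).divX * a = 0 := by
        rw [termAB, mul_assoc, mul_assoc, mul_assoc, ha.sq, mul_zero, mul_zero, mul_zero]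
      rw [t1, t2, t3, t4, zero_add, zero_add, add_zero] at h1
      exact (hab.kill_iff h2 h3 ha hb _).mpr h1
    have e10' := (divX_mem_iff h2 h3 ha hb hab h10).mpr e10
    rw [termB_eq_zero h2 h3 ha hb hab e10', add_zero] at h'
    have e00 : W 0 0 - 1 ∈ stabIdeal a b := by
      have h1 := congrArg (fun x => x * a) h'
      simp only [add_mul, zero_mul] at h1
      have t2 : termA a b (W 0 1) * a = 0 := by rw [termA, mul_assoc, ha.sq, mul_zero]
      have t4 : termAB b a (W 1 1).divX * a = 0 := by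
        rw [termAB, mul_assoc, mul_assoc, ha.sq, mul_zero, mul_zero]
      have t1 : termAB a b (W 0 0).divX * a = termA a b (W 0 0 - 1) := by
        rw [termAB, termA, ← ediv _ h00]
        conv_rhs => rw [eq_divX (W 0 0 - 1), coeff_sub, h00, coeff_one_zero, sub_self, map_zero,
          add_zero, mul_comm X, map_mul, aeval_X]
      rw [t1, t2, t4, add_zero, add_zero] at h1
      exact (hab.kill_iff h2 h3 ha hb _).mpr h1
    have hd := det2 W
    have e11 : W 1 1 - 1 ∈ stabIdeal a b := by
      have : W 1 1 - 1 = -(W 1 1 * (W 0 0 - 1)) + W 0 1 * W 1 0 := by linear_combination hd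
      rw [this]
      exact add_mem (neg_mem (Ideal.mul_mem_left _ _ e00)) (Ideal.mul_mem_left _ _ e10)
    have e00' := (divX_mem_iff h2 h3 ha hb hab (by simp [h00])).mpr e00
    have e11' := (divX_mem_iff h2 h3 ha hb hab (by simp [h11])).mpr e11
    rw [ediv _ h00] at e00'
    rw [ediv _ h11] at e11'
    rw [termAB_eq_zero h2 h3 ha hb hab e00', termBA_eq_zero h2 h3 ha hb hab e11', zero_add,
      add_zero] at h'
    have e01 : W 0 1 ∈ stabIdeal a b := (hab.kill_iff h2 h3 ha hb _).mpr h'
    have m00 : π (W 0 0) = 1 := by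
      rw [← map_one π, Ideal.Quotient.eq]; exact e00
    have m11 : π (W 1 1) = 1 := by
      rw [← map_one π, Ideal.Quotient.eq]; exact e11
    have m01 : π (W 0 1) = 0 := Ideal.Quotient.eq_zero_iff_mem.mpr e01
    have m10 : π (W 1 0) = 0 := Ideal.Quotient.eq_zero_iff_mem.mpr e10
    apply ext_entries <;> rw [resid_apply]
    · simpa using m00
    · simpa using m01
    · simpa using m10
    · simpa using m11
  · intro h
    have e : ∀ i j, π (W i j) = (1 : SL(2, k[X] ⧸ stabIdeal a b)) i j := fun i j => by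
      rw [← h, resid_apply]
    have e00 : W 0 0 - 1 ∈ stabIdeal a b := Ideal.Quotient.eq_zero_iff_mem.mp (by
      rw [map_sub, e]; simp [π])
    have e01 : W 0 1 ∈ stabIdeal a b := Ideal.Quotient.eq_zero_iff_mem.mp (by rw [e]; simp)
    have e10 : W 1 0 ∈ stabIdeal a b := Ideal.Quotient.eq_zero_iff_mem.mp (by rw [e]; simp)
    have e11 : W 1 1 - 1 ∈ stabIdeal a b := Ideal.Quotient.eq_zero_iff_mem.mp (by
      rw [map_sub, e]; simp [π])
    have e00' := (divX_mem_iff h2 h3 ha hb hab (by simp [h00])).mpr e00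
    have e11' := (divX_mem_iff h2 h3 ha hb hab (by simp [h11])).mpr e11
    rw [ediv _ h00] at e00'
    rw [ediv _ h11] at e11'
    rw [evalMat]
    simp only
    rw [h00, map_one, termAB_eq_zero h2 h3 ha hb hab e00',
      termBA_eq_zero h2 h3 ha hb hab e11',
      termB_eq_zero h2 h3 ha hb hab ((divX_mem_iff h2 h3 ha hb hab h10).mpr e10), termA,
      (hab.kill_iff h2 h3 ha hb _).mp e01]
    abel

theorem ker_wordHom : (wordHom ha.sq hb.sq).ker = (resid a b).ker := by
  ext W
  rw [MonoidHom.mem_ker, MonoidHom.mem_ker, ← evalMat_eq_one_iff h2 h3 ha hb hab, Units.ext_iff,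
    wordHom_val, Units.val_one]

/-- SL₂(k[T]) acting on M. -/
noncomputable def oppHom : SL(2, k[X] ⧸ stabIdeal a b) →* LinearMap.GeneralLinearGroup k M :=
  (resid a b).liftOfSurjective (resid_surjective h2 h3 ha hb hab)
    ⟨wordHom ha.sq hb.sq, (ker_wordHom h2 h3 ha hb hab).ge⟩

theorem oppHom_resid (W : wordGroup k) :
    oppHom h2 h3 ha hb hab (resid a b W) = wordHom ha.sq hb.sq W :=
  MonoidHom.liftOfRightInverse_comp_apply _ _ _ _ W

theorem oppHom_injective : Function.Injective (oppHom h2 h3 ha hb hab) := by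
  rw [← MonoidHom.ker_eq_bot_iff, eq_bot_iff]
  intro g hg
  obtain ⟨W, rfl⟩ := resid_surjective h2 h3 ha hb hab g
  rw [MonoidHom.mem_ker, oppHom_resid, ← MonoidHom.mem_ker, ker_wordHom h2 h3 ha hb hab] at hg
  exact hg

theorem oppHom_mem (g : SL(2, k[X] ⧸ stabIdeal a b)) : oppHom h2 h3 ha hb hab g ∈ G := by
  obtain ⟨W, rfl⟩ := resid_surjective h2 h3 ha hb hab g
  rw [oppHom_resid]
  exact inG_wordHom ha.toIsQuad hb.toIsQuad W

theorem oppHom_upR (f : k[X]) :
    ((oppHom h2 h3 ha hb hab (upR (Ideal.Quotient.mk _ f))) : Module.End k M) =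
      1 + termA a b f := by
  obtain ⟨W, hW⟩ := resid_surjective h2 h3 ha hb hab (upR (Ideal.Quotient.mk _ f))
  rw [← hW, oppHom_resid, wordHom_val]
  obtain ⟨W, hWw⟩ := W
  obtain ⟨h00, h10, h11⟩ := word_mod_X hWw
  have e : ∀ i j, Ideal.Quotient.mk (stabIdeal a b) (W i j) =
      upR (Ideal.Quotient.mk (stabIdeal a b) f) i j := fun i j => by rw [← hW, resid_apply]
  have e00 : W 0 0 - 1 ∈ stabIdeal a b := Ideal.Quotient.eq_zero_iff_mem.mp (by
    rw [map_sub, e]; simp [coe_upR])
  have e01 : W 0 1 - f ∈ stabIdeal a b := Ideal.Quotient.eq_zero_iff_mem.mp (by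
    rw [map_sub, e]; simp [coe_upR])
  have e10 : W 1 0 ∈ stabIdeal a b := Ideal.Quotient.eq_zero_iff_mem.mp (by
    rw [e]; simp [coe_upR])
  have e11 : W 1 1 - 1 ∈ stabIdeal a b := Ideal.Quotient.eq_zero_iff_mem.mp (by
    rw [map_sub, e]; simp [coe_upR])
  have ediv : ∀ p : k[X], (p - 1).divX = p.divX := fun p => by
    ext n; simp [coeff_divX, coeff_one]
  have e00' := (divX_mem_iff h2 h3 ha hb hab (by simp [h00])).mpr e00
  have e11' := (divX_mem_iff h2 h3 ha hb hab (by simp [h11])).mpr e11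
  rw [ediv] at e00' e11'
  have hA : termA a b (W 0 1) = termA a b f := by
    have := (hab.kill_iff h2 h3 ha hb _).mp e01
    rw [map_sub, sub_mul, sub_eq_zero] at this
    exact this
  rw [evalMat]
  simp only
  rw [h00, map_one, termAB_eq_zero h2 h3 ha hb hab e00', hA,
    termBA_eq_zero h2 h3 ha hb hab e11',
    termB_eq_zero h2 h3 ha hb hab ((divX_mem_iff h2 h3 ha hb hab h10).mpr e10)]
  abel

theorem oppHom_lowR (f : k[X]) :
    ((oppHom h2 h3 ha hb hab (lowR (Ideal.Quotient.mk _ (f * X)))) : Module.End k M) =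
      1 + termA b a f := by
  obtain ⟨W, hW⟩ := resid_surjective h2 h3 ha hb hab (lowR (Ideal.Quotient.mk _ (f * X)))
  rw [← hW, oppHom_resid, wordHom_val]
  obtain ⟨W, hWw⟩ := W
  obtain ⟨h00, h10, h11⟩ := word_mod_X hWw
  have e : ∀ i j, Ideal.Quotient.mk (stabIdeal a b) (W i j) =
      lowR (Ideal.Quotient.mk (stabIdeal a b) (f * X)) i j := fun i j => by rw [← hW, resid_apply]
  have e00 : W 0 0 - 1 ∈ stabIdeal a b := Ideal.Quotient.eq_zero_iff_mem.mp (by
    rw [map_sub, e]; simp [coe_lowR])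
  have e01 : W 0 1 ∈ stabIdeal a b := Ideal.Quotient.eq_zero_iff_mem.mp (by
    rw [e]; simp [coe_lowR])
  have e10 : W 1 0 - f * X ∈ stabIdeal a b := Ideal.Quotient.eq_zero_iff_mem.mp (by
    rw [map_sub, e]; simp [coe_lowR])
  have e11 : W 1 1 - 1 ∈ stabIdeal a b := Ideal.Quotient.eq_zero_iff_mem.mp (by
    rw [map_sub, e]; simp [coe_lowR])
  have ediv : ∀ p : k[X], (p - 1).divX = p.divX := fun p => by
    ext n; simp [coeff_divX, coeff_one]
  have e00' := (divX_mem_iff h2 h3 ha hb hab (by simp [h00])).mpr e00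
  have e11' := (divX_mem_iff h2 h3 ha hb hab (by simp [h11])).mpr e11
  rw [ediv] at e00' e11'
  have hB : termA b a (W 1 0).divX = termA b a f := by
    have hsub : (W 1 0).divX - f ∈ stabIdeal a b := by
      rw [← Ideal.Quotient.eq_zero_iff_mem] at e10 ⊢
      rw [show W 1 0 - f * X = X * ((W 1 0).divX - f) by
        conv_lhs => rw [eq_divX (W 1 0), h10, map_zero, add_zero]
        ring, map_mul] at e10
      exact (isUnit_X_resid h2 h3 ha hb hab).mul_right_eq_zero.mp e10
    have := termB_eq_zero h2 h3 ha hb hab hsub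
    rwa [termA, map_sub, sub_mul, sub_eq_zero] at this
  rw [evalMat]
  simp only
  rw [h00, map_one, termAB_eq_zero h2 h3 ha hb hab e00', termA,
    (hab.kill_iff h2 h3 ha hb _).mp e01, hB, termBA_eq_zero h2 h3 ha hb hab e11']
  abel

theorem termA_mem (f : k[X]) : termA a b f ∈ rootSpace G a := by
  refine (mem_rootSpace ha.sq).mpr ⟨range_aeval_A a b f, LinearMap.ker_le_ker_comp _ _, fun t => ?_⟩
  have h := InG.of_unit (oppHom_mem h2 h3 ha hb hab (upR (Ideal.Quotient.mk _ (C t * f))))
  rw [oppHom_upR] at h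
  convert h using 2
  simp [termA, Algebra.smul_def, mul_assoc]

theorem termB_mem (f : k[X]) : termA b a f ∈ rootSpace G b := by
  refine (mem_rootSpace hb.sq).mpr ⟨range_aeval_A b a f, LinearMap.ker_le_ker_comp _ _, fun t => ?_⟩
  have h := InG.of_unit (oppHom_mem h2 h3 ha hb hab (lowR (Ideal.Quotient.mk _ (C t * f * X))))
  rw [oppHom_lowR] at h
  convert h using 2
  simp [termA, Algebra.smul_def, mul_assoc]

/-- The pseudo-inverse of a in the root space of b. -/
theorem exists_inverse :
    ∃ y ∈ rootSpace G b, y ≠ 0 ∧ a * y * a = a ∧ y * a * y = y := by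
  obtain ⟨q, hq⟩ := Ideal.Quotient.mk_surjective
    ((isUnit_X_resid h2 h3 ha hb hab).unit⁻¹.val : k[X] ⧸ stabIdeal a b)
  have hmem : q * X - 1 ∈ stabIdeal a b := by
    rw [← Ideal.Quotient.eq_zero_iff_mem, map_sub, map_mul, hq, map_one, sub_eq_zero]
    exact IsUnit.val_inv_mul _
  set y := termA b a q with hy
  have h1 : a * y * a = a := by
    have h := (hab.kill_iff h2 h3 ha hb _).mp hmem
    rw [map_sub, map_mul, aeval_X, map_one, sub_mul, one_mul, sub_eq_zero] at h
    rw [hy, termA, ← mul_assoc, mul_aeval_swap]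
    simpa [mul_assoc] using h
  refine ⟨y, termB_mem h2 h3 ha hb hab q, fun h0 => ha.ne_zero ?_, h1, ?_⟩
  · rw [← h1, h0, mul_zero, zero_mul]
  · have h : termA b a ((q * X - 1) * q) = 0 :=
      termB_eq_zero h2 h3 ha hb hab (Ideal.mul_mem_right _ _ hmem)
    have e : y * a * y = termA b a (q * q * X) := by
      rw [hy, termA, termA, map_mul, map_mul, aeval_X, mul_assoc (aeval (b * a) q) b a,
        mul_assoc (aeval (b * a) q) (b * a), ← mul_assoc (b * a), aeval_comm]
      simp only [mul_assoc]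
    rw [show (q * X - 1) * q = q * q * X - q by ring, termA, map_sub, sub_mul, sub_eq_zero] at h
    rw [e]
    exact h

end SL2Hom

end Cfsg.Agent.RootSub.Quad
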