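import Cfsg.Agent.RootSub.Quad.Opposite

/-!
# Unipotent pairs of minimal quadratic elements
-/

namespace Cfsg.Agent.RootSub.Quad

open Cfsg
open scoped Pointwise commutatorElement

variable {k : Type*} [Field k] {M : Type*} [AddCommGroup M] [Module k M] [FiniteDimensional k M]
variable {G : Subgroup (LinearMap.GeneralLinearGroup k M)}

theorem commutatorElement_eq_one_add {u v : LinearMap.GeneralLinearGroup k M}
    {x y : Module.End k M} (hu : (u : Module.End k M) = 1 + x) (hv : (v : Module.End k M) = 1 + y)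
    (hx : x * x = 0) (hy : y * y = 0) (hxyx : x * y * x = 0) (hyxy : y * x * y = 0) :
    ((⁅u, v⁆ : LinearMap.GeneralLinearGroup k M) : Module.End k M) = 1 + (x * y - y * x) := by
  have hu' : ((u⁻¹ : LinearMap.GeneralLinearGroup k M) : Module.End k M) = 1 - x := by
    have h := inv_sub_one (u := u) (by rw [hu, add_sub_cancel_left, hx])
    rw [hu, add_sub_cancel_left, sub_eq_iff_eq_add] at h
    rw [h]; abel
  have hv' : ((v⁻¹ : LinearMap.GeneralLinearGroup k M) : Module.End k M) = 1 - y := by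
    have h := inv_sub_one (u := v) (by rw [hv, add_sub_cancel_left, hy])
    rw [hv, add_sub_cancel_left, sub_eq_iff_eq_add] at h
    rw [h]; abel
  rw [commutatorElement_def, Units.val_mul, Units.val_mul, Units.val_mul, hu, hv, hu', hv']
  have e1 : (1 + x) * (1 + y) * (1 - x) = 1 + y + (x * y - y * x) - x * x - x * y * x := by
    noncomm_ring
  rw [e1, hx, hxyx, sub_zero, sub_zero]
  have e2 : (1 + y + (x * y - y * x)) * (1 - y) =
      1 + (x * y - y * x) - y * y - x * (y * y) + y * x * y := by noncomm_ring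
  rw [e2, hy, hyxy, mul_zero, sub_zero, sub_zero, add_zero]

variable (h2 : (2 : k) ≠ 0) (h3 : Nat.card k ≠ 3)
variable {a b : Module.End k M} (ha : IsMin G a) (hb : IsMin G b)

include h2 h3 ha hb

theorem not_isOpp_of_mem (h : ¬ IsOpp a b) {x y : Module.End k M} (hx : x ∈ rootSpace G a)
    (hx0 : x ≠ 0) (hy : y ∈ rootSpace G b) (hy0 : y ≠ 0) : IsNilpotent (x * y) := by
  by_contra hn
  exact h ((isOpp_congr h2 h3 ha hb hx hx0 hy hy0).mp hn)

/-- In a unipotent pair every product x y x' vanishes. -/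
theorem triple_eq_zero (h : ¬ IsOpp a b) {x x' y : Module.End k M} (hx : x ∈ rootSpace G a)
    (hx' : x' ∈ rootSpace G a) (hy : y ∈ rootSpace G b) : x * y * x' = 0 := by
  rcases eq_or_ne x 0 with rfl | hx0
  · simp
  rcases eq_or_ne x' 0 with rfl | hx'0
  · simp
  rcases eq_or_ne y 0 with rfl | hy0
  · simp
  have h0 := (nilpotent_case h2 (ha.isMin_of_mem hx hx0) (hb.isMin_of_mem hy hy0)
    (not_isOpp_of_mem h2 h3 ha hb h hx hx0 hy hy0)).1
  rw [Module.End.mul_eq_comp, ← LinearMap.range_le_ker_iff] at h0 ⊢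
  rwa [ha.range_eq hx' hx'0, ← ha.range_eq hx hx0]

/-- A pair that is not opposite generates a unipotent group. -/
theorem isUnipotentOn_sup_rootGroup (h : ¬ IsOpp a b) :
    IsUnipotentOn (rootGroup G a ⊔ rootGroup G b) := by
  have h' : ¬ IsOpp b a := fun h' => h h'.symm
  set S : Submodule k (Module.End k M) := rootSpace G a ⊔ rootSpace G b with hS
  have hSS : ∀ p ∈ S, ∀ q ∈ S, ∀ r ∈ S, p * q * r = 0 := by
    intro p hp q hq r hr
    obtain ⟨p1, hp1, p2, hp2, rfl⟩ := Submodule.mem_sup.mp hp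
    obtain ⟨q1, hq1, q2, hq2, rfl⟩ := Submodule.mem_sup.mp hq
    obtain ⟨r1, hr1, r2, hr2, rfl⟩ := Submodule.mem_sup.mp hr
    simp only [add_mul, mul_add, mul_eq_zero_of_mem hp1 hq1, mul_eq_zero_of_mem hp2 hq2,
      mul_assoc p1 q2 r2, mul_assoc p2 q1 r1, mul_eq_zero_of_mem hq1 hr1,
      mul_eq_zero_of_mem hq2 hr2, triple_eq_zero h2 h3 ha hb h hp1 hr1 hq2,
      triple_eq_zero h2 h3 hb ha h' hp2 hr2 hq1, zero_mul, mul_zero, add_zero]
  set T : Submodule k (Module.End k M) := S ⊔ S * S with hT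
  have hS3 : S * S * S = ⊥ := by
    rw [eq_bot_iff, Submodule.mul_le]
    intro pq hpq r hr
    refine Submodule.mul_induction_on hpq (fun p hp q hq => ?_) (fun u v hu hv => ?_)
    · rw [Submodule.mem_bot]; exact hSS p hp q hq r hr
    · rw [add_mul]; exact add_mem hu hv
  have gen : ∀ P : Submodule k (Module.End k M), P * P * P = ⊥ →
      (P ⊔ P * P) * (P ⊔ P * P) ≤ P ⊔ P * P ∧
        (P ⊔ P * P) * (P ⊔ P * P) * (P ⊔ P * P) = ⊥ := by
    intro P hP
    constructor
    · simp only [Submodule.sup_mul, Submodule.mul_sup, ← mul_assoc, hP, Submodule.bot_mul,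
        sup_bot_eq, bot_sup_eq, le_sup_right]
    · simp only [Submodule.sup_mul, Submodule.mul_sup, ← mul_assoc, hP, Submodule.bot_mul,
        sup_bot_eq, bot_sup_eq]
  obtain ⟨hT2, hT3⟩ := gen S hS3
  have hTT : ∀ p ∈ T, ∀ q ∈ T, p * q ∈ T := fun p hp q hq => hT2 (Submodule.mul_mem_mul hp hq)
  rw [← hT] at hT3
  have hle : rootGroup G a ⊔ rootGroup G b ≤ oneAdd T hTT := by
    refine sup_le ?_ ?_ <;> intro u hu
    · exact Submodule.mem_sup_left (Submodule.mem_sup_left hu)
    · exact Submodule.mem_sup_left (Submodule.mem_sup_right hu)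
  rw [isUnipotentOn_iff]
  refine ⟨3, fun l hl hlen => ?_⟩
  obtain ⟨u, v, w, rfl⟩ := List.length_eq_three.mp hlen
  have hu := hle (hl u (by simp))
  have hv := hle (hl v (by simp))
  have hw := hle (hl w (by simp))
  have := Submodule.mul_mem_mul
    (Submodule.mul_mem_mul (show (u : Module.End k M) - 1 ∈ T from hu)
      (show (v : Module.End k M) - 1 ∈ T from hv)) (show (w : Module.End k M) - 1 ∈ T from hw)
  rw [hT3, Submodule.mem_bot] at this
  simpa [mul_assoc] using this

omit h3 in
theorem IsOpp.not_isUnipotentOn (h : IsOpp a b) :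
    ¬ IsUnipotentOn (rootGroup G a ⊔ rootGroup G b) := by
  intro hu
  obtain ⟨n, hn⟩ := exists_series_eq_bot hu
  refine h ⟨n, LinearMap.ext fun v => ?_⟩
  set H := rootGroup G a ⊔ rootGroup G b
  have hA : a ∈ augSpan H := by
    have := sub_one_mem_augSpan (H := H) (Subgroup.mem_sup_left (oneAddUnit_mem ha.self_mem ha.sq))
    rwa [coe_oneAddUnit, add_sub_cancel_left] at this
  have hB : b ∈ augSpan H := by
    have := sub_one_mem_augSpan (H := H) (Subgroup.mem_sup_right (oneAddUnit_mem hb.self_mem hb.sq))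
    rwa [coe_oneAddUnit, add_sub_cancel_left] at this
  have hp := prod_apply_mem (S := augSpan H) (List.replicate n (a * b))
    (fun x hx => (List.eq_of_mem_replicate hx) ▸ augSpan_mul hA hB) v
  rw [List.prod_replicate, List.length_replicate, hn, Submodule.mem_bot] at hp
  exact hp

/-- The data of the commutator case: c = xy - yx spans the intersection pattern. -/
theorem commutator_data {x y : Module.End k M} (h : ¬ IsOpp a b) (hx : x ∈ rootSpace G a)
    (hy : y ∈ rootSpace G b) (hc : x * y - y * x ≠ 0) :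
    IsMin G (x * y - y * x) ∧
      LinearMap.range (x * y - y * x) =
        LinearMap.range a ⊓ LinearMap.ker b ⊔ LinearMap.range b ⊓ LinearMap.ker a ∧
      LinearMap.ker (x * y - y * x) =
        (LinearMap.ker b ⊔ LinearMap.range a) ⊓ (LinearMap.ker a ⊔ LinearMap.range b) ∧
      LinearMap.range (x * y) = LinearMap.range a ⊓ LinearMap.ker b ∧
      LinearMap.range (y * x) = LinearMap.range b ⊓ LinearMap.ker a ∧
      Module.finrank k (LinearMap.range a ⊓ LinearMap.ker b : Submodule k M) +
        Module.finrank k (LinearMap.range b ⊓ LinearMap.ker a : Submodule k M) =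
          Module.finrank k (LinearMap.range a) := by
  have hx0 : x ≠ 0 := fun h0 => hc (by simp [h0])
  have hy0 : y ≠ 0 := fun h0 => hc (by simp [h0])
  have hxm := ha.isMin_of_mem hx hx0
  have hym := hb.isMin_of_mem hy hy0
  obtain ⟨hxyx, hyxy⟩ := nilpotent_case h2 hxm hym (not_isOpp_of_mem h2 h3 ha hb h hx hx0 hy hy0)
  rw [← ha.range_eq hx hx0, ← ha.ker_eq hx hx0, ← hb.range_eq hy hy0, ← hb.ker_eq hy hy0]
  set c := x * y - y * x with hcdef
  have hxx := hxm.sq
  have hyy := hym.sq
  have hcsq : c * c = 0 := by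
    rw [hcdef, show (x * y - y * x) * (x * y - y * x) = x * y * x * y - x * (y * y) * x -
      y * (x * x) * y + y * x * y * x by noncomm_ring, hxyx, hyxy, hxx, hyy]
    simp
  have hcG : ∀ t : k, InG G (1 + t • c) := by
    intro t
    have e1 : (t • x) * (t • x) = 0 := by rw [smul_mul_smul_comm, hxx, smul_zero]
    obtain ⟨u, hu, hue⟩ := hx.2.2 t
    obtain ⟨v, hv, hve⟩ := hy.2.2 1
    rw [one_smul] at hve
    refine ⟨⁅u, v⁆, ?_, ?_⟩
    · exact mul_mem (mul_mem (mul_mem hu hv) (inv_mem hu)) (inv_mem hv)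
    · rw [commutatorElement_eq_one_add hue hve e1 hyy
        (by rw [smul_mul_assoc, smul_mul_smul_comm, hxyx, smul_zero])
        (by rw [mul_smul_comm, smul_mul_assoc, hyxy, smul_zero]), hcdef, smul_sub, smul_mul_assoc,
        mul_smul_comm]
  have hcq : IsQuad G c := ⟨hc, hcsq, hcG⟩
  -- bounds
  have r1 : LinearMap.range (x * y) ≤ LinearMap.range x ⊓ LinearMap.ker y :=
    le_inf (LinearMap.range_comp_le_range _ _) (LinearMap.range_le_ker_iff.mpr (by
      rw [← Module.End.mul_eq_comp, ← mul_assoc]; exact hyxy))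
  have r2 : LinearMap.range (y * x) ≤ LinearMap.range y ⊓ LinearMap.ker x :=
    le_inf (LinearMap.range_comp_le_range _ _) (LinearMap.range_le_ker_iff.mpr (by
      rw [← Module.End.mul_eq_comp, ← mul_assoc]; exact hxyx))
  have e1 := finrank_range_mul x y
  have e2 := finrank_range_mul y x
  have hd := hxm.finrank_eq hym
  have rc : LinearMap.range c ≤ LinearMap.range (x * y) ⊔ LinearMap.range (y * x) := by
    rintro _ ⟨m, rfl⟩
    exact sub_mem (Submodule.mem_sup_left ⟨m, rfl⟩) (Submodule.mem_sup_right ⟨m, rfl⟩)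
  have f0 := hxm.min c hcq
  have f1 := Submodule.finrank_mono rc
  have f2 := Submodule.finrank_sup_add_finrank_inf_eq (LinearMap.range (x * y)) (LinearMap.range (y * x))
  have f3 := Submodule.finrank_mono r1
  have f4 := Submodule.finrank_mono r2
  have q1 : LinearMap.range (x * y) = LinearMap.range x ⊓ LinearMap.ker y :=
    Submodule.eq_of_le_of_finrank_le r1 (by omega)
  have q2 : LinearMap.range (y * x) = LinearMap.range y ⊓ LinearMap.ker x :=
    Submodule.eq_of_le_of_finrank_le r2 (by omega)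
  have q3 : LinearMap.range c = LinearMap.range (x * y) ⊔ LinearMap.range (y * x) :=
    Submodule.eq_of_le_of_finrank_le rc (by omega)
  have hinf : LinearMap.range (x * y) ⊓ LinearMap.range (y * x) = ⊥ :=
    Submodule.finrank_eq_zero.mp (by omega)
  have hcmin : IsMin G c := ⟨hcq, fun z hz => by
    have := hxm.min z hz
    rw [q3]
    omega⟩
  have g1 : LinearMap.range x ⊔ LinearMap.ker y ≤ LinearMap.ker (y * x) ⊔ LinearMap.ker y := by
    refine sup_le (le_trans ?_ le_sup_left) le_sup_right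
    exact (LinearMap.range_le_ker_iff.mpr hxx).trans (LinearMap.ker_le_ker_comp _ _)
  -- the kernels of xy and yx
  have kxy : LinearMap.ker (x * y) = LinearMap.ker y ⊔ LinearMap.range x := by
    symm
    refine Submodule.eq_of_le_of_finrank_le (sup_le (LinearMap.ker_le_ker_comp _ _)
      (LinearMap.range_le_ker_iff.mpr (by rw [← Module.End.mul_eq_comp]; exact hxyx))) ?_
    have n1 := LinearMap.finrank_range_add_finrank_ker (x * y)
    have n2 := LinearMap.finrank_range_add_finrank_ker y
    have n3 := Submodule.finrank_sup_add_finrank_inf_eq (LinearMap.ker y) (LinearMap.range x)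
    rw [inf_comm] at n3
    rw [q1] at n1
    omega
  have kyx : LinearMap.ker (y * x) = LinearMap.ker x ⊔ LinearMap.range y := by
    symm
    refine Submodule.eq_of_le_of_finrank_le (sup_le (LinearMap.ker_le_ker_comp _ _)
      (LinearMap.range_le_ker_iff.mpr (by rw [← Module.End.mul_eq_comp]; exact hyxy))) ?_
    have n1 := LinearMap.finrank_range_add_finrank_ker (y * x)
    have n2 := LinearMap.finrank_range_add_finrank_ker x
    have n3 := Submodule.finrank_sup_add_finrank_inf_eq (LinearMap.ker x) (LinearMap.range y)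
    rw [inf_comm] at n3
    rw [q2] at n1
    omega
  refine ⟨hcmin, by rw [q3, q1, q2], ?_, q1, q2, by omega⟩
  rw [← kxy, ← kyx]
  refine le_antisymm (fun m hm => ?_) (fun m hm => ?_)
  · have hm' : (x * y) m = (y * x) m := sub_eq_zero.mp hm
    have hz : (x * y) m ∈ LinearMap.range (x * y) ⊓ LinearMap.range (y * x) :=
      ⟨⟨m, rfl⟩, ⟨m, hm'.symm⟩⟩
    rw [hinf, Submodule.mem_bot] at hz
    exact ⟨hz, hm'.symm.trans hz⟩
  · show (x * y) m - (y * x) m = 0
    rw [LinearMap.mem_ker.mp hm.1, LinearMap.mem_ker.mp hm.2, sub_zero]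

/-- If some non-zero pair commutes, all do. -/
theorem commute_all (h : ¬ IsOpp a b) {x y : Module.End k M} (hx : x ∈ rootSpace G a)
    (hx0 : x ≠ 0) (hy : y ∈ rootSpace G b) (hy0 : y ≠ 0) (hxy : x * y = y * x)
    {x' y' : Module.End k M} (hx' : x' ∈ rootSpace G a) (hy' : y' ∈ rootSpace G b) :
    x' * y' = y' * x' := by
  by_contra hne
  have hc : x' * y' - y' * x' ≠ 0 := sub_ne_zero.mpr hne
  obtain ⟨hcm, hr, -, -, -, hsum⟩ := commutator_data h2 h3 ha hb h hx' hy' hc
  obtain ⟨hxyx, hyxy⟩ := nilpotent_case h2 (ha.isMin_of_mem hx hx0) (hb.isMin_of_mem hy hy0)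
    (not_isOpp_of_mem h2 h3 ha hb h hx hx0 hy hy0)
  have hra := ha.range_eq hx hx0
  have hka := ha.ker_eq hx hx0
  have hrb := hb.range_eq hy hy0
  have hkb := hb.ker_eq hy hy0
  have r1 : LinearMap.range (x * y) ≤ LinearMap.range a ⊓ LinearMap.ker b := by
    rw [← hra, ← hkb]
    exact le_inf (LinearMap.range_comp_le_range _ _) (LinearMap.range_le_ker_iff.mpr (by
      rw [← Module.End.mul_eq_comp, ← mul_assoc]; exact hyxy))
  have r2 : LinearMap.range (y * x) ≤ LinearMap.range b ⊓ LinearMap.ker a := by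
    rw [← hrb, ← hka]
    exact le_inf (LinearMap.range_comp_le_range _ _) (LinearMap.range_le_ker_iff.mpr (by
      rw [← Module.End.mul_eq_comp, ← mul_assoc]; exact hxyx))
  have e1 := finrank_range_mul x y
  have e2 := finrank_range_mul y x
  rw [hrb, hka] at e1
  rw [hra, hkb] at e2
  have hd := ha.finrank_eq hb
  have q1 : LinearMap.range (x * y) = LinearMap.range a ⊓ LinearMap.ker b :=
    Submodule.eq_of_le_of_finrank_le r1 (by omega)
  have q2 : LinearMap.range (y * x) = LinearMap.range b ⊓ LinearMap.ker a :=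
    Submodule.eq_of_le_of_finrank_le r2 (by omega)
  rw [hxy, q2] at q1
  rw [q1, sup_idem] at hr
  have hcd := hcm.finrank_eq ha
  rw [hr] at hcd
  rw [q1] at hsum
  have : Module.finrank k (LinearMap.range a) = 0 := by omega
  exact ha.ne_zero (LinearMap.range_eq_bot.mp (Submodule.finrank_eq_zero.mp this))

end Cfsg.Agent.RootSub.Quad
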