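import Cfsg.Agent.RootSub.Quad.Components

/-!
# The group of a component is quasisimple
-/

namespace Cfsg.Agent.RootSub.Quad

open Cfsg Polynomial Dickson
open scoped MatrixGroups commutatorElement

section SL2Normal

variable {K : Type*} [Field K]

theorem upR_one_notMem_center : upR (1 : K) ∉ Subgroup.center SL(2, K) := fun h => by
  have := congrArg (fun g : SL(2, K) => g 0 0) (Subgroup.mem_center_iff.mp h (lowR 1))
  simp [coe_upR, coe_lowR, Matrix.mul_apply, Fin.sum_univ_two] at this

theorem commutator_up_low_notMem_center {l : K} (hl : l ≠ 0) :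
    ⁅upR (1 : K), lowR l⁆ ∉ Subgroup.center SL(2, K) := fun h => by
  have := congrArg (fun g : SL(2, K) => g 0 0) (Subgroup.mem_center_iff.mp h (upR 1))
  simp [commutatorElement_def, coe_upR, coe_lowR, upR_inv, lowR_inv, Matrix.mul_apply,
    Fin.sum_univ_two] at this
  exact mul_ne_zero hl hl (by linear_combination this)

/-- A normal subgroup of SL₂ that is not central is everything. -/
theorem normal_eq_top_of_notMem_center (hc : ∃ c : K, c ≠ 0 ∧ c ^ 2 ≠ 1) {P : Subgroup SL(2, K)}
    [hP : P.Normal] {g : SL(2, K)} (hg : g ∈ P) (hgc : g ∉ Subgroup.center SL(2, K)) : P = ⊤ := by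
  haveI := Matrix.ProjectiveSpecialLinearGroup.rank_two_simple' hc
  set q : SL(2, K) →* PSL(2, K) := QuotientGroup.mk' _ with hq
  have hqs : Function.Surjective q := QuotientGroup.mk'_surjective _
  have hn : (P.map q).Normal := hP.map q hqs
  rcases hn.eq_bot_or_eq_top with h | h
  · refine absurd ?_ hgc
    have : q g ∈ P.map q := ⟨g, hg, rfl⟩
    rw [h, Subgroup.mem_bot] at this
    exact (QuotientGroup.eq_one_iff g).mp this
  · rw [eq_top_iff, ← commutator_sl2_eq_top hc, commutator_def, Subgroup.commutator_le]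
    intro x _ y _
    have key : ∀ z : SL(2, K), ∃ p ∈ P, ∃ c ∈ Subgroup.center SL(2, K), z = p * c := by
      intro z
      obtain ⟨p, hp, hpz⟩ := (h ▸ Subgroup.mem_top (q z) : q z ∈ P.map q)
      exact ⟨p, hp, p⁻¹ * z, (QuotientGroup.eq).mp hpz, by group⟩
    obtain ⟨p, hp, c, hcc, rfl⟩ := key x
    have hcy : ∀ w, c * w = w * c := fun w => (Subgroup.mem_center_iff.mp hcc w).symm
    have e : ⁅p * c, y⁆ = p * (y * p⁻¹ * y⁻¹) := by
      rw [commutatorElement_def, mul_inv_rev,
        show p * c * y * (c⁻¹ * p⁻¹) = p * y * p⁻¹ by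
          rw [mul_assoc p c y, hcy y]; group]
      group
    rw [e]
    exact mul_mem hp (hP.conj_mem _ (inv_mem hp) y)

end SL2Normal

variable {k : Type*} [Field k] {M : Type*} [AddCommGroup M] [Module k M] [FiniteDimensional k M]
variable {G : Subgroup (LinearMap.GeneralLinearGroup k M)}
variable {A B C : Subgroup (LinearMap.GeneralLinearGroup k M)}

omit [FiniteDimensional k M] in
theorem prod_conjEnd (g : LinearMap.GeneralLinearGroup k M) (l : List (Module.End k M)) :
    (l.map (conjEnd g)).prod = conjEnd g l.prod := by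
  induction l with
  | nil => simp [conjEnd]
  | cons x l ih => rw [List.map_cons, List.prod_cons, List.prod_cons, ih, conjEnd_mul]

theorem isUnipotentOn_conjBy {U : Subgroup (LinearMap.GeneralLinearGroup k M)}
    (hU : IsUnipotentOn U) (g : LinearMap.GeneralLinearGroup k M) :
    IsUnipotentOn (conjBy U g) := by
  obtain ⟨n, hn⟩ := isUnipotentOn_iff.mp hU
  refine isUnipotentOn_iff.mpr ⟨n, fun l hl hlen => ?_⟩
  have h0 := hn (l.map fun x => g⁻¹ * x * g) (fun y hy => by
    obtain ⟨x, hx, rfl⟩ := List.mem_map.mp hy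
    exact mem_conjBy.mp (hl x hx)) (by rw [List.length_map, hlen])
  have he : ∀ x : LinearMap.GeneralLinearGroup k M, (x : Module.End k M) - 1 =
      conjEnd g (((g⁻¹ * x * g : LinearMap.GeneralLinearGroup k M) : Module.End k M) - 1) := by
    intro x
    simp [conjEnd, mul_sub, sub_mul, mul_assoc]
  rw [List.map_map] at h0
  rw [show l.map (fun x : LinearMap.GeneralLinearGroup k M => (x : Module.End k M) - 1) =
    (l.map fun x : LinearMap.GeneralLinearGroup k M =>
      ((g⁻¹ * x * g : LinearMap.GeneralLinearGroup k M) : Module.End k M) - 1).map (conjEnd g) by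
        rw [List.map_map]; exact List.map_congr_left fun x _ => he x, prod_conjEnd]
  rw [show (l.map fun x : LinearMap.GeneralLinearGroup k M =>
      ((g⁻¹ * x * g : LinearMap.GeneralLinearGroup k M) : Module.End k M) - 1).prod = 0 from h0]
  simp [conjEnd]

theorem core_conj {g : LinearMap.GeneralLinearGroup k M} (hg : g ∈ G) :
    conjBy (coreGroup G) g = coreGroup G := by
  have hle : ∀ g ∈ G, conjBy (coreGroup G) g ≤ coreGroup G := by
    intro g hg
    rw [coreGroup]
    refine Subgroup.map_le_iff_le_comap.mpr (iSup₂_le fun A hA => ?_)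
    rw [← Subgroup.map_le_iff_le_comap]
    exact le_coreGroup (conj_mem_sigma hA hg)
  refine le_antisymm (hle g hg) ?_
  have := conjBy_mono (hle g⁻¹ (inv_mem hg)) g
  rwa [conjBy_cancel_inv] at this

/-- A unipotent subgroup of the core that the core normalises is trivial. -/
theorem eq_bot_of_normal_unipotent (hpure : NoUnipNormal G)
    {U : Subgroup (LinearMap.GeneralLinearGroup k M)} (hle : U ≤ coreGroup G) (hU : IsUnipotentOn U)
    (hn : ∀ g ∈ coreGroup G, conjBy U g = U) : U = ⊥ := by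
  let W : Set (Subgroup (LinearMap.GeneralLinearGroup k M)) := (fun g => conjBy U g) '' (G : Set _)
  have hWle : ∀ V ∈ W, V ≤ coreGroup G := by
    rintro _ ⟨g, hg, rfl⟩
    exact (conjBy_mono hle g).trans (core_conj hg).le
  have hWfix : ∀ V ∈ W, ∀ x ∈ coreGroup G, conjBy V x = V := by
    rintro _ ⟨g, hg, rfl⟩ x hx
    have hx' : g⁻¹ * x * g ∈ coreGroup G := mem_conjBy.mp ((core_conj hg).symm ▸ hx)
    show conjBy (conjBy U g) x = conjBy U g
    rw [conjBy_conjBy, show x * g = g * (g⁻¹ * x * g) by group, ← conjBy_conjBy, hn _ hx']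
  have hWu : IsUnipotentOn (⨆ V ∈ W, V) := by
    refine isUnipotentOn_iSup ?_ ?_
    · rintro _ ⟨g, hg, rfl⟩ _ ⟨g', hg', rfl⟩
      refine isUnipotentOn_sup (isUnipotentOn_conjBy hU g) (isUnipotentOn_conjBy hU g') fun x hx => ?_
      rw [← conjBy_eq_self_iff]
      exact hWfix _ ⟨g, hg, rfl⟩ x (hWle _ ⟨g', hg', rfl⟩ hx)
    · intro V hV V' hV' x hx
      rwa [hWfix V hV x (hWle V' hV' hx)]
  have hconjle : ∀ g ∈ G, conjBy (⨆ V ∈ W, V) g ≤ ⨆ V ∈ W, V := by
    intro g hg
    refine Subgroup.map_le_iff_le_comap.mpr (iSup₂_le ?_)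
    rintro _ ⟨g', hg', rfl⟩
    rw [← Subgroup.map_le_iff_le_comap]
    show conjBy (conjBy U g') g ≤ _
    rw [conjBy_conjBy]
    exact le_iSup₂ (f := fun (V : Subgroup (LinearMap.GeneralLinearGroup k M)) (_ : V ∈ W) => V)
      (conjBy U (g * g')) ⟨g * g', mul_mem hg hg', rfl⟩
  have hbot := hpure _ (iSup₂_le fun V hV => (hWle V hV).trans coreGroup_le) hWu fun g hg =>
    le_antisymm (hconjle g hg) (by
      refine le_trans ?_ (conjBy_mono (hconjle g⁻¹ (inv_mem hg)) g)
      rw [conjBy_cancel_inv])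
  rw [eq_bot_iff, ← hbot]
  exact le_iSup₂ (f := fun (V : Subgroup (LinearMap.GeneralLinearGroup k M)) (_ : V ∈ W) => V)
    U ⟨1, one_mem _, conjBy_one U⟩

variable (h2 : (2 : k) ≠ 0) (h3 : Nat.card k ≠ 3)

include h2 h3

theorem sl2_cond {a b : Module.End k M} (ha : IsMin G a) (hb : IsMin G b) (hab : IsOpp a b) :
    letI := (hab.field h2 h3 ha hb).toField
    ∃ c : k[X] ⧸ stabIdeal a b, c ≠ 0 ∧ c ^ 2 ≠ 1 := by
  let := (hab.field h2 h3 ha hb).toField
  obtain ⟨c, hc0, hc⟩ := exists_sq_ne_one h3 h2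
  refine ⟨algebraMap k _ c, by simpa using hc0,
    fun h => hc ((algebraMap k (k[X] ⧸ stabIdeal a b)).injective ?_)⟩
  rwa [map_pow, map_one]

/-- A subgroup normalised by a rank one group and containing a non-central element of its SL₂
contains the whole SL₂. -/
theorem opp_units_mem {a b : Module.End k M} (ha : IsMin G a) (hb : IsMin G b) (hab : IsOpp a b)
    {N : Subgroup (LinearMap.GeneralLinearGroup k M)}
    (hN : ∀ g ∈ rootGroup G a ⊔ rootGroup G b, ∀ n ∈ N, g * n * g⁻¹ ∈ N)
    (h : oneAddUnit a ha.sq ∈ N ∨ ⁅oneAddUnit a ha.sq, oneAddUnit b hb.sq⁆ ∈ N) :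
    oneAddUnit a ha.sq ∈ N ∧ oneAddUnit b hb.sq ∈ N := by
  let := (hab.field h2 h3 ha hb).toField
  set φ := oppHom h2 h3 ha hb hab
  have hP : (N.comap φ).Normal := ⟨fun n hn g => by
    rw [Subgroup.mem_comap, map_mul, map_mul, map_inv]
    exact hN _ (oppHom_range_le h2 h3 ha hb hab ⟨g, rfl⟩) _ hn⟩
  have hX : Ideal.Quotient.mk (stabIdeal a b) X ≠ 0 :=
    (isUnit_X_resid h2 h3 ha hb hab).ne_zero
  have htop : N.comap φ = ⊤ := by
    rcases h with h | h
    · exact normal_eq_top_of_notMem_center (sl2_cond h2 h3 ha hb hab) (g := upR 1)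
        (by rwa [Subgroup.mem_comap, oppHom_up_one]) upR_one_notMem_center
    · exact normal_eq_top_of_notMem_center (sl2_cond h2 h3 ha hb hab)
        (g := ⁅upR 1, lowR (Ideal.Quotient.mk (stabIdeal a b) X)⁆)
        (by rwa [Subgroup.mem_comap, map_commutatorElement, oppHom_up_one, oppHom_low_X])
        (commutator_up_low_notMem_center hX)
  constructor
  · rw [← oppHom_up_one h2 h3 ha hb hab, ← Subgroup.mem_comap, htop]; exact Subgroup.mem_top _
  · rw [← oppHom_low_X h2 h3 ha hb hab, ← Subgroup.mem_comap, htop]; exact Subgroup.mem_top _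

theorem mem_commutator_of_opp {a b : Module.End k M} (ha : IsMin G a) (hb : IsMin G b)
    (hab : IsOpp a b) :
    oneAddUnit a ha.sq ∈ ⁅rootGroup G a ⊔ rootGroup G b, rootGroup G a ⊔ rootGroup G b⁆ := by
  let := (hab.field h2 h3 ha hb).toField
  set φ := oppHom h2 h3 ha hb hab
  have hle := oppHom_range_le h2 h3 ha hb hab
  refine Subgroup.commutator_mono hle hle ?_
  rw [MonoidHom.range_eq_map, ← Subgroup.map_commutator, ← commutator_def,
    commutator_sl2_eq_top (sl2_cond h2 h3 ha hb hab)]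
  exact ⟨upR 1, Subgroup.mem_top _, oppHom_up_one h2 h3 ha hb hab⟩

omit h2 h3 in
theorem unit_eq_oneAdd {u : LinearMap.GeneralLinearGroup k M} {x : Module.End k M}
    (hx : x = (u : Module.End k M) - 1) (h : x * x = 0) : oneAddUnit x h = u :=
  Units.ext (by rw [coe_oneAddUnit, hx]; abel)

variable (hpure : NoUnipNormal G)

include hpure

/-- Every member of a component has a neighbour. -/
theorem exists_neighbour (hB : B ∈ quadraticRootSubgroups G) :
    ∃ D, FAdj (quadraticRootSubgroups G) B D := by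
  obtain ⟨b, hb, rfl⟩ := mem_quadraticRootSubgroups.mp hB
  obtain ⟨D, hD, hp⟩ := exists_rankOne_partner h2 h3 hpure hb
  exact ⟨D, hb.mem_sigma, hD, hp⟩

theorem compGroup_perfect : ⁅compGroup G A, compGroup G A⁆ = compGroup G A := by
  refine le_antisymm (Subgroup.commutator_le_self _) ?_
  conv_lhs => rw [compGroup]
  refine iSup₂_le fun B hB u hu => ?_
  rcases eq_or_ne u 1 with rfl | hu1
  · exact one_mem _
  obtain ⟨D, hadj⟩ := exists_neighbour h2 h3 hpure hB.1
  obtain ⟨b, hb, rfl⟩ := mem_quadraticRootSubgroups.mp hB.1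
  obtain ⟨d, hd, rfl⟩ := mem_quadraticRootSubgroups.mp hadj.2.1
  have hopp := isOpp_of_rankOne h2 h3 hb hd hpure hadj.2.2
  obtain ⟨hx, hx0⟩ := exists_quadratic_ne_one_rep hu hu1
  have hxm := hb.isMin_of_mem hx hx0
  have hxd := hopp.of_mem h2 h3 hb hd hx hx0 hd.self_mem hd.ne_zero
  have h := mem_commutator_of_opp h2 h3 hxm hd hxd
  rw [unit_eq_oneAdd rfl, rootGroup_congr (hb.rootSpace_eq hx hx0)] at h
  have hle : rootGroup G b ⊔ rootGroup G d ≤ compGroup G A :=
    sup_le (le_compGroup hB) (le_compGroup ⟨hd.mem_sigma, Conn.trans hB.2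
      (Relation.ReflTransGen.single hadj)⟩)
  exact Subgroup.commutator_mono hle hle h

/-- A normal subgroup of the group of a component is everything or central. -/
theorem normal_cases (hA : A ∈ quadraticRootSubgroups G)
    {N : Subgroup (LinearMap.GeneralLinearGroup k M)} (hNle : N ≤ compGroup G A)
    (hN : ∀ h ∈ compGroup G A, ∀ n ∈ N, h * n * h⁻¹ ∈ N) :
    N = compGroup G A ∨
      N ≤ Subgroup.centralizer (compGroup G A : Set (LinearMap.GeneralLinearGroup k M)) := by
  classical
  by_cases hmeet : ∃ C ∈ compSet G A, ∃ u ∈ C, u ≠ 1 ∧ u ∈ N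
  · left
    refine le_antisymm hNle ?_
    have hstep : ∀ C D, C ∈ compSet G A → FAdj (quadraticRootSubgroups G) C D →
        (∃ u ∈ C, u ≠ 1 ∧ u ∈ N) → D ≤ N := by
      rintro C D hC hadj ⟨u, hu, hu1, huN⟩ v hv
      rcases eq_or_ne v 1 with rfl | hv1
      · exact one_mem _
      obtain ⟨c, hc, rfl⟩ := mem_quadraticRootSubgroups.mp hC.1
      obtain ⟨d, hd, rfl⟩ := mem_quadraticRootSubgroups.mp hadj.2.1
      have hopp := isOpp_of_rankOne h2 h3 hc hd hpure hadj.2.2
      obtain ⟨hx, hx0⟩ := exists_quadratic_ne_one_rep hu hu1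
      obtain ⟨hy, hy0⟩ := exists_quadratic_ne_one_rep hv hv1
      have hxm := hc.isMin_of_mem hx hx0
      have hym := hd.isMin_of_mem hy hy0
      have hxy := hopp.of_mem h2 h3 hc hd hx hx0 hy hy0
      have hle : rootGroup G c ⊔ rootGroup G d ≤ compGroup G A :=
        sup_le (le_compGroup hC) (le_compGroup ⟨hd.mem_sigma, Conn.trans hC.2
          (Relation.ReflTransGen.single hadj)⟩)
      have hN' : ∀ g ∈ rootGroup G ((u : Module.End k M) - 1) ⊔
          rootGroup G ((v : Module.End k M) - 1), ∀ n ∈ N, g * n * g⁻¹ ∈ N := by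
        rw [rootGroup_congr (hc.rootSpace_eq hx hx0), rootGroup_congr (hd.rootSpace_eq hy hy0)]
        exact fun g hg n hn => hN g (hle hg) n hn
      have h := (opp_units_mem h2 h3 hxm hym hxy hN'
        (Or.inl (by rwa [unit_eq_oneAdd rfl]))).2
      rwa [unit_eq_oneAdd rfl] at h
    have hnontriv : ∀ C ∈ quadraticRootSubgroups G, ∃ u ∈ C, u ≠ 1 := by
      intro C hC
      obtain ⟨c, hc, rfl⟩ := mem_quadraticRootSubgroups.mp hC
      exact ⟨_, oneAddUnit_mem hc.self_mem hc.sq, fun h => hc.ne_zero (by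
        have h' := congrArg Units.val h
        rwa [coe_oneAddUnit, Units.val_one, add_eq_left] at h')⟩
    obtain ⟨C₀, hC₀, hu₀⟩ := hmeet
    have hall : ∀ C, Conn G C₀ C → C ≤ N := by
      intro C hconn
      induction hconn with
      | refl =>
        obtain ⟨D, hadj⟩ := exists_neighbour h2 h3 hpure hC₀.1
        have hD : D ≤ N := hstep C₀ D hC₀ hadj hu₀
        have hDc : D ∈ compSet G A := ⟨hadj.2.1, Conn.trans hC₀.2
          (Relation.ReflTransGen.single hadj)⟩
        obtain ⟨v, hv, hv1⟩ := hnontriv D hadj.2.1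
        exact hstep D C₀ hDc ⟨hadj.2.1, hadj.1, RankOnePair_symm hadj.2.2⟩ ⟨v, hv, hv1, hD hv⟩
      | @tail C D hCC hadj ih =>
        obtain ⟨v, hv, hv1⟩ := hnontriv C hadj.1
        exact hstep C D ⟨hadj.1, Conn.trans hC₀.2 hCC⟩ hadj ⟨v, hv, hv1, ih hv⟩
    exact iSup₂_le fun C hC => hall C (Conn.trans (Conn.symm hC₀.2) hC.2)
  · right
    push Not at hmeet
    -- a member commutes with its conjugates under N
    have hself : ∀ c, IsMin G c → rootGroup G c ∈ compSet G A → ∀ n ∈ N,
        ¬ IsOpp c (conjEnd n c) ∧ c * conjEnd n c = conjEnd n c * c := by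
      intro c hc hC n hn
      have hnH := hNle hn
      have hnG : n ∈ G := compGroup_le hnH
      have hc' := hc.conj hnG
      have hC' : rootGroup G (conjEnd n c) ∈ compSet G A := by
        rw [← conjBy_rootGroup hnG]; exact conj_mem_compSet h2 h3 hpure hnH hC
      set u := oneAddUnit c hc.sq with hu
      set u' := oneAddUnit (conjEnd n c) hc'.sq with hu'
      have hue : u' = n * u * n⁻¹ := by
        apply Units.ext
        rw [Units.val_mul, Units.val_mul, hu, hu', coe_oneAddUnit, coe_oneAddUnit, conjEnd]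
        simp [mul_add, add_mul]
      have huH : u ∈ compGroup G A := le_compGroup hC (oneAddUnit_mem hc.self_mem _)
      have hm : u' * u⁻¹ ∈ N := by
        rw [hue, show n * u * n⁻¹ * u⁻¹ = n * (u * n⁻¹ * u⁻¹) by group]
        exact mul_mem hn (hN u huH _ (inv_mem hn))
      have hw : ⁅u, u'⁆ ∈ N := by
        rw [show ⁅u, u'⁆ = u * (u' * u⁻¹) * u⁻¹ * (u' * u⁻¹)⁻¹ by
          rw [commutatorElement_def]; group]
        exact mul_mem (hN u huH _ hm) (inv_mem hm)
      have hnopp : ¬ IsOpp c (conjEnd n c) := by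
        intro hopp
        have h := (opp_units_mem h2 h3 hc hc' hopp
          (fun g hg m hm => hN g ((sup_le (le_compGroup hC) (le_compGroup hC') :
            rootGroup G c ⊔ rootGroup G (conjEnd n c) ≤ compGroup G A) hg) m hm) (Or.inr hw)).1
        have hu1 : u ≠ 1 := fun e => hc.ne_zero (by
          have e' := congrArg Units.val e
          rwa [hu, coe_oneAddUnit, Units.val_one, add_eq_left] at e')
        exact hmeet _ hC u (oneAddUnit_mem hc.self_mem _) hu1 h
      refine ⟨hnopp, sub_eq_zero.mp ?_⟩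
      by_contra hne
      obtain ⟨hcm, -⟩ := commutator_data h2 h3 hc hc' hnopp hc.self_mem hc'.self_mem hne
      have hCc : rootGroup G (c * conjEnd n c - conjEnd n c * c) ∈ compSet G A :=
        ⟨hcm.mem_sigma, Conn.trans hC.2 (conn_commutator h2 h3 hpure hc hc' hnopp hne)⟩
      have hval := commutatorElement_root h2 h3 hc hc' hnopp (oneAddUnit_mem hc.self_mem hc.sq)
        (oneAddUnit_mem hc'.self_mem hc'.sq)
      simp only [coe_oneAddUnit, add_sub_cancel_left] at hval
      have hwmem : ⁅u, u'⁆ ∈ rootGroup G (c * conjEnd n c - conjEnd n c * c) := by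
        rw [mem_rootGroup, hu, hu', hval, add_sub_cancel_left]; exact hcm.self_mem
      refine hmeet _ hCc _ hwmem (fun e => hne ?_) hw
      have e' := congrArg Units.val e
      rwa [hu, hu', hval, Units.val_one, add_eq_left] at e'
    -- the conjugates of a member under N
    let Wn : Subgroup (LinearMap.GeneralLinearGroup k M) →
        Set (Subgroup (LinearMap.GeneralLinearGroup k M)) :=
      fun C => (fun n => conjBy C n) '' (N : Set _)
    let Bh : Subgroup (LinearMap.GeneralLinearGroup k M) →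
        Subgroup (LinearMap.GeneralLinearGroup k M) := fun C => ⨆ X ∈ Wn C, X
    have hBhmem : ∀ C n, n ∈ N → conjBy C n ≤ Bh C := fun C n hn =>
      le_iSup₂ (f := fun (X : Subgroup (LinearMap.GeneralLinearGroup k M)) (_ : X ∈ Wn C) => X)
        (conjBy C n) ⟨n, hn, rfl⟩
    have hpair : ∀ C ∈ compSet G A, ∀ n ∈ N, ∀ n' ∈ N,
        IsUnipotentOn (conjBy C n ⊔ conjBy C n') ∧ ⁅conjBy C n, conjBy C n'⁆ = ⊥ := by
      intro C hC n hn n' hn'
      obtain ⟨c, hc, rfl⟩ := mem_quadraticRootSubgroups.mp hC.1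
      have hnG : n ∈ G := compGroup_le (hNle hn)
      have hn'G : n' ∈ G := compGroup_le (hNle hn')
      obtain ⟨h1, h1'⟩ := hself c hc hC (n⁻¹ * n') (mul_mem (inv_mem hn) hn')
      rw [conjBy_rootGroup hnG, conjBy_rootGroup hn'G]
      have hopp : ¬ IsOpp (conjEnd n c) (conjEnd n' c) := by
        intro h
        rw [← isOpp_conj n⁻¹, conjEnd_conjEnd, conjEnd_conjEnd, inv_mul_cancel, conjEnd_one] at h
        exact h1 h
      refine ⟨isUnipotentOn_sup_rootGroup h2 h3 (hc.conj hnG) (hc.conj hn'G) hopp,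
        (commutator_eq_bot_iff h2 h3 (hc.conj hnG) (hc.conj hn'G) hopp).mpr ?_⟩
      have e := congrArg (conjEnd n) h1'
      rw [← conjEnd_mul, ← conjEnd_mul, conjEnd_conjEnd, mul_inv_cancel_left] at e
      rw [e, sub_self]
    have hBu : ∀ C ∈ compSet G A, IsUnipotentOn (Bh C) := by
      intro C hC
      refine isUnipotentOn_iSup ?_ ?_
      · rintro _ ⟨n, hn, rfl⟩ _ ⟨n', hn', rfl⟩
        exact (hpair C hC n hn n' hn').1
      · rintro _ ⟨n, hn, rfl⟩ _ ⟨n', hn', rfl⟩ x hx
        refine ⟨n, hn, ?_⟩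
        symm
        rw [conjBy_eq_self_iff]
        exact Subgroup.centralizer_le_normalizer _
          (Subgroup.commutator_eq_bot_iff_le_centralizer.mp (hpair C hC n' hn' n hn).2 hx)
    have hBconjle : ∀ C h, h ∈ compGroup G A → conjBy (Bh C) h ≤ Bh (conjBy C h) := by
      intro C h hh
      refine Subgroup.map_le_iff_le_comap.mpr (iSup₂_le ?_)
      rintro _ ⟨n, hn, rfl⟩
      rw [← Subgroup.map_le_iff_le_comap]
      show conjBy (conjBy C n) h ≤ _
      rw [conjBy_conjBy, show h * n = (h * n * h⁻¹) * h by group, ← conjBy_conjBy]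
      exact hBhmem _ _ (hN h hh n hn)
    have hBconj : ∀ C h, h ∈ compGroup G A → conjBy (Bh C) h = Bh (conjBy C h) := by
      intro C h hh
      refine le_antisymm (hBconjle C h hh) ?_
      have := conjBy_mono (hBconjle (conjBy C h) h⁻¹ (inv_mem hh)) h
      rwa [conjBy_inv_cancel, conjBy_cancel_inv] at this
    have hBfix : ∀ C n, n ∈ N → conjBy (Bh C) n = Bh C := by
      intro C n hn
      have hle : ∀ n ∈ N, conjBy (Bh C) n ≤ Bh C := by
        intro n hn
        refine Subgroup.map_le_iff_le_comap.mpr (iSup₂_le ?_)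
        rintro _ ⟨n', hn', rfl⟩
        rw [← Subgroup.map_le_iff_le_comap]
        show conjBy (conjBy C n') n ≤ _
        rw [conjBy_conjBy]
        exact hBhmem _ _ (mul_mem hn hn')
      refine le_antisymm (hle n hn) ?_
      have := conjBy_mono (hle n⁻¹ (inv_mem hn)) n
      rwa [conjBy_cancel_inv] at this
    have hNfix : ∀ h ∈ compGroup G A, conjBy N h = N := by
      intro h hh
      ext x
      rw [mem_conjBy]
      constructor
      · intro hx
        have := hN h hh _ hx
        simpa [mul_assoc] using this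
      · intro hx
        have := hN h⁻¹ (inv_mem hh) x hx
        rwa [inv_inv] at this
    -- the normal unipotent subgroup
    let WW : Set (Subgroup (LinearMap.GeneralLinearGroup k M)) :=
      (fun C => N ⊓ Bh C) '' compSet G A
    set U := ⨆ X ∈ WW, X with hUdef
    have hWconj : ∀ C h, h ∈ compGroup G A →
        conjBy (N ⊓ Bh C) h = N ⊓ Bh (conjBy C h) := by
      intro C h hh
      rw [show conjBy (N ⊓ Bh C) h = conjBy N h ⊓ conjBy (Bh C) h from
        Subgroup.map_inf _ _ _ (MulAut.conj h).injective, hNfix h hh, hBconj C h hh]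
    have hUu : IsUnipotentOn U := by
      refine isUnipotentOn_iSup ?_ ?_
      · rintro _ ⟨C, hC, rfl⟩ _ ⟨C', hC', rfl⟩
        refine isUnipotentOn_sup (isUnipotentOn_mono inf_le_right (hBu C hC))
          (isUnipotentOn_mono inf_le_right (hBu C' hC')) fun x hx => ?_
        have hxN : x ∈ N := (inf_le_left : N ⊓ Bh C' ≤ N) hx
        rw [← conjBy_eq_self_iff]
        show conjBy (N ⊓ Bh C) x = N ⊓ Bh C
        rw [show conjBy (N ⊓ Bh C) x = conjBy N x ⊓ conjBy (Bh C) x from
          Subgroup.map_inf _ _ _ (MulAut.conj x).injective, conjBy_mem_self hxN, hBfix C x hxN]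
      · rintro _ ⟨C, hC, rfl⟩ _ ⟨C', hC', rfl⟩ x hx
        have hxH : x ∈ compGroup G A := hNle ((inf_le_left : N ⊓ Bh C' ≤ N) hx)
        exact ⟨conjBy C x, conj_mem_compSet h2 h3 hpure hxH hC, (hWconj C x hxH).symm⟩
    have hUN : U ≤ N := iSup₂_le fun X hX => by
      obtain ⟨C, -, rfl⟩ := hX; exact inf_le_left
    have hUH : ∀ h ∈ compGroup G A, conjBy U h ≤ U := by
      intro h hh
      refine Subgroup.map_le_iff_le_comap.mpr (iSup₂_le ?_)
      rintro _ ⟨C, hC, rfl⟩
      rw [← Subgroup.map_le_iff_le_comap]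
      show conjBy (N ⊓ Bh C) h ≤ U
      rw [hWconj C h hh]
      exact le_iSup₂ (f := fun (X : Subgroup (LinearMap.GeneralLinearGroup k M)) (_ : X ∈ WW) => X)
        (N ⊓ Bh (conjBy C h)) ⟨_, conj_mem_compSet h2 h3 hpure hh hC, rfl⟩
    have hUcore : coreGroup G ≤
        Subgroup.normalizer (U : Set (LinearMap.GeneralLinearGroup k M)) := by
      refine iSup₂_le fun B hB => ?_
      by_cases hc : Conn G A B
      · intro x hx
        have hxH : x ∈ compGroup G A := le_compGroup ⟨hB, hc⟩ hx
        rw [← conjBy_eq_self_iff]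
        refine le_antisymm (hUH x hxH) ?_
        have := conjBy_mono (hUH x⁻¹ (inv_mem hxH)) x
        rwa [conjBy_cancel_inv] at this
      · intro x hx
        have hc' : compGroup G B ≤ Subgroup.centralizer (compGroup G A : Set _) :=
          Subgroup.commutator_eq_bot_iff_le_centralizer.mp (by
            rw [Subgroup.commutator_comm]; exact compGroup_commute h2 h3 hpure hc)
        exact Subgroup.centralizer_le_normalizer _ (Subgroup.centralizer_le
          (SetLike.coe_subset_coe.mpr (hUN.trans hNle))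
          (hc' (le_compGroup (self_mem_compSet hB) hx)))
    have hU0 : U = ⊥ := eq_bot_of_normal_unipotent hpure
      ((hUN.trans hNle).trans compGroup_le_core) hUu
      fun g hg => conjBy_eq_self_iff.mpr (hUcore hg)
    intro n hn
    have hle : compGroup G A ≤ Subgroup.centralizer {n} := by
      refine iSup₂_le fun C hC u hu => ?_
      rw [Subgroup.mem_centralizer_singleton_iff]
      have h1 : n * u * n⁻¹ * u⁻¹ ∈ N := by
        rw [show n * u * n⁻¹ * u⁻¹ = n * (u * n⁻¹ * u⁻¹) by group]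
        exact mul_mem hn (hN u (le_compGroup hC hu) _ (inv_mem hn))
      have h2' : n * u * n⁻¹ * u⁻¹ ∈ Bh C := by
        refine mul_mem (hBhmem C n hn (conjBy_mem hu n)) (inv_mem (hBhmem C 1 (one_mem _) ?_))
        rw [conjBy_one]; exact hu
      have h3' : n * u * n⁻¹ * u⁻¹ ∈ U :=
        le_iSup₂ (f := fun (X : Subgroup (LinearMap.GeneralLinearGroup k M)) (_ : X ∈ WW) => X)
          (N ⊓ Bh C) ⟨C, hC, rfl⟩ ⟨h1, h2'⟩
      rw [hU0, Subgroup.mem_bot, mul_inv_eq_one, mul_inv_eq_iff_eq_mul] at h3'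
      exact h3'.symm
    rw [Subgroup.mem_centralizer_iff]
    intro h hh
    exact Subgroup.mem_centralizer_singleton_iff.mp (hle hh)

set_option maxHeartbeats 1000000 in
/-- The group of a component is quasisimple. -/
theorem compGroup_isQuasisimple (hA : A ∈ quadraticRootSubgroups G) :
    IsQuasisimple ↥(compGroup G A) := by
  set H := compGroup G A with hH
  have hperf : Group.IsPerfect H := ⟨by
    apply Subgroup.map_injective H.subtype_injective
    rw [Subgroup.map_subtype_commutator, ← MonoidHom.range_eq_map, Subgroup.range_subtype]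
    exact compGroup_perfect h2 h3 hpure⟩
  refine ⟨hperf, ?_⟩
  have hcne : Subgroup.center H ≠ ⊤ := by
    obtain ⟨D, hadj⟩ := exists_neighbour h2 h3 hpure hA
    obtain ⟨a, ha, hae⟩ := mem_quadraticRootSubgroups.mp hA
    obtain ⟨d, hd, rfl⟩ := mem_quadraticRootSubgroups.mp hadj.2.1
    have hopp := isOpp_of_rankOne h2 h3 ha hd hpure (hae ▸ hadj.2.2)
    intro htop
    have hu : oneAddUnit a ha.sq ∈ H :=
      le_compGroup (self_mem_compSet hA) (hae ▸ oneAddUnit_mem ha.self_mem _)
    have hv : oneAddUnit d hd.sq ∈ H :=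
      le_compGroup ⟨hd.mem_sigma, Relation.ReflTransGen.single hadj⟩ (oneAddUnit_mem hd.self_mem _)
    have hc := Subgroup.mem_center_iff.mp (htop ▸ Subgroup.mem_top (⟨_, hu⟩ : H)) ⟨_, hv⟩
    have h' := commute_ends (congrArg Subtype.val hc)
    simp only [coe_oneAddUnit, add_sub_cancel_left] at h'
    exact commute_of_opp h2 h3 ha hd hopp ha.self_mem ha.ne_zero hd.self_mem hd.ne_zero h'.symm
  haveI : Nontrivial (H ⧸ Subgroup.center H) := QuotientGroup.nontrivial_iff.mpr hcne
  refine ⟨fun K hK => ?_⟩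
  set K' := K.comap (QuotientGroup.mk' (Subgroup.center H)) with hK'
  have hK'n : K'.Normal := hK.comap _
  rcases normal_cases h2 h3 hpure hA (N := K'.map H.subtype) (by
      rintro _ ⟨x, -, rfl⟩; exact x.2) (by
      rintro h hh _ ⟨x, hx, rfl⟩
      exact ⟨⟨h, hh⟩ * x * ⟨h, hh⟩⁻¹, hK'n.conj_mem x hx _, rfl⟩) with h | h
  · right
    have : K' = ⊤ := by
      apply Subgroup.map_injective H.subtype_injective
      rw [h, ← MonoidHom.range_eq_map, Subgroup.range_subtype]
    rw [eq_top_iff]
    intro x _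
    obtain ⟨y, rfl⟩ := QuotientGroup.mk'_surjective _ x
    exact (this ▸ Subgroup.mem_top y : y ∈ K')
  · left
    rw [eq_bot_iff]
    intro x hx
    obtain ⟨y, rfl⟩ := QuotientGroup.mk'_surjective _ x
    rw [Subgroup.mem_bot, QuotientGroup.mk'_apply, QuotientGroup.eq_one_iff]
    rw [Subgroup.mem_center_iff]
    intro z
    exact Subtype.ext (Subgroup.mem_centralizer_iff.mp
      (h ⟨y, (hx : y ∈ K'), rfl⟩) z z.2)

end Cfsg.Agent.RootSub.Quad

namespace Cfsg.Agent.RootSub.Quad

open Cfsg

variable {k : Type*} [Field k] {M : Type*} [AddCommGroup M] [Module k M] [FiniteDimensional k M]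
variable {G : Subgroup (LinearMap.GeneralLinearGroup k M)}

/-- A finite system of representatives for the components. -/
theorem exists_representatives (h2 : (2 : k) ≠ 0) (h3 : Nat.card k ≠ 3) (hpure : NoUnipNormal G) :
    ∃ (r : ℕ) (A : Fin r → Subgroup (LinearMap.GeneralLinearGroup k M)),
      (∀ i, A i ∈ quadraticRootSubgroups G) ∧ (∀ i j, i ≠ j → ¬ Conn G (A i) (A j)) ∧
        ∀ B ∈ quadraticRootSubgroups G, ∃ i, Conn G (A i) B := by
  let := (finite_components h2 h3 hpure).fintype
  let e := (Fintype.equivFin ↥(compSet G '' quadraticRootSubgroups G)).symm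
  have hrep : ∀ i, ∃ A ∈ quadraticRootSubgroups G, (e i).1 = compSet G A := fun i => by
    obtain ⟨A, hA, hAe⟩ := (e i).2
    exact ⟨A, hA, hAe.symm⟩
  choose A hA hAe using hrep
  refine ⟨_, A, hA, fun i j hij hc => hij (e.injective (Subtype.ext ?_)), fun B hB => ?_⟩
  · rw [hAe i, hAe j, compSet_eq_of_conn hc]
  · refine ⟨e.symm ⟨compSet G B, B, hB, rfl⟩, ?_⟩
    have h := hAe (e.symm ⟨compSet G B, B, hB, rfl⟩)
    rw [Equiv.apply_symm_apply] at h
    exact ((Set.ext_iff.mp h.symm B).mpr (self_mem_compSet hB)).2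

end Cfsg.Agent.RootSub.Quad
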