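import Cfsg.Agent.RootSub.Quad.Scalar

/-!
# An opposite pair gives a special rank one group, its central involution, and a PSL₂ pair
-/

namespace Cfsg.Agent.RootSub.Quad

open Cfsg
open scoped MatrixGroups Pointwise IsMulCommutative

variable {k : Type*} [Field k] {M : Type*} [AddCommGroup M] [Module k M]
variable {G : Subgroup (LinearMap.GeneralLinearGroup k M)}

theorem conjBy_eq_self_of_mem {H : Type*} [Group H] {A : Subgroup H} {g : H} (hg : g ∈ A) :
    conjBy A g = A := conjBy_eq_self_iff.mpr (Subgroup.le_normalizer hg)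

/-- The Weyl element (1 + x)(1 - y)(1 + x). -/
theorem weyl_val {x y : Module.End k M} (hx : x * x = 0) (hxyx : x * y * x = x) :
    (1 + x) * (1 - y) * (1 + x) = 1 + x - y - x * y - y * x := by
  have h : (1 + x) * (1 - y) * (1 + x) =
      1 + x - y - x * y - y * x + x * x + (x - x * y * x) := by noncomm_ring
  rw [h, hx, hxyx, sub_self, add_zero, add_zero]

variable [FiniteDimensional k M] (h2 : (2 : k) ≠ 0) (h3 : Nat.card k ≠ 3)
variable {a b : Module.End k M} (ha : IsMin G a) (hb : IsMin G b) (hab : IsOpp a b)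

include h2 h3 ha hb hab

theorem exists_partner {x : Module.End k M} (hx : x ∈ rootSpace G a) (hx0 : x ≠ 0) :
    ∃ y ∈ rootSpace G b, y ≠ 0 ∧ x * y * x = x ∧ y * x * y = y := by
  have hxm := ha.isMin_of_mem hx hx0
  exact exists_inverse h2 h3 hxm hb (hab.of_mem h2 h3 ha hb hx hx0 hb.self_mem hb.ne_zero)

theorem isCompl_partner {x y : Module.End k M} (hx : x ∈ rootSpace G a) (hx0 : x ≠ 0)
    (hy : y ∈ rootSpace G b) (hy0 : y ≠ 0) :
    LinearMap.range x = LinearMap.range a ∧ LinearMap.ker x = LinearMap.ker a ∧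
      LinearMap.range y = LinearMap.range b ∧ LinearMap.ker y = LinearMap.ker b :=
  ⟨ha.range_eq hx hx0, ha.ker_eq hx hx0, hb.range_eq hy hy0, hb.ker_eq hy hy0⟩

omit h2 h3 hab in
/-- The Weyl element maps the root space of a to that of b. -/
theorem weyl_conj_space {x y : Module.End k M} (hx : x ∈ rootSpace G a) (hx0 : x ≠ 0)
    (hy : y ∈ rootSpace G b) (hy0 : y ≠ 0) (hxyx : x * y * x = x) (hyxy : y * x * y = y)
    {g : LinearMap.GeneralLinearGroup k M}
    (hg : (g : Module.End k M) = 1 + x - y - x * y - y * x) :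
    rootSpace G (conjEnd g a) = rootSpace G b := by
  have hx2 := mul_eq_zero_of_mem hx hx
  have hy2 := mul_eq_zero_of_mem hy hy
  have hgx : (g : Module.End k M) * x = -(y * x) := by
    rw [hg]
    calc (1 + x - y - x * y - y * x) * x
        = x + x * x - y * x - x * y * x - y * (x * x) := by noncomm_ring
      _ = -(y * x) := by rw [hx2, hxyx, mul_zero]; abel
  have hyg : y * (g : Module.End k M) = -(y * y) - y * (y * x) + (y + y * x - y * x * y) - y * x * 0 := by
    rw [hg]
    calc y * (1 + x - y - x * y - y * x)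
        = -(y * y) - y * (y * x) + (y + y * x - y * x * y) := by noncomm_ring
      _ = _ := by rw [mul_zero, sub_zero]
  rw [hy2, ← mul_assoc y y x, hy2, zero_mul, hyxy, mul_zero] at hyg
  simp only [neg_zero, sub_zero, zero_add, add_sub_cancel_left] at hyg
  refine rootSpace_congr ?_ ?_
  · rw [range_conjEnd, ← ha.range_eq hx hx0, ← LinearMap.range_comp, ← Module.End.mul_eq_comp, hgx,
      LinearMap.range_neg, ← hb.range_eq hy hy0]
    refine le_antisymm (LinearMap.range_comp_le_range _ _) ?_
    conv_lhs => rw [← hyxy]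
    rw [Module.End.mul_eq_comp]
    exact LinearMap.range_comp_le_range _ _
  · rw [ker_conjEnd, ← ha.ker_eq hx hx0, ← hb.ker_eq hy hy0]
    refine le_antisymm ?_ (fun m hm => ?_)
    · rintro _ ⟨m, hm, rfl⟩
      have hyx : (y * x) m = 0 := by rw [Module.End.mul_apply, LinearMap.mem_ker.mp hm, map_zero]
      rw [LinearMap.mem_ker, ← Module.End.mul_apply, hyg, hyx]
    · have hinj := unit_injective g
      obtain ⟨z, rfl⟩ := LinearMap.surjective_of_injective hinj m
      refine ⟨z, ?_, rfl⟩
      rw [LinearMap.mem_ker, ← Module.End.mul_apply, hyg] at hm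
      have : (x * y * x) z = 0 := by rw [mul_assoc, Module.End.mul_apply, hm, map_zero]
      rwa [hxyx] at this

theorem rootGroup_conj_eq {x y : Module.End k M} (hx : x ∈ rootSpace G a) (hx0 : x ≠ 0)
    (hy : y ∈ rootSpace G b) (hy0 : y ≠ 0) (hxyx : x * y * x = x) (hyxy : y * x * y = y)
    {u v : LinearMap.GeneralLinearGroup k M} (hu : (u : Module.End k M) = 1 + x)
    (hv : (v : Module.End k M) = 1 + y) :
    conjBy (rootGroup G a) v⁻¹ = conjBy (rootGroup G b) u⁻¹ := by
  have hum : u ∈ rootGroup G a := by rw [mem_rootGroup, hu, add_sub_cancel_left]; exact hx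
  have hvm : v ∈ rootGroup G b := by rw [mem_rootGroup, hv, add_sub_cancel_left]; exact hy
  have huG := rootGroup_le hum
  have hvG := rootGroup_le hvm
  have hvi : ((v⁻¹ : LinearMap.GeneralLinearGroup k M) : Module.End k M) = 1 - y := by
    have h := inv_sub_one (u := v) (by rw [hv, add_sub_cancel_left]; exact mul_eq_zero_of_mem hy hy)
    rw [hv, add_sub_cancel_left, sub_eq_iff_eq_add] at h
    rw [h]; abel
  set g := u * v⁻¹ * u with hg
  have hgG : g ∈ G := mul_mem (mul_mem huG (inv_mem hvG)) huG
  have hge : (g : Module.End k M) = 1 + x - y - x * y - y * x := by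
    rw [hg, Units.val_mul, Units.val_mul, hu, hvi, weyl_val (mul_eq_zero_of_mem hx hx) hxyx]
  have hgA : conjBy (rootGroup G a) g = rootGroup G b := by
    rw [conjBy_rootGroup hgG]
    exact rootGroup_congr (weyl_conj_space ha hb hx hx0 hy hy0 hxyx hyxy hge)
  rw [← hgA, conjBy_conjBy]
  rw [show u⁻¹ * g = v⁻¹ * u by rw [hg]; group, ← conjBy_conjBy,
    conjBy_eq_self_of_mem hum]

/-- Uniqueness of the conjugating element. -/
theorem eq_of_conj_eq {v v' : LinearMap.GeneralLinearGroup k M}
    (hv : v ∈ rootGroup G b) (hv' : v' ∈ rootGroup G b)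
    (h : conjBy (rootGroup G a) v = conjBy (rootGroup G a) v') : v = v' := by
  have h1 : conjBy (rootGroup G a) (v'⁻¹ * v) = rootGroup G a := by
    rw [← conjBy_conjBy, h, conjBy_conjBy, inv_mul_cancel]
    exact conjBy_eq_self_of_mem (one_mem _)
  set w := v'⁻¹ * v with hw
  have hwm : w ∈ rootGroup G b := mul_mem (inv_mem hv') hv
  set z := (w : Module.End k M) - 1 with hz
  have hzb : z ∈ rootSpace G b := hwm
  rw [conjBy_rootGroup (rootGroup_le hwm)] at h1
  have hsp := rootSpace_eq_of_rootGroup h1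
  by_contra hne
  have hz0 : z ≠ 0 := fun h0 => hne (by
    have : w = 1 := Units.ext (sub_eq_zero.mp h0)
    exact (inv_mul_eq_one.mp this).symm)
  -- w moves the range of a
  have hrange : (LinearMap.range a).map (w : Module.End k M) = LinearMap.range a := by
    rw [← range_conjEnd]
    have hcm := ha.conj (rootGroup_le hwm)
    exact ha.range_eq (hsp ▸ hcm.self_mem) hcm.ne_zero
  have hzopp : IsOpp a z := hab.of_mem h2 h3 ha hb ha.self_mem ha.ne_zero hzb hz0
  have hzm := hb.isMin_of_mem hzb hz0
  have hle : LinearMap.range z ≤ LinearMap.range a := by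
    rw [← hzopp.map_b_range h2 h3 ha hzm]
    rintro _ ⟨r, hr, rfl⟩
    rw [hz, LinearMap.sub_apply, Module.End.one_apply]
    exact sub_mem (hrange.le ⟨r, hr, rfl⟩) hr
  have := hzopp.inf_eq_bot h2 h3 ha hzm
  have h0 : LinearMap.range z = ⊥ :=
    eq_bot_iff.mpr ((le_inf hle hzm.toIsQuad.range_le_ker).trans this.le)
  exact hz0 (LinearMap.range_eq_bot.mp h0)

omit h2 h3 hab in
/-- The special identity (1-y)(1+x)(1+y) = (1-x)(1-y)(1+x). -/
theorem special_identity {x y : Module.End k M} (hx : x * x = 0) (hy : y * y = 0)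
    (hxyx : x * y * x = x) (hyxy : y * x * y = y) :
    (1 - y) * (1 + x) * (1 + y) = (1 - x) * (1 - y) * (1 + x) := by
  have e1 : (1 - y) * (1 + x) * (1 + y) = 1 + x + x * y - y * x - y * y - y * x * y := by
    noncomm_ring
  have e2 : (1 - x) * (1 - y) * (1 + x) = 1 - y + x * y - y * x - x * x + x * y * x := by
    noncomm_ring
  rw [e1, e2, hx, hy, hxyx, hyxy]
  abel

theorem isSpecialRankOnePair : IsSpecialRankOnePair (rootGroup G a) (rootGroup G b) := by
  have hne : rootGroup G a ≠ rootGroup G b := by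
    intro h
    have hb' : b ∈ rootSpace G a := rootSpace_eq_of_rootGroup h ▸ hb.self_mem
    exact hab ⟨1, by rw [pow_one, mul_eq_zero_of_mem ha.self_mem hb']⟩
  haveI := rootGroup_comm (G := G) a
  haveI := rootGroup_comm (G := G) b
  have cond : ∀ {p q : Module.End k M}, IsMin G p → IsMin G q → IsOpp p q →
      RankOneCondition (rootGroup G p) (rootGroup G q) := by
    intro p q hp hq hpq u hu hu1
    obtain ⟨hx, hx0⟩ := exists_quadratic_ne_one_rep hu hu1
    obtain ⟨y, hy, hy0, h1, h2'⟩ := exists_partner h2 h3 hp hq hpq hx hx0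
    refine ⟨oneAddUnit y (mul_eq_zero_of_mem hy hy), oneAddUnit_mem hy _, fun h => hy0 ?_,
      rootGroup_conj_eq h2 h3 hp hq hpq hx hx0 hy hy0 h1 h2' (by abel) rfl⟩
    have h' := congrArg Units.val h
    rw [coe_oneAddUnit, Units.val_one, add_eq_left] at h'
    exact h'
  refine ⟨⟨hne, inferInstance, inferInstance, cond ha hb hab, cond hb ha hab.symm⟩, ?_⟩
  intro u hu hu1 v hv hv1 heq
  obtain ⟨hx, hx0⟩ := exists_quadratic_ne_one_rep hu hu1
  obtain ⟨y, hy, hy0, h1, h2'⟩ := exists_partner h2 h3 ha hb hab hx hx0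
  set w := oneAddUnit y (mul_eq_zero_of_mem hy hy) with hwdef
  have hw : (w : Module.End k M) = 1 + y := rfl
  have heq' := rootGroup_conj_eq h2 h3 ha hb hab hx hx0 hy hy0 h1 h2' (u := u) (v := w) (by abel) hw
  have hvw : v = w := inv_injective (eq_of_conj_eq h2 h3 ha hb hab (inv_mem hv)
    (inv_mem (oneAddUnit_mem hy _)) (heq.trans heq'.symm))
  have hx2 := mul_eq_zero_of_mem hx hx
  have hy2 := mul_eq_zero_of_mem hy hy
  have hui : ((u⁻¹ : LinearMap.GeneralLinearGroup k M) : Module.End k M) =
      1 - ((u : Module.End k M) - 1) := by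
    have h := inv_sub_one (u := u) hx2
    rw [sub_eq_iff_eq_add] at h
    rw [h]; abel
  subst hvw
  apply Units.ext
  simp only [Units.val_mul]
  rw [hui, hwdef, coe_oneAddUnit_inv, coe_oneAddUnit,
    show (u : Module.End k M) = 1 + ((u : Module.End k M) - 1) by abel]
  simp only [add_sub_cancel_left]
  exact special_identity ha hb hx2 hy2 h1 h2'

/-- A Weyl element of the pair. -/
theorem exists_conj_opposite : ∃ g ∈ G, conjBy (rootGroup G a) g = rootGroup G b := by
  obtain ⟨y, hy, hy0, h1, h2'⟩ := exists_partner h2 h3 ha hb hab ha.self_mem ha.ne_zero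
  have hu := ha.toIsQuad.unit_mem
  have hv : oneAddUnit y (mul_eq_zero_of_mem hy hy) ∈ G := rootGroup_le (oneAddUnit_mem hy _)
  refine ⟨oneAddUnit a ha.sq * (oneAddUnit y (mul_eq_zero_of_mem hy hy))⁻¹ * oneAddUnit a ha.sq,
    mul_mem (mul_mem hu (inv_mem hv)) hu, ?_⟩
  rw [conjBy_rootGroup (mul_mem (mul_mem hu (inv_mem hv)) hu)]
  refine rootGroup_congr (weyl_conj_space ha hb ha.self_mem ha.ne_zero hy hy0 h1 h2' ?_)
  rw [Units.val_mul, Units.val_mul, coe_oneAddUnit, coe_oneAddUnit_inv, weyl_val ha.sq h1]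

omit h2 h3 hab in
theorem finrank_rootSpace_conj {u : LinearMap.GeneralLinearGroup k M} (hu : u ∈ G) :
    Module.finrank k (rootSpace G a) ≤ Module.finrank k (rootSpace G (conjEnd u a)) := by
  let f : rootSpace G a →ₗ[k] rootSpace G (conjEnd u a) :=
    { toFun := fun x => ⟨conjEnd u x.1, conjEnd_mem hu x.2⟩
      map_add' := fun x y => Subtype.ext (show conjEnd u (x.1 + y.1) = conjEnd u x.1 + conjEnd u y.1 by simp [conjEnd, mul_add, add_mul])
      map_smul' := fun c x => Subtype.ext (show conjEnd u (c • x.1) = c • conjEnd u x.1 by simp [conjEnd]) }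
  refine LinearMap.finrank_le_finrank_of_injective (f := f) fun x y h => ?_
  have h' := congrArg (fun z => conjEnd u⁻¹ z) (congrArg Subtype.val h)
  simp only [f, LinearMap.coe_mk, AddHom.coe_mk, conjEnd_conjEnd, inv_mul_cancel, conjEnd_one] at h'
  exact Subtype.ext h'

omit h2 h3 hab in
theorem commutatorSubmodule_sup :
    commutatorSubmodule (rootGroup G a ⊔ rootGroup G b) = LinearMap.range a ⊔ LinearMap.range b := by
  refine le_antisymm (iSup₂_le fun x hx => ?_) (sup_le ?_ ?_)
  · have hle : rootGroup G a ⊔ rootGroup G b ≤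
        ({ carrier := {u | LinearMap.range ((u : Module.End k M) - 1) ≤
              LinearMap.range a ⊔ LinearMap.range b}
           one_mem' := by simp
           mul_mem' := by
            intro u v hu hv
            show LinearMap.range (((u * v : LinearMap.GeneralLinearGroup k M) : Module.End k M) - 1) ≤ _
            rw [Units.val_mul, show (u : Module.End k M) * v - 1 =
              ((u : Module.End k M) - 1) * v + ((v : Module.End k M) - 1) by noncomm_ring]
            exact (LinearMap.range_add_le _ _).trans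
              (sup_le ((LinearMap.range_comp_le_range _ _).trans hu) hv)
           inv_mem' := by
            intro u hu
            show LinearMap.range (((u⁻¹ : LinearMap.GeneralLinearGroup k M) : Module.End k M) - 1) ≤ _
            rw [show ((u⁻¹ : LinearMap.GeneralLinearGroup k M) : Module.End k M) - 1 =
              -(((u : Module.End k M) - 1) * ((u⁻¹ : LinearMap.GeneralLinearGroup k M) : Module.End k M))
              by rw [sub_mul, Units.mul_inv, one_mul]; abel, LinearMap.range_neg]
            exact (LinearMap.range_comp_le_range _ _).trans hu } :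
          Subgroup (LinearMap.GeneralLinearGroup k M)) := by
      refine sup_le (fun u hu => ?_) (fun u hu => ?_)
      · exact ((mem_rootSpace ha.sq).mp hu).1.trans le_sup_left
      · exact ((mem_rootSpace hb.sq).mp hu).1.trans le_sup_right
    exact hle hx
  · refine le_trans ?_ (le_iSup₂ (f := fun (g : LinearMap.GeneralLinearGroup k M) (_ : g ∈ rootGroup G a ⊔ rootGroup G b) =>
      LinearMap.range ((g : Module.End k M) - 1))
      (oneAddUnit a ha.sq) (Subgroup.mem_sup_left (oneAddUnit_mem ha.self_mem _)))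
    rw [coe_oneAddUnit, add_sub_cancel_left]
  · refine le_trans ?_ (le_iSup₂ (f := fun (g : LinearMap.GeneralLinearGroup k M) (_ : g ∈ rootGroup G a ⊔ rootGroup G b) =>
      LinearMap.range ((g : Module.End k M) - 1))
      (oneAddUnit b hb.sq) (Subgroup.mem_sup_right (oneAddUnit_mem hb.self_mem _)))
    rw [coe_oneAddUnit, add_sub_cancel_left]

omit h2 h3 hab in
theorem fixedSubmodule_sup :
    fixedSubmodule (rootGroup G a ⊔ rootGroup G b) = LinearMap.ker a ⊓ LinearMap.ker b := by
  refine le_antisymm (le_inf ?_ ?_) (le_iInf₂ fun x hx m hm => ?_)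
  · refine le_trans (iInf₂_le (f := fun (g : LinearMap.GeneralLinearGroup k M) (_ : g ∈ rootGroup G a ⊔ rootGroup G b) =>
      LinearMap.ker ((g : Module.End k M) - 1))
      (oneAddUnit a ha.sq) (Subgroup.mem_sup_left (oneAddUnit_mem ha.self_mem _))) ?_
    rw [coe_oneAddUnit, add_sub_cancel_left]
  · refine le_trans (iInf₂_le (f := fun (g : LinearMap.GeneralLinearGroup k M) (_ : g ∈ rootGroup G a ⊔ rootGroup G b) =>
      LinearMap.ker ((g : Module.End k M) - 1))
      (oneAddUnit b hb.sq) (Subgroup.mem_sup_right (oneAddUnit_mem hb.self_mem _))) ?_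
    rw [coe_oneAddUnit, add_sub_cancel_left]
  · have hle : rootGroup G a ⊔ rootGroup G b ≤
        ({ carrier := {u | (u : Module.End k M) m = m}
           one_mem' := rfl
           mul_mem' := by
            intro u v hu hv
            show ((u * v : LinearMap.GeneralLinearGroup k M) : Module.End k M) m = m
            rw [Units.val_mul, Module.End.mul_apply, show (v : Module.End k M) m = m from hv]
            exact hu
           inv_mem' := by
            intro u hu
            show ((u⁻¹ : LinearMap.GeneralLinearGroup k M) : Module.End k M) m = m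
            conv_lhs => rw [← show (u : Module.End k M) m = m from hu]
            rw [← Module.End.mul_apply, Units.inv_mul]
            rfl } : Subgroup (LinearMap.GeneralLinearGroup k M)) := by
      refine sup_le (fun u hu => ?_) (fun u hu => ?_)
      · exact sub_eq_zero.mp (((mem_rootSpace ha.sq).mp hu).2.1 hm.1)
      · exact sub_eq_zero.mp (((mem_rootSpace hb.sq).mp hu).2.1 hm.2)
    show ((x : Module.End k M) - 1) m = 0
    rw [LinearMap.sub_apply, show (x : Module.End k M) m = m from hle hx, Module.End.one_apply,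
      sub_self]

/-- The idempotent with range R_a + R_b and kernel C_a ∩ C_b, and the central involution. -/
theorem exists_projection :
    ∃ (s : Module.End k M) (i : LinearMap.GeneralLinearGroup k M),
      (∀ z ∈ rootSpace G a, s * z = z ∧ z * s = z) ∧ (∀ z ∈ rootSpace G b, s * z = z ∧ z * s = z) ∧
      s * s = s ∧ LinearMap.range s ≤ LinearMap.range a ⊔ LinearMap.range b ∧
      (∀ m, a m = 0 → b m = 0 → s m = 0) ∧
      i ∈ rootGroup G a ⊔ rootGroup G b ∧ (i : Module.End k M) = 1 - s - s := by
  obtain ⟨y, hy, hy0, h1, h2'⟩ := exists_partner h2 h3 ha hb hab ha.self_mem ha.ne_zero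
  have hy2 := mul_eq_zero_of_mem hy hy
  have hry := hb.range_eq hy hy0
  have hky := hb.ker_eq hy hy0
  set e := a * y with he
  set f := y * a with hf
  have hee : e * e = e := by rw [he, ← mul_assoc, h1]
  have hff : f * f = f := by rw [hf, ← mul_assoc, h2']
  have hef : e * f = 0 := by rw [he, hf, mul_assoc, ← mul_assoc y y, hy2, zero_mul, mul_zero]
  have hfe : f * e = 0 := by rw [he, hf, mul_assoc, ← mul_assoc a a, ha.sq, zero_mul, mul_zero]
  set s := e + f with hs
  set u := oneAddUnit a ha.sq
  set v := oneAddUnit y hy2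
  set g := u * v⁻¹ * u
  have hum : u ∈ rootGroup G a := oneAddUnit_mem ha.self_mem _
  have hvm : v ∈ rootGroup G b := oneAddUnit_mem hy _
  have hge : (g : Module.End k M) = 1 + a - y - e - f := by
    rw [Units.val_mul, Units.val_mul, coe_oneAddUnit, coe_oneAddUnit_inv, weyl_val ha.sq h1]
  refine ⟨s, g * g, ?_, ?_, ?_, ?_, ?_, ?_, ?_⟩
  · intro z hz
    have k1 : (1 - e) * z = 0 := by
      refine LinearMap.range_le_ker_iff.mp (((mem_rootSpace ha.sq).mp hz).1.trans ?_)
      refine LinearMap.range_le_ker_iff.mpr ?_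
      rw [← Module.End.mul_eq_comp, sub_mul, one_mul, he, h1, sub_self]
    have k2 : z * (1 - f) = 0 := by
      refine LinearMap.range_le_ker_iff.mp (le_trans ?_ ((mem_rootSpace ha.sq).mp hz).2.1)
      refine LinearMap.range_le_ker_iff.mpr ?_
      rw [← Module.End.mul_eq_comp, mul_sub, mul_one, hf, ← mul_assoc, h1, sub_self]
    have k3 : f * z = 0 := by rw [hf, mul_assoc, mul_eq_zero_of_mem ha.self_mem hz, mul_zero]
    have k4 : z * e = 0 := by rw [he, ← mul_assoc, mul_eq_zero_of_mem hz ha.self_mem, zero_mul]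
    rw [sub_mul, one_mul, sub_eq_zero] at k1
    rw [mul_sub, mul_one, sub_eq_zero] at k2
    exact ⟨by rw [hs, add_mul, k3, add_zero, ← k1], by rw [hs, mul_add, k4, zero_add, ← k2]⟩
  · intro z hz
    have k1 : (1 - f) * z = 0 := by
      refine LinearMap.range_le_ker_iff.mp (((mem_rootSpace hb.sq).mp hz).1.trans ?_)
      rw [← hry]
      refine LinearMap.range_le_ker_iff.mpr ?_
      rw [← Module.End.mul_eq_comp, sub_mul, one_mul, hf, h2', sub_self]
    have k2 : z * (1 - e) = 0 := by
      refine LinearMap.range_le_ker_iff.mp (le_trans ?_ ((mem_rootSpace hb.sq).mp hz).2.1)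
      rw [← hky]
      refine LinearMap.range_le_ker_iff.mpr ?_
      rw [← Module.End.mul_eq_comp, mul_sub, mul_one, he, ← mul_assoc, h2', sub_self]
    have k3 : e * z = 0 := by rw [he, mul_assoc, mul_eq_zero_of_mem hy hz, mul_zero]
    have k4 : z * f = 0 := by rw [hf, ← mul_assoc, mul_eq_zero_of_mem hz hy, zero_mul]
    rw [sub_mul, one_mul, sub_eq_zero] at k1
    rw [mul_sub, mul_one, sub_eq_zero] at k2
    exact ⟨by rw [hs, add_mul, k3, zero_add, ← k1], by rw [hs, mul_add, k4, add_zero, ← k2]⟩
  · rw [hs, add_mul, mul_add, mul_add, hee, hef, hfe, hff, add_zero, zero_add]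
  · refine (LinearMap.range_add_le e f).trans (sup_le_sup (LinearMap.range_comp_le_range _ _) ?_)
    rw [← hry]
    exact LinearMap.range_comp_le_range _ _
  · intro m hm1 hm2
    have hym : y m = 0 := LinearMap.mem_ker.mp (hky ▸ LinearMap.mem_ker.mpr hm2)
    rw [hs, LinearMap.add_apply, he, hf, Module.End.mul_apply, Module.End.mul_apply, hym, hm1,
      map_zero, map_zero, add_zero]
  · have hg : g ∈ rootGroup G a ⊔ rootGroup G b := mul_mem (mul_mem (Subgroup.mem_sup_left hum)
      (inv_mem (Subgroup.mem_sup_right hvm))) (Subgroup.mem_sup_left hum)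
    exact mul_mem hg hg
  · rw [Units.val_mul, hge]
    have : (1 + a - y - e - f) * (1 + a - y - e - f) = 1 + (a + a) - (y + y) - (e + e) - (f + f) +
        a * a + y * y + e * e + f * f - (a * y + y * a) - (a * e + e * a) - (a * f + f * a) +
        (y * e + e * y) + (y * f + f * y) + (e * f + f * e) := by noncomm_ring
    rw [this, ha.sq, hy2, hee, hff, hef, hfe, show a * e = 0 by rw [he, ← mul_assoc, ha.sq, zero_mul],
      show e * a = a by rw [he, h1], show a * f = a by rw [hf, ← mul_assoc, h1],
      show f * a = 0 by rw [hf, mul_assoc, ha.sq, mul_zero],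
      show y * e = y by rw [he, ← mul_assoc, h2'],
      show e * y = 0 by rw [he, mul_assoc, hy2, mul_zero],
      show y * f = 0 by rw [hf, ← mul_assoc, hy2, zero_mul],
      show f * y = y by rw [hf, h2'], hs, ← he, ← hf]
    abel

theorem isCompl_fixed_commutator :
    IsCompl (fixedSubmodule (rootGroup G a ⊔ rootGroup G b))
      (commutatorSubmodule (rootGroup G a ⊔ rootGroup G b)) := by
  obtain ⟨s, i, hA, hB, hss, hr, hk, -, -⟩ := exists_projection h2 h3 ha hb hab
  rw [fixedSubmodule_sup ha hb, commutatorSubmodule_sup ha hb]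
  have hfixR : ∀ m ∈ LinearMap.range a ⊔ LinearMap.range b, s m = m := by
    intro m hm
    obtain ⟨_, ⟨p, rfl⟩, _, ⟨q, rfl⟩, rfl⟩ := Submodule.mem_sup.mp hm
    rw [map_add, ← Module.End.mul_apply, (hA a ha.self_mem).1, ← Module.End.mul_apply,
      (hB b hb.self_mem).1]
  refine ⟨disjoint_iff.mpr (eq_bot_iff.mpr fun m hm => ?_),
    codisjoint_iff.mpr (eq_top_iff.mpr fun m _ => ?_)⟩
  · rw [Submodule.mem_bot, ← hfixR m hm.2]
    exact hk m hm.1.1 hm.1.2
  · have h1 : m - s m ∈ LinearMap.ker a ⊓ LinearMap.ker b :=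
      ⟨by rw [SetLike.mem_coe, LinearMap.mem_ker, map_sub, ← Module.End.mul_apply,
        (hA a ha.self_mem).2, sub_self],
       by rw [SetLike.mem_coe, LinearMap.mem_ker, map_sub, ← Module.End.mul_apply,
        (hB b hb.self_mem).2, sub_self]⟩
    have := Submodule.add_mem_sup h1 (hr ⟨m, rfl⟩)
    rwa [sub_add_cancel] at this

/-- The central involution of the rank one group. -/
theorem involution :
    ∃! i : LinearMap.GeneralLinearGroup k M, i ∈ rootGroup G a ⊔ rootGroup G b ∧ i ≠ 1 ∧ i * i = 1 ∧
      (∀ x ∈ rootGroup G a ⊔ rootGroup G b, i * x = x * i) ∧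
      (∀ m ∈ commutatorSubmodule (rootGroup G a ⊔ rootGroup G b), (i : M →ₗ[k] M) m = -m) ∧
      (∀ m ∈ fixedSubmodule (rootGroup G a ⊔ rootGroup G b), (i : M →ₗ[k] M) m = m) := by
  obtain ⟨s, i, hA, hB, hss, hr, hk, hi, hie⟩ := exists_projection h2 h3 ha hb hab
  have hcompl := isCompl_fixed_commutator h2 h3 ha hb hab
  have hneg : ∀ m ∈ commutatorSubmodule (rootGroup G a ⊔ rootGroup G b),
      (i : M →ₗ[k] M) m = -m := by
    intro m hm
    rw [commutatorSubmodule_sup ha hb] at hm
    obtain ⟨_, ⟨p, rfl⟩, _, ⟨q, rfl⟩, rfl⟩ := Submodule.mem_sup.mp hm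
    have h : s (a p + b q) = a p + b q := by
      rw [map_add, ← Module.End.mul_apply, (hA a ha.self_mem).1, ← Module.End.mul_apply,
        (hB b hb.self_mem).1]
    show (i : Module.End k M) _ = _
    rw [hie, LinearMap.sub_apply, LinearMap.sub_apply, Module.End.one_apply, h]
    abel
  have hfix : ∀ m ∈ fixedSubmodule (rootGroup G a ⊔ rootGroup G b),
      (i : M →ₗ[k] M) m = m := by
    intro m hm
    rw [fixedSubmodule_sup ha hb] at hm
    show (i : Module.End k M) _ = _
    rw [hie, LinearMap.sub_apply, LinearMap.sub_apply, Module.End.one_apply, hk m hm.1 hm.2,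
      sub_zero, sub_zero]
  refine ⟨i, ⟨hi, ?_, ?_, ?_, hneg, hfix⟩, ?_⟩
  · intro h
    have e : ((i : Module.End k M) * a) = a := by rw [h, Units.val_one, one_mul]
    rw [hie, sub_mul, sub_mul, one_mul, (hA a ha.self_mem).1, sub_self, zero_sub] at e
    have h2a : (2 : k) • a = 0 := by rw [two_smul]; nth_rewrite 1 [← e]; rw [neg_add_cancel]
    exact ha.ne_zero ((smul_eq_zero.mp h2a).resolve_left h2)
  · apply Units.ext
    rw [Units.val_mul, hie, Units.val_one]
    have : (1 - s - s) * (1 - s - s) = 1 + ((s * s - s) + (s * s - s)) + ((s * s - s) + (s * s - s)) := by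
      noncomm_ring
    rw [this, hss, sub_self, add_zero, add_zero, add_zero]
  · intro x hx
    have hle : rootGroup G a ⊔ rootGroup G b ≤ Subgroup.centralizer {i} := by
      refine sup_le (fun u hu => ?_) (fun u hu => ?_) <;>
        rw [Subgroup.mem_centralizer_singleton_iff] <;> apply Units.ext <;>
        rw [Units.val_mul, Units.val_mul, hie]
      · obtain ⟨e1, e2⟩ := hA _ hu
        simp only [sub_mul, mul_sub, one_mul, mul_one] at e1 e2 ⊢
        rw [sub_eq_iff_eq_add] at e1 e2
        rw [e1, e2]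
      · obtain ⟨e1, e2⟩ := hB _ hu
        simp only [sub_mul, mul_sub, one_mul, mul_one] at e1 e2 ⊢
        rw [sub_eq_iff_eq_add] at e1 e2
        rw [e1, e2]
    exact (Subgroup.mem_centralizer_singleton_iff.mp (hle hx)).symm
  · rintro j ⟨-, -, -, -, hjneg, hjfix⟩
    apply Units.ext
    refine LinearMap.ext fun m => ?_
    obtain ⟨p, hp, q, hq, rfl⟩ := Submodule.mem_sup.mp
      (hcompl.sup_eq_top ▸ Submodule.mem_top : m ∈ _)
    rw [map_add, map_add, show (j : Module.End k M) p = p from hjfix p hp,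
      show (j : Module.End k M) q = -q from hjneg q hq,
      show (i : Module.End k M) p = p from hfix p hp,
      show (i : Module.End k M) q = -q from hneg q hq]

open Polynomial Dickson in
/-- Inside an opposite pair there is an image of SL₂(k[T]). -/
theorem exists_psl2 :
    letI := (hab.field h2 h3 ha hb).toField
    ∃ A₀ B₀ : Subgroup (LinearMap.GeneralLinearGroup k M), A₀ ≤ rootGroup G a ∧ B₀ ≤ rootGroup G b ∧
      3 < ENat.card (k[X] ⧸ stabIdeal a b) ∧ IsPSL2PairOver (k[X] ⧸ stabIdeal a b) A₀ B₀ := by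
  letI := (hab.field h2 h3 ha hb).toField
  set φ := oppHom h2 h3 ha hb hab
  refine ⟨(upperUnipotentSL2 _).map φ, (lowerUnipotentSL2 _).map φ, ?_, ?_, ?_, φ, ?_, ?_, rfl, rfl⟩
  · rintro _ ⟨g, hg, rfl⟩
    obtain ⟨t, rfl⟩ := SL2.mem_upper.mp hg
    obtain ⟨f, rfl⟩ := Ideal.Quotient.mk_surjective t
    rw [mem_rootGroup, show SL2.up (Ideal.Quotient.mk (stabIdeal a b) f) =
      upR (Ideal.Quotient.mk (stabIdeal a b) f) from rfl, oppHom_upR, add_sub_cancel_left]
    exact termA_mem h2 h3 ha hb hab f
  · rintro _ ⟨g, hg, rfl⟩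
    obtain ⟨t, rfl⟩ := SL2.mem_lower.mp hg
    obtain ⟨f, hf⟩ := Ideal.Quotient.mk_surjective
      (t * (isUnit_X_resid h2 h3 ha hb hab).unit⁻¹.val)
    have ht : t = Ideal.Quotient.mk (stabIdeal a b) (f * X) := by
      rw [map_mul, hf, mul_assoc, IsUnit.val_inv_mul, mul_one]
    rw [mem_rootGroup, show SL2.low t = lowR t from rfl, ht, oppHom_lowR, add_sub_cancel_left]
    exact termB_mem h2 h3 ha hb hab f
  · have hinj : Function.Injective (algebraMap k (k[X] ⧸ stabIdeal a b)) := RingHom.injective _
    rcases finite_or_infinite (k[X] ⧸ stabIdeal a b) with hK | hK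
    · haveI : Finite k := Finite.of_injective _ hinj
      have h5 := five_le_card h2 h3
      have hle := h5.trans (Nat.card_le_card_of_injective _ hinj)
      rw [ENat.card_eq_coe_natCard]
      exact_mod_cast (show 3 < Nat.card (k[X] ⧸ stabIdeal a b) by omega)
    · rw [ENat.card_eq_top_of_infinite]
      exact ENat.coe_lt_top 3
  · rw [MonoidHom.range_eq_map, ← Subgroup.map_sup, sup_comm, SL2.sup_eq_top]
  · rw [(MonoidHom.ker_eq_bot_iff φ).mpr (oppHom_injective h2 h3 ha hb hab)]
    exact bot_le

end Cfsg.Agent.RootSub.Quad
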