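import Cfsg.Agent.RootSub.Quad.Pairs

/-!
# The group generated by two scalar families
-/

namespace Cfsg.Agent.RootSub.Quad

open Cfsg Polynomial Dickson
open scoped MatrixGroups

variable {k : Type*} [Field k] {M : Type*} [AddCommGroup M] [Module k M]
variable {G : Subgroup (LinearMap.GeneralLinearGroup k M)}

theorem closure_families_eq_range {σ τ : LinearMap.GeneralLinearGroup k M}
    (hσ : IsQuad G ((σ : Module.End k M) - 1)) (hτ : IsQuad G ((τ : Module.End k M) - 1)) :
    Subgroup.closure (scalarFamily σ ∪ scalarFamily τ) = (wordHom (k := k) hσ.sq hτ.sq).range := by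
  refine le_antisymm ((Subgroup.closure_le _).mpr ?_) ?_
  · rintro g (⟨c, hc⟩ | ⟨c, hc⟩)
    · exact ⟨⟨_, upR_mem k (X : k[X]) c⟩, Units.ext ((wordHom_up hσ.sq hτ.sq c).trans hc.symm)⟩
    · exact ⟨⟨_, lowR_mem k (X : k[X]) c⟩, Units.ext ((wordHom_low hσ.sq hτ.sq c).trans hc.symm)⟩
  · rintro _ ⟨⟨W, hW⟩, rfl⟩
    induction hW using Subgroup.closure_induction with
    | mem g hg =>
      rcases hg with ⟨t, rfl⟩ | ⟨t, rfl⟩
      · exact Subgroup.subset_closure (Or.inl ⟨t, wordHom_up hσ.sq hτ.sq t⟩)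
      · exact Subgroup.subset_closure (Or.inr ⟨t, wordHom_low hσ.sq hτ.sq t⟩)
    | one =>
      have : (⟨1, one_mem _⟩ : wordGroup k) = 1 := rfl
      rw [this, map_one]; exact one_mem _
    | mul x y hx hy ihx ihy =>
      have : (⟨x * y, mul_mem hx hy⟩ : wordGroup k) = ⟨x, hx⟩ * ⟨y, hy⟩ := rfl
      rw [this, map_mul]; exact mul_mem ihx ihy
    | inv x hx ihx =>
      have : (⟨x⁻¹, inv_mem hx⟩ : wordGroup k) = ⟨x, hx⟩⁻¹ := rfl
      rw [this, map_inv]; exact inv_mem ihx

theorem closure_families_le {σ τ : LinearMap.GeneralLinearGroup k M} {a b : Module.End k M}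
    (ha : (σ : Module.End k M) - 1 ∈ rootSpace G a) (hb : (τ : Module.End k M) - 1 ∈ rootSpace G b) :
    Subgroup.closure (scalarFamily σ ∪ scalarFamily τ) ≤ rootGroup G a ⊔ rootGroup G b := by
  refine (Subgroup.closure_le _).mpr ?_
  rintro g (⟨c, hc⟩ | ⟨c, hc⟩)
  · refine Subgroup.mem_sup_left ?_
    rw [mem_rootGroup, hc, add_sub_cancel_left]; exact Submodule.smul_mem _ c ha
  · refine Subgroup.mem_sup_right ?_
    rw [mem_rootGroup, hc, add_sub_cancel_left]; exact Submodule.smul_mem _ c hb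

end Cfsg.Agent.RootSub.Quad
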