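import Cfsg.Agent.RootSub.Quad.RankOne

/-!
# The set Σ of root groups of a quadratic pair: opposites and the commutator case
-/

namespace Cfsg.Agent.RootSub.Quad

open Cfsg
open scoped Pointwise commutatorElement IsMulCommutative

variable {k : Type*} [Field k] {M : Type*} [AddCommGroup M] [Module k M] [FiniteDimensional k M]
variable {G : Subgroup (LinearMap.GeneralLinearGroup k M)}
variable (h2 : (2 : k) ≠ 0) (h3 : Nat.card k ≠ 3)

theorem exists_ne_zero_fixed {H : Subgroup (LinearMap.GeneralLinearGroup k M)}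
    (hH : IsUnipotentOn H) (hM : ∃ m : M, m ≠ 0) : fixedSubmodule H ≠ ⊥ := by
  classical
  obtain ⟨n, hn⟩ := exists_series_eq_bot hH
  have hex : ∃ n, augSeries (augSpan H) n = ⊥ := ⟨n, hn⟩
  rcases Nat.eq_zero_or_pos (Nat.find hex) with h0 | h0
  · have h := Nat.find_spec hex
    rw [h0] at h
    obtain ⟨m, hm⟩ := hM
    exact absurd ((Submodule.eq_bot_iff _).mp h m Submodule.mem_top) hm
  · obtain ⟨j, hj⟩ := Nat.exists_eq_succ_of_ne_zero h0.ne'
    have hne : augSeries (augSpan H) j ≠ ⊥ := Nat.find_min hex (by omega)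
    intro hb
    apply hne
    rw [eq_bot_iff, ← hb]
    refine le_iInf₂ fun g hg m hm => ?_
    have h := Nat.find_spec hex
    rw [hj] at h
    have := apply_mem_augSeries (sub_one_mem_augSpan hg) hm
    rw [h, Submodule.mem_bot] at this
    exact this

theorem fixedSubmodule_rootGroup {a : Module.End k M} (ha : IsMin G a) :
    fixedSubmodule (rootGroup G a) = LinearMap.ker a := by
  have := fixedSubmodule_sup ha ha
  rwa [sup_idem, inf_idem] at this

theorem commutatorSubmodule_rootGroup {a : Module.End k M} (ha : IsMin G a) :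
    commutatorSubmodule (rootGroup G a) = LinearMap.range a := by
  have := commutatorSubmodule_sup ha ha
  rwa [sup_idem, sup_idem] at this

/-- No non-trivial unipotent subgroup is normalised by all of G. -/
def NoUnipNormal (G : Subgroup (LinearMap.GeneralLinearGroup k M)) : Prop :=
  ∀ U : Subgroup (LinearMap.GeneralLinearGroup k M),
    U ≤ G → IsUnipotentOn U → (∀ g ∈ G, conjBy U g = U) → U = ⊥

theorem noUnipNormal_of_irreducible (hirr : IsIrreducibleFor G) : NoUnipNormal G := by
  intro U hUG hU hn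
  rcases hirr.2 (fixedSubmodule U) (fun g hg w hw => by
    simp only [fixedSubmodule, Submodule.mem_iInf] at hw ⊢
    intro u hu
    rw [← hn g hg] at hu
    obtain ⟨z, hz, rfl⟩ := hu
    have hzw : (z : Module.End k M) w = w := sub_eq_zero.mp (LinearMap.mem_ker.mp (hw z hz))
    rw [LinearMap.mem_ker]
    show ((g * z * g⁻¹ : LinearMap.GeneralLinearGroup k M) : Module.End k M) ((g : Module.End k M) w) -
      (g : Module.End k M) w = 0
    rw [← Module.End.mul_apply, ← Units.val_mul, inv_mul_cancel_right, Units.val_mul,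
      Module.End.mul_apply, hzw, sub_self]) with h | h
  · exact absurd h (exists_ne_zero_fixed hU hirr.1)
  · rw [eq_bot_iff]
    intro u hu
    rw [Subgroup.mem_bot]
    refine Units.ext (LinearMap.ext fun m => ?_)
    have hm : m ∈ fixedSubmodule U := h ▸ Submodule.mem_top
    simp only [fixedSubmodule, Submodule.mem_iInf] at hm
    exact sub_eq_zero.mp (LinearMap.mem_ker.mp (hm u hu))

variable (hpure : NoUnipNormal G)

include h2 h3 hpure

/-- Every minimal quadratic element has an opposite conjugate. -/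
theorem exists_opposite {c : Module.End k M} (hc : IsMin G c) :
    ∃ g ∈ G, IsOpp c (conjEnd g c) := by
  by_contra hcon
  push Not at hcon
  let W : Set (Subgroup (LinearMap.GeneralLinearGroup k M)) :=
    {A | ∃ g ∈ G, A = rootGroup G (conjEnd g c)}
  have hU : IsUnipotentOn (⨆ A ∈ W, A) := by
    refine isUnipotentOn_iSup ?_ ?_
    · rintro A ⟨g, hg, rfl⟩ B ⟨g', hg', rfl⟩
      refine isUnipotentOn_sup_rootGroup h2 h3 (hc.conj hg) (hc.conj hg') fun hopp => ?_
      apply hcon (g⁻¹ * g') (mul_mem (inv_mem hg) hg')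
      rw [← conjEnd_conjEnd, ← isOpp_conj g, conjEnd_conjEnd (u := g), mul_inv_cancel, conjEnd_one]
      exact hopp
    · rintro A ⟨g, hg, rfl⟩ B ⟨g', hg', rfl⟩ x hx
      have hxG := rootGroup_le hx
      exact ⟨x * g, mul_mem hxG hg, by rw [conjBy_rootGroup hxG, conjEnd_conjEnd]⟩
  have hmem : ∀ g ∈ G, rootGroup G (conjEnd g c) ≤ ⨆ A ∈ W, A := fun g hg =>
    le_iSup₂ (f := fun (A : Subgroup (LinearMap.GeneralLinearGroup k M)) (_ : A ∈ W) => A)
      (rootGroup G (conjEnd g c)) ⟨g, hg, rfl⟩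
  have hle : ∀ g ∈ G, conjBy (⨆ A ∈ W, A) g ≤ ⨆ A ∈ W, A := by
    intro g hg
    refine Subgroup.map_le_iff_le_comap.mpr (iSup₂_le ?_)
    rintro A ⟨g', hg', rfl⟩
    rw [← Subgroup.map_le_iff_le_comap]
    show conjBy _ g ≤ _
    rw [conjBy_rootGroup hg, conjEnd_conjEnd]
    exact hmem _ (mul_mem hg hg')
  have hbot := hpure _ (iSup₂_le fun A hA => by
    obtain ⟨g, -, rfl⟩ := hA; exact rootGroup_le) hU fun g hg => le_antisymm (hle g hg) (by
    refine le_trans ?_ (conjBy_mono (hle g⁻¹ (inv_mem hg)) g)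
    rw [conjBy_cancel_inv])
  have hc1 := hmem 1 (one_mem _)
  rw [conjEnd_one, hbot] at hc1
  exact hc.rootGroup_ne_bot (le_bot_iff.mp hc1)

/-- A member of Σ has a rank one partner. -/
theorem exists_rankOne_partner {c : Module.End k M} (hc : IsMin G c) :
    ∃ B ∈ quadraticRootSubgroups G, IsRankOnePair (rootGroup G c) B := by
  obtain ⟨g, hg, hopp⟩ := exists_opposite h2 h3 hpure hc
  exact ⟨_, (hc.conj hg).mem_sigma, (isSpecialRankOnePair h2 h3 hc (hc.conj hg) hopp).1⟩

omit hpure

theorem finrank_eq_of_opp {p q : Module.End k M} (hp : IsMin G p) (hq : IsMin G q)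
    (hpq : IsOpp p q) :
    Module.finrank k (rootSpace G p) = Module.finrank k (rootSpace G q) := by
  refine le_antisymm ?_ ?_
  · obtain ⟨g, hg, hge⟩ := exists_conj_opposite h2 h3 hp hq hpq
    rw [conjBy_rootGroup hg] at hge
    rw [← rootSpace_eq_of_rootGroup hge]
    exact finrank_rootSpace_conj hp hq hg
  · obtain ⟨g, hg, hge⟩ := exists_conj_opposite h2 h3 hq hp hpq.symm
    rw [conjBy_rootGroup hg] at hge
    rw [← rootSpace_eq_of_rootGroup hge]
    exact finrank_rootSpace_conj hq hp hg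

variable {a b : Module.End k M}

/-- The root space of the commutator does not depend on the choice of elements. -/
theorem commutator_mem (ha : IsMin G a) (hb : IsMin G b) (h : ¬ IsOpp a b)
    (hc : a * b - b * a ≠ 0) {x y : Module.End k M} (hx : x ∈ rootSpace G a)
    (hy : y ∈ rootSpace G b) : x * y - y * x ∈ rootSpace G (a * b - b * a) := by
  rcases eq_or_ne (x * y - y * x) 0 with h0 | h0
  · rw [h0]; exact zero_mem _
  obtain ⟨hm, hr, hk, -⟩ := commutator_data h2 h3 ha hb h hx hy h0
  obtain ⟨-, hr', hk', -⟩ := commutator_data h2 h3 ha hb h ha.self_mem hb.self_mem hc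
  rw [← rootSpace_congr (hr.trans hr'.symm) (hk.trans hk'.symm)]
  exact hm.self_mem

theorem commutator_ne_zero (ha : IsMin G a) (hb : IsMin G b) (h : ¬ IsOpp a b)
    (hc : a * b - b * a ≠ 0) {x y : Module.End k M} (hx : x ∈ rootSpace G a) (hx0 : x ≠ 0)
    (hy : y ∈ rootSpace G b) (hy0 : y ≠ 0) : x * y - y * x ≠ 0 := fun h0 =>
  hc (sub_eq_zero.mpr (commute_all h2 h3 ha hb h hx hx0 hy hy0 (sub_eq_zero.mp h0) ha.self_mem
    hb.self_mem))

/-- The root space of the commutator annihilates those of a and b. -/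
theorem commutator_annihilates (ha : IsMin G a) (hb : IsMin G b) (h : ¬ IsOpp a b)
    (hc : a * b - b * a ≠ 0) {x z : Module.End k M} (hx : x ∈ rootSpace G a)
    (hz : z ∈ rootSpace G (a * b - b * a)) : x * z = 0 ∧ z * x = 0 := by
  obtain ⟨hcm, hr, hk, hxy, hyx, -⟩ := commutator_data h2 h3 ha hb h ha.self_mem hb.self_mem hc
  have h1 : x * (a * b - b * a) = 0 := by
    rw [mul_sub, ← mul_assoc, mul_eq_zero_of_mem hx ha.self_mem, zero_mul, zero_sub,
      ← mul_assoc, triple_eq_zero h2 h3 ha hb h hx ha.self_mem hb.self_mem, neg_zero]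
  have h1' : (a * b - b * a) * x = 0 := by
    rw [sub_mul, triple_eq_zero h2 h3 ha hb h ha.self_mem hx hb.self_mem, mul_assoc b a x,
      mul_eq_zero_of_mem ha.self_mem hx, mul_zero, sub_zero]
  obtain ⟨hz1, hz2, -⟩ := (mem_rootSpace hcm.sq).mp hz
  exact ⟨LinearMap.range_le_ker_iff.mp (hz1.trans (LinearMap.range_le_ker_iff.mpr h1)),
    LinearMap.range_le_ker_iff.mp ((LinearMap.range_le_ker_iff.mpr h1').trans hz2)⟩

theorem commutator_annihilates' (ha : IsMin G a) (hb : IsMin G b) (h : ¬ IsOpp a b)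
    (hc : a * b - b * a ≠ 0) {y z : Module.End k M} (hy : y ∈ rootSpace G b)
    (hz : z ∈ rootSpace G (a * b - b * a)) : y * z = 0 ∧ z * y = 0 := by
  refine commutator_annihilates h2 h3 hb ha (fun h' => h h'.symm) (sub_ne_zero.mpr fun e => hc
    (sub_eq_zero.mpr e.symm)) hy ?_
  rwa [rootSpace_congr (a := b * a - a * b) (b := a * b - b * a)]
  · rw [← neg_sub, LinearMap.range_neg]
  · rw [← neg_sub, LinearMap.ker_neg]

include hpure

theorem finrank_left_eq (ha : IsMin G a) (hb : IsMin G b) (h : ¬ IsOpp a b)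
    (hc : a * b - b * a ≠ 0) :
    Module.finrank k (rootSpace G a) = Module.finrank k (rootSpace G (a * b - b * a)) := by
  set c := a * b - b * a with hcdef
  obtain ⟨hcm, -⟩ := commutator_data h2 h3 ha hb h ha.self_mem hb.self_mem hc
  have hbab : b * a * b = 0 := (nilpotent_case h2 ha hb (not_not.mp h)).2
  obtain ⟨g, hg, hopp⟩ := exists_opposite h2 h3 hpure hcm
  set δ := conjEnd g c
  have hδ : IsMin G δ := hcm.conj hg
  -- conjugates a - s c
  have hconj : ∀ s : k, ∃ u ∈ G, conjEnd u a = a - s • c := by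
    intro s
    have e1 : (s • b) * (s • b) = 0 := by rw [smul_mul_smul_comm, hb.sq, smul_zero]
    refine ⟨oneAddUnit (s • b) e1, ?_, ?_⟩
    · exact InG.mem (by rw [coe_oneAddUnit]; exact hb.inG s)
    · rw [conjEnd, coe_oneAddUnit, coe_oneAddUnit_inv,
        (show ∀ p : Module.End k M, (1 + p) * a * (1 - p) = a + (p * a - a * p) - p * a * p from
          fun p => by noncomm_ring) (s • b),
        smul_mul_assoc, mul_smul_comm, mul_smul_comm, smul_mul_assoc, hbab, smul_zero, smul_zero,
        sub_zero, ← smul_sub, hcdef, sub_eq_add_neg a, ← smul_neg, neg_sub]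
  obtain ⟨s, hs⟩ : ∃ s : k, IsOpp (a - s • c) δ := by
    by_contra hcon
    push Not at hcon
    have hz : ∀ s : k, (a - s • c) * δ * (a - s • c) = 0 := by
      intro s
      obtain ⟨u, hu, hue⟩ := hconj s
      exact (nilpotent_case h2 (hue ▸ ha.conj hu) hδ (not_not.mp (hcon s))).1
    have e0 := hz 0
    rw [zero_smul, sub_zero] at e0
    have e1 := hz 1
    rw [one_smul] at e1
    have e2 := hz (-1)
    rw [neg_one_smul, sub_neg_eq_add] at e2
    have e3 : (2 : k) • (c * δ * c) = 0 := by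
      have : (a - c) * δ * (a - c) + (a + c) * δ * (a + c) - a * δ * a - a * δ * a =
          c * δ * c + c * δ * c := by noncomm_ring
      rw [e0, e1, e2, sub_zero, sub_zero, add_zero] at this
      rw [two_smul, ← this]
    refine hopp ⟨2, ?_⟩
    rw [sq, ← mul_assoc, (smul_eq_zero.mp e3).resolve_left h2, zero_mul]
  obtain ⟨u, hu, hue⟩ := hconj s
  have hmin := hue ▸ ha.conj hu
  refine le_antisymm ?_ ?_
  · rw [finrank_eq_of_opp h2 h3 hcm hδ hopp, ← finrank_eq_of_opp h2 h3 hmin hδ hs, ← hue]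
    exact finrank_rootSpace_conj ha hb hu
  · rw [finrank_eq_of_opp h2 h3 hcm hδ hopp, ← finrank_eq_of_opp h2 h3 hmin hδ hs, ← hue]
    have h' := finrank_rootSpace_conj (a := conjEnd u a) (ha.conj hu) hb (inv_mem hu)
    rwa [conjEnd_conjEnd, inv_mul_cancel, conjEnd_one] at h'

/-- x ↦ [a, x] maps the root space of b onto that of the commutator. -/
theorem commutator_surjective (ha : IsMin G a) (hb : IsMin G b) (h : ¬ IsOpp a b)
    (hc : a * b - b * a ≠ 0) {x : Module.End k M} (hx : x ∈ rootSpace G a) (hx0 : x ≠ 0)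
    {z : Module.End k M} (hz : z ∈ rootSpace G (a * b - b * a)) :
    ∃ y ∈ rootSpace G b, x * y - y * x = z := by
  let L : rootSpace G b →ₗ[k] rootSpace G (a * b - b * a) :=
    { toFun := fun y => ⟨x * y.1 - y.1 * x, commutator_mem h2 h3 ha hb h hc hx y.2⟩
      map_add' := fun y y' => Subtype.ext
        (show x * (y.1 + y'.1) - (y.1 + y'.1) * x =
          (x * y.1 - y.1 * x) + (x * y'.1 - y'.1 * x) by noncomm_ring)
      map_smul' := fun r y => Subtype.ext
        (show x * (r • y.1) - (r • y.1) * x = r • (x * y.1 - y.1 * x) by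
          rw [mul_smul_comm, smul_mul_assoc, smul_sub]) }
  have hinj : Function.Injective L := by
    rw [← LinearMap.ker_eq_bot, LinearMap.ker_eq_bot']
    intro y hy
    by_contra hy0
    exact commutator_ne_zero h2 h3 ha hb h hc hx hx0 y.2 (fun e => hy0 (Subtype.ext e))
      (congrArg Subtype.val hy)
  have hdim : Module.finrank k (rootSpace G b) = Module.finrank k (rootSpace G (a * b - b * a)) := by
    rw [finrank_left_eq h2 h3 hpure hb ha (fun h' => h h'.symm)
      (sub_ne_zero.mpr fun e => hc (sub_eq_zero.mpr e.symm))]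
    rw [rootSpace_congr (a := b * a - a * b) (b := a * b - b * a)]
    · rw [← neg_sub, LinearMap.range_neg]
    · rw [← neg_sub, LinearMap.ker_neg]
  obtain ⟨y, hy⟩ := (LinearMap.injective_iff_surjective_of_finrank_eq_finrank hdim).mp hinj ⟨z, hz⟩
  exact ⟨y.1, y.2, congrArg Subtype.val hy⟩

omit hpure

theorem commutatorElement_root (ha : IsMin G a) (hb : IsMin G b) (h : ¬ IsOpp a b)
    {u v : LinearMap.GeneralLinearGroup k M} (hu : u ∈ rootGroup G a) (hv : v ∈ rootGroup G b) :
    ((⁅u, v⁆ : LinearMap.GeneralLinearGroup k M) : Module.End k M) =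
      1 + (((u : Module.End k M) - 1) * ((v : Module.End k M) - 1) -
        ((v : Module.End k M) - 1) * ((u : Module.End k M) - 1)) :=
  commutatorElement_eq_one_add (by abel) (by abel) (mul_eq_zero_of_mem hu hu)
    (mul_eq_zero_of_mem hv hv) (triple_eq_zero h2 h3 ha hb h hu hu hv)
    (triple_eq_zero h2 h3 hb ha (fun h' => h h'.symm) hv hv hu)

theorem commutator_eq_bot_iff (ha : IsMin G a) (hb : IsMin G b) (h : ¬ IsOpp a b) :
    ⁅rootGroup G a, rootGroup G b⁆ = ⊥ ↔ a * b - b * a = 0 := by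
  constructor
  · intro hbot
    have hm := Subgroup.commutator_mem_commutator (oneAddUnit_mem ha.self_mem ha.sq)
      (oneAddUnit_mem hb.self_mem hb.sq)
    rw [hbot, Subgroup.mem_bot] at hm
    have h' := congrArg Units.val hm
    rw [commutatorElement_eq_one_add (coe_oneAddUnit a ha.sq) (coe_oneAddUnit b hb.sq) ha.sq hb.sq
      (triple_eq_zero h2 h3 ha hb h ha.self_mem ha.self_mem hb.self_mem)
      (triple_eq_zero h2 h3 hb ha (fun h' => h h'.symm) hb.self_mem hb.self_mem ha.self_mem),
      Units.val_one, add_eq_left] at h'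
    exact h'
  · intro hc
    rw [eq_bot_iff, Subgroup.commutator_le]
    intro u hu v hv
    rw [Subgroup.mem_bot]
    apply Units.ext
    rw [commutatorElement_root h2 h3 ha hb h hu hv, Units.val_one, add_eq_left, sub_eq_zero]
    exact commute_all h2 h3 ha hb h ha.self_mem ha.ne_zero hb.self_mem hb.ne_zero
      (sub_eq_zero.mp hc) hu hv

theorem commute_of_opp (ha : IsMin G a) (hb : IsMin G b) (h : IsOpp a b) {x y : Module.End k M}
    (hx : x ∈ rootSpace G a) (hx0 : x ≠ 0) (hy : y ∈ rootSpace G b) (hy0 : y ≠ 0) :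
    x * y ≠ y * x := by
  intro he
  refine h.of_mem h2 h3 ha hb hx hx0 hy hy0 ⟨2, ?_⟩
  rw [sq, ← mul_assoc, he, mul_assoc y x x, mul_eq_zero_of_mem hx hx, mul_zero, zero_mul]

include hpure

/-- The commutator case, with its consequences. -/
theorem commutator_case (ha : IsMin G a) (hb : IsMin G b) (h : ¬ IsOpp a b)
    (hc : a * b - b * a ≠ 0) :
    ⁅rootGroup G a, rootGroup G b⁆ = rootGroup G (a * b - b * a) ∧
      (∀ e ∈ rootGroup G a, e ≠ 1 → Subgroup.closure
        ((fun f : LinearMap.GeneralLinearGroup k M => e * f * e⁻¹ * f⁻¹) '' (rootGroup G b : Set _)) =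
          rootGroup G (a * b - b * a)) ∧
      (∀ f ∈ rootGroup G b, f ≠ 1 → Subgroup.closure
        ((fun e : LinearMap.GeneralLinearGroup k M => e * f * e⁻¹ * f⁻¹) '' (rootGroup G a : Set _)) =
          rootGroup G (a * b - b * a)) := by
  set c := a * b - b * a with hcdef
  have hmem : ∀ u ∈ rootGroup G a, ∀ v ∈ rootGroup G b, ⁅u, v⁆ ∈ rootGroup G c := by
    intro u hu v hv
    rw [mem_rootGroup, commutatorElement_root h2 h3 ha hb h hu hv, add_sub_cancel_left]
    exact commutator_mem h2 h3 ha hb h hc hu hv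
  have hsurA : ∀ e ∈ rootGroup G a, e ≠ 1 → ∀ w ∈ rootGroup G c,
      ∃ f ∈ rootGroup G b, ⁅e, f⁆ = w := by
    intro e he he1 w hw
    obtain ⟨hx, hx0⟩ := exists_quadratic_ne_one_rep he he1
    obtain ⟨y, hy, hye⟩ := commutator_surjective h2 h3 hpure ha hb h hc hx hx0 hw
    refine ⟨oneAddUnit y (mul_eq_zero_of_mem hy hy), oneAddUnit_mem hy _, Units.ext ?_⟩
    rw [commutatorElement_root h2 h3 ha hb h he (oneAddUnit_mem hy _), coe_oneAddUnit,
      add_sub_cancel_left, hye]
    abel
  have hsurB : ∀ f ∈ rootGroup G b, f ≠ 1 → ∀ w ∈ rootGroup G c,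
      ∃ e ∈ rootGroup G a, ⁅e, f⁆ = w := by
    intro f hf hf1 w hw
    obtain ⟨hy, hy0⟩ := exists_quadratic_ne_one_rep hf hf1
    have hneg : rootSpace G (b * a - a * b) = rootSpace G c := by
      refine rootSpace_congr ?_ ?_
      · rw [← neg_sub, LinearMap.range_neg]
      · rw [← neg_sub, LinearMap.ker_neg]
    obtain ⟨x, hx, hxe⟩ := commutator_surjective h2 h3 hpure hb ha (fun h' => h h'.symm)
      (sub_ne_zero.mpr fun e => hc (sub_eq_zero.mpr e.symm)) hy hy0
      (z := -((w : Module.End k M) - 1)) (hneg ▸ neg_mem hw)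
    refine ⟨oneAddUnit x (mul_eq_zero_of_mem hx hx), oneAddUnit_mem hx _, Units.ext ?_⟩
    rw [commutatorElement_root h2 h3 ha hb h (oneAddUnit_mem hx _) hf, coe_oneAddUnit,
      add_sub_cancel_left, ← neg_sub (((f : Module.End k M) - 1) * x), hxe]
    abel
  refine ⟨le_antisymm (Subgroup.commutator_le.mpr hmem) ?_, fun e he he1 => le_antisymm ?_ ?_,
    fun f hf hf1 => le_antisymm ?_ ?_⟩
  · intro w hw
    have h1 : oneAddUnit a ha.sq ≠ 1 := fun e => ha.ne_zero (by
      have e' := congrArg Units.val e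
      rwa [coe_oneAddUnit, Units.val_one, add_eq_left] at e')
    obtain ⟨f, hf, rfl⟩ := hsurA _ (oneAddUnit_mem ha.self_mem ha.sq) h1 w hw
    exact Subgroup.commutator_mem_commutator (oneAddUnit_mem ha.self_mem ha.sq) hf
  · refine (Subgroup.closure_le _).mpr ?_
    rintro _ ⟨f, hf, rfl⟩
    exact hmem e he f hf
  · intro w hw
    obtain ⟨f, hf, rfl⟩ := hsurA e he he1 w hw
    exact Subgroup.subset_closure ⟨f, hf, rfl⟩
  · refine (Subgroup.closure_le _).mpr ?_
    rintro _ ⟨e, he, rfl⟩
    exact hmem e he f hf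
  · intro w hw
    obtain ⟨e, he, rfl⟩ := hsurB f hf hf1 w hw
    exact Subgroup.subset_closure ⟨e, he, rfl⟩

omit hpure

theorem commutator_central (ha : IsMin G a) (hb : IsMin G b) (h : ¬ IsOpp a b)
    (hc : a * b - b * a ≠ 0) {w x : LinearMap.GeneralLinearGroup k M}
    (hw : w ∈ rootGroup G (a * b - b * a)) (hx : x ∈ rootGroup G a ⊔ rootGroup G b) :
    w * x = x * w := by
  have hle : rootGroup G a ⊔ rootGroup G b ≤ Subgroup.centralizer {w} := by
    refine sup_le (fun u hu => ?_) (fun u hu => ?_)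
    all_goals
      rw [Subgroup.mem_centralizer_singleton_iff]
      apply Units.ext
      rw [Units.val_mul, Units.val_mul, ← sub_eq_zero]
    · obtain ⟨e1, e2⟩ := commutator_annihilates h2 h3 ha hb h hc hu hw
      calc (u : Module.End k M) * w - w * u
          = ((u : Module.End k M) - 1) * ((w : Module.End k M) - 1) -
            ((w : Module.End k M) - 1) * ((u : Module.End k M) - 1) := by noncomm_ring
        _ = 0 := by rw [e1, e2, sub_zero]
    · obtain ⟨e1, e2⟩ := commutator_annihilates' h2 h3 ha hb h hc hu hw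
      calc (u : Module.End k M) * w - w * u
          = ((u : Module.End k M) - 1) * ((w : Module.End k M) - 1) -
            ((w : Module.End k M) - 1) * ((u : Module.End k M) - 1) := by noncomm_ring
        _ = 0 := by rw [e1, e2, sub_zero]
  exact (Subgroup.mem_centralizer_singleton_iff.mp (hle hx)).symm

include hpure

/-- The trichotomy for two members of Σ. -/
theorem pair_cases {A B : Subgroup (LinearMap.GeneralLinearGroup k M)}
    (hA : A ∈ quadraticRootSubgroups G) (hB : B ∈ quadraticRootSubgroups G) :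
    ⁅A, B⁆ = ⊥ ∨ IsRankOnePair A B ∨ RootCommutatorCase (quadraticRootSubgroups G) A B := by
  obtain ⟨a, ha, rfl⟩ := mem_quadraticRootSubgroups.mp hA
  obtain ⟨b, hb, rfl⟩ := mem_quadraticRootSubgroups.mp hB
  by_cases h : IsOpp a b
  · exact Or.inr (Or.inl (isSpecialRankOnePair h2 h3 ha hb h).1)
  by_cases hc : a * b - b * a = 0
  · exact Or.inl ((commutator_eq_bot_iff h2 h3 ha hb h).mpr hc)
  obtain ⟨h1, h2', h3'⟩ := commutator_case h2 h3 hpure ha hb h hc
  obtain ⟨hcm, -⟩ := commutator_data h2 h3 ha hb h ha.self_mem hb.self_mem hc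
  refine Or.inr (Or.inr ⟨h1.symm ▸ hcm.mem_sigma, fun w hw x hx => ?_, fun e he he1 => ?_,
    fun f hf hf1 => ?_⟩)
  · exact commutator_central h2 h3 ha hb h hc (h1 ▸ hw) hx
  · rw [h1]; exact h2' e he he1
  · rw [h1]; exact h3' f hf hf1

end Cfsg.Agent.RootSub.Quad
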