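import Cfsg.Agent.RootSub.Quad.Sigma

/-!
# The commutator case: class two and the unipotent core
-/

namespace Cfsg.Agent.RootSub.Quad

open Cfsg
open scoped Pointwise commutatorElement IsMulCommutative

variable {k : Type*} [Field k] {M : Type*} [AddCommGroup M] [Module k M] [FiniteDimensional k M]
variable {G : Subgroup (LinearMap.GeneralLinearGroup k M)}
variable (h2 : (2 : k) ≠ 0) (h3 : Nat.card k ≠ 3)

/-- Commutators of a group generated by two abelian subgroups with central commutators. -/
theorem commutator_sup_le {H : Type*} [Group H] {A B C : Subgroup H}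
    (hA : IsMulCommutative A) (hB : IsMulCommutative B)
    (hAB : ∀ a ∈ A, ∀ b ∈ B, ⁅a, b⁆ ∈ C) (hC : ∀ c ∈ C, ∀ x ∈ A ⊔ B, c * x = x * c) :
    ⁅A ⊔ B, A ⊔ B⁆ ≤ C := by
  have hgen : A ⊔ B = Subgroup.closure ((A : Set H) ∪ B) := Subgroup.sup_eq_closure A B
  have hcomm : ∀ {D : Subgroup H}, IsMulCommutative D → ∀ x ∈ D, ∀ y ∈ D, ⁅x, y⁆ = 1 := by
    intro D hD x hx y hy
    rw [commutatorElement_eq_one_iff_mul_comm]
    exact congrArg Subtype.val (hD.is_comm.comm (⟨x, hx⟩ : D) ⟨y, hy⟩)
  have hinner : ∀ g ∈ (A : Set H) ∪ B, ∀ h ∈ A ⊔ B, ⁅g, h⁆ ∈ C := by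
    intro g hg h hh
    have hgS : g ∈ A ⊔ B := by
      rcases hg with hg | hg
      exacts [Subgroup.mem_sup_left hg, Subgroup.mem_sup_right hg]
    rw [hgen] at hh
    induction hh using Subgroup.closure_induction with
    | mem x hx =>
      rcases hg with hg | hg <;> rcases hx with hx | hx
      · rw [hcomm hA g hg x hx]; exact one_mem _
      · exact hAB g hg x hx
      · rw [← commutatorElement_inv]; exact inv_mem (hAB x hx g hg)
      · rw [hcomm hB g hg x hx]; exact one_mem _
    | one => rw [commutatorElement_one_right]; exact one_mem _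
    | mul x y hx hy ihx ihy =>
      have e : ⁅g, x * y⁆ = ⁅g, x⁆ * (x * ⁅g, y⁆ * x⁻¹) := by
        simp only [commutatorElement_def]; group
      rw [e, ← hC _ ihy x (hgen ▸ hx), mul_inv_cancel_right]
      exact mul_mem ihx ihy
    | inv x hx ihx =>
      have e : ⁅g, x⁻¹⁆ = x⁻¹ * ⁅g, x⁆⁻¹ * x := by
        simp only [commutatorElement_def]; group
      rw [e, ← hC _ (inv_mem ihx) x⁻¹ (hgen ▸ inv_mem hx), inv_mul_cancel_right]
      exact inv_mem ihx
  rw [Subgroup.commutator_le]
  intro g hg h hh
  rw [hgen] at hg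
  induction hg using Subgroup.closure_induction with
  | mem x hx => exact hinner x hx h hh
  | one => rw [commutatorElement_one_left]; exact one_mem _
  | mul x y hx hy ihx ihy =>
    have e : ⁅x * y, h⁆ = (x * ⁅y, h⁆ * x⁻¹) * ⁅x, h⁆ := by
      simp only [commutatorElement_def]; group
    rw [e, ← hC _ ihy x (hgen ▸ hx), mul_inv_cancel_right]
    exact mul_mem ihy ihx
  | inv x hx ihx =>
    have e : ⁅x⁻¹, h⁆ = x⁻¹ * ⁅x, h⁆⁻¹ * x := by
      simp only [commutatorElement_def]; group
    rw [e, ← hC _ (inv_mem ihx) x⁻¹ (hgen ▸ inv_mem hx), inv_mul_cancel_right]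
    exact inv_mem ihx

include h2 h3

theorem class_two {a b : Module.End k M} (ha : IsMin G a) (hb : IsMin G b) (h : ¬ IsOpp a b)
    (hc : a * b - b * a ≠ 0) (hirr : NoUnipNormal G) :
    ⁅rootGroup G a ⊔ rootGroup G b, rootGroup G a ⊔ rootGroup G b⁆ ≠ ⊥ ∧
      ⁅⁅rootGroup G a ⊔ rootGroup G b, rootGroup G a ⊔ rootGroup G b⁆,
        rootGroup G a ⊔ rootGroup G b⁆ = ⊥ := by
  obtain ⟨h1, -, -⟩ := commutator_case h2 h3 hirr ha hb h hc
  constructor
  · intro h0
    have hle : ⁅rootGroup G a, rootGroup G b⁆ ≤ ⊥ :=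
      (Subgroup.commutator_mono le_sup_left le_sup_right).trans h0.le
    exact hc ((commutator_eq_bot_iff h2 h3 ha hb h).mp (le_bot_iff.mp hle))
  · rw [eq_bot_iff]
    have hC : ∀ w ∈ rootGroup G (a * b - b * a), ∀ x ∈ rootGroup G a ⊔ rootGroup G b,
        w * x = x * w := fun w hw x hx => commutator_central h2 h3 ha hb h hc hw hx
    refine (Subgroup.commutator_mono (commutator_sup_le (rootGroup_comm a) (rootGroup_comm b)
      (fun u hu v hv => h1 ▸ Subgroup.commutator_mem_commutator hu hv) hC) le_rfl).trans ?_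
    rw [Subgroup.commutator_le]
    intro w hw x hx
    rw [Subgroup.mem_bot, commutatorElement_eq_one_iff_mul_comm]
    exact hC w hw x hx

/-- ⟨E, F⟩ lies in the unipotent core of the commutator. -/
theorem sup_subset_core {a b : Module.End k M} (ha : IsMin G a) (hb : IsMin G b)
    (h : ¬ IsOpp a b) (hc : a * b - b * a ≠ 0) :
    ((rootGroup G a ⊔ rootGroup G b : Subgroup (LinearMap.GeneralLinearGroup k M)) : Set _) ⊆
      quadraticUnipotentCore G (rootGroup G (a * b - b * a)) := by
  obtain ⟨hcm, hr, hk, hxy, hyx, -⟩ := commutator_data h2 h3 ha hb h ha.self_mem hb.self_mem hc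
  set c := a * b - b * a with hcdef
  let N : Subgroup (LinearMap.GeneralLinearGroup k M) :=
    { carrier := {g | (∀ m, (g : Module.End k M) m - m ∈ LinearMap.ker c) ∧
        (∀ m ∈ LinearMap.ker c, (g : Module.End k M) m - m ∈ LinearMap.range c) ∧
        ∀ m ∈ LinearMap.range c, (g : Module.End k M) m = m}
      one_mem' := ⟨fun m => by simp, fun m _ => by simp, fun m _ => rfl⟩
      mul_mem' := by
        rintro u v ⟨u1, u2, u3⟩ ⟨v1, v2, v3⟩
        refine ⟨fun m => ?_, fun m hm => ?_, fun m hm => ?_⟩ <;> rw [Units.val_mul, Module.End.mul_apply]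
        · have := add_mem (u1 ((v : Module.End k M) m)) (v1 m)
          rwa [sub_add_sub_cancel] at this
        · have hv : (v : Module.End k M) m ∈ LinearMap.ker c := by
            have := add_mem (v1 m) hm
            rwa [sub_add_cancel] at this
          have := add_mem (u2 _ hv) (v2 m hm)
          rwa [sub_add_sub_cancel] at this
        · rw [v3 m hm, u3 m hm]
      inv_mem' := by
        rintro u ⟨u1, u2, u3⟩
        have hinv : ∀ m, (u : Module.End k M) (((u⁻¹ : LinearMap.GeneralLinearGroup k M) : Module.End k M) m) = m := by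
          intro m
          rw [← Module.End.mul_apply, Units.mul_inv]; rfl
        refine ⟨fun m => ?_, fun m hm => ?_, fun m hm => ?_⟩
        · have := neg_mem (u1 (((u⁻¹ : LinearMap.GeneralLinearGroup k M) : Module.End k M) m))
          rwa [hinv, neg_sub] at this
        · have h1 := u1 (((u⁻¹ : LinearMap.GeneralLinearGroup k M) : Module.End k M) m)
          rw [hinv] at h1
          have hm' : ((u⁻¹ : LinearMap.GeneralLinearGroup k M) : Module.End k M) m ∈ LinearMap.ker c := by
            have := sub_mem hm h1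
            rwa [sub_sub_cancel] at this
          have := neg_mem (u2 _ hm')
          rwa [hinv, neg_sub] at this
        · conv_lhs => rw [← u3 m hm]
          rw [← Module.End.mul_apply, Units.inv_mul]
          rfl }
  have hN : rootGroup G a ⊔ rootGroup G b ≤ N := by
    refine sup_le (fun u hu => ?_) (fun u hu => ?_)
    · have hu' := (mem_rootSpace ha.sq).mp hu
      refine ⟨fun m => ?_, fun m hm => ?_, fun m hm => ?_⟩
      · rw [hk]
        have hm' : (u : Module.End k M) m - m ∈ LinearMap.range a := hu'.1 ⟨m, rfl⟩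
        exact ⟨Submodule.mem_sup_right hm', Submodule.mem_sup_left
          (ha.toIsQuad.range_le_ker hm')⟩
      · rw [hk, Submodule.mem_inf] at hm
        obtain ⟨p, hp, q, hq, rfl⟩ := Submodule.mem_sup.mp hm.2
        obtain ⟨z, rfl⟩ := hq
        have hp0 : ((u : Module.End k M) - 1) p = 0 := hu'.2.1 hp
        have hgoal : ((u : Module.End k M) - 1) (p + b z) = ((u : Module.End k M) - 1) (b z) := by
          rw [map_add, hp0, zero_add]
        show ((u : Module.End k M) - 1) (p + b z) ∈ LinearMap.range c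
        rw [hgoal, hr]
        refine Submodule.mem_sup_left ⟨hu'.1 ⟨_, rfl⟩, ?_⟩
        show b (((u : Module.End k M) - 1) (b z)) = 0
        have h0 := triple_eq_zero h2 h3 hb ha (fun h' => h h'.symm) hb.self_mem hb.self_mem hu
        exact LinearMap.congr_fun h0 z
      · obtain ⟨z, rfl⟩ := hm
        have h0 := (commutator_annihilates h2 h3 ha hb h hc hu hcm.self_mem).1
        exact sub_eq_zero.mp (LinearMap.congr_fun h0 z)
    · have hu' := (mem_rootSpace hb.sq).mp hu
      refine ⟨fun m => ?_, fun m hm => ?_, fun m hm => ?_⟩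
      · rw [hk]
        have hm' : (u : Module.End k M) m - m ∈ LinearMap.range b := hu'.1 ⟨m, rfl⟩
        exact ⟨Submodule.mem_sup_left (hb.toIsQuad.range_le_ker hm'),
          Submodule.mem_sup_right hm'⟩
      · rw [hk, Submodule.mem_inf] at hm
        obtain ⟨p, hp, q, hq, rfl⟩ := Submodule.mem_sup.mp hm.1
        obtain ⟨z, rfl⟩ := hq
        have hp0 : ((u : Module.End k M) - 1) p = 0 := hu'.2.1 hp
        have hgoal : ((u : Module.End k M) - 1) (p + a z) = ((u : Module.End k M) - 1) (a z) := by
          rw [map_add, hp0, zero_add]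
        show ((u : Module.End k M) - 1) (p + a z) ∈ LinearMap.range c
        rw [hgoal, hr]
        refine Submodule.mem_sup_right ⟨hu'.1 ⟨_, rfl⟩, ?_⟩
        show a (((u : Module.End k M) - 1) (a z)) = 0
        have h0 := triple_eq_zero h2 h3 ha hb h ha.self_mem ha.self_mem hu
        exact LinearMap.congr_fun h0 z
      · obtain ⟨z, rfl⟩ := hm
        have h0 := (commutator_annihilates' h2 h3 ha hb h hc hu hcm.self_mem).1
        exact sub_eq_zero.mp (LinearMap.congr_fun h0 z)
  intro g hg
  obtain ⟨g1, g2, g3⟩ := hN hg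
  refine ⟨(sup_le rootGroup_le rootGroup_le) hg, ?_, ?_, ?_, ?_⟩
  · rw [Subgroup.mem_normalizer_iff]
    intro w
    constructor
    · intro hw
      rw [← commutator_central h2 h3 ha hb h hc hw hg, mul_inv_cancel_right]; exact hw
    · intro hw
      have he := commutator_central h2 h3 ha hb h hc hw hg
      rw [inv_mul_cancel_right] at he
      rw [mul_left_cancel he]; exact hw
  · intro m; rw [fixedSubmodule_rootGroup hcm]; exact g1 m
  · intro m hm
    rw [fixedSubmodule_rootGroup hcm] at hm
    rw [commutatorSubmodule_rootGroup hcm]; exact g2 m hm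
  · intro m hm
    rw [commutatorSubmodule_rootGroup hcm] at hm
    exact g3 m hm

end Cfsg.Agent.RootSub.Quad
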